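import Cfsg.Agent.H16.J3b
import Cfsg.Agent.H16.J3c
import Cfsg.Agent.H16.J3d
import Cfsg.Prelude.Def_Spor_J3

/-! The Janko group `J₃`. -/

set_option autoImplicit false
set_option maxRecDepth 100000
set_option Elab.async false

namespace Cfsg.Agent.H16.J3

open Cfsg MulAction Mdl Matrix Spor
open scoped LinearAlgebra.Projectivization

section gen
variable {F : Type*} [Field F] {ω : F} {ι : Type*} [Fintype ι] [DecidableEq ι] {ix : ι → ℕ} (h : Q4 ω ix 9)

noncomputable abbrev ML : Mdl (linOps mul18 mul18Ap mul18One (9 + 9)) (GL ι F) (ι → F) := linMdl b4 h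
noncomputable abbrev M : Mdl o (Equiv.Perm (ℙ F (ι → F))) (ℙ F (ι → F)) := prjMdl b4 h
noncomputable def T : Subgroup (GL ι F) := (ML h).clo (KS.map Prod.fst)
noncomputable def K : Subgroup (Equiv.Perm (ℙ F (ι → F))) := (M h).clo (KS.map Prod.fst)

theorem hv : (M h).Val (v4B 9) := val_prj b4 h
theorem hpt : allL pts (v4B 9) = true := by decide +kernel
theorem kT : (ML h).PrL (T h) KS := (prL_lin b4 h (S := KS) (by decide +kernel)).clo
theorem T_map : (T h).map (toP ι F) = K h := map_clo (kT h).inL
theorem kK : (M h).PrL (K h) KS := T_map h ▸ prL_toP (kT h)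
theorem wT : (ML h).In (T h) W := ((kT h).inL.of_slp [[0, 0, 0, 0, 0, 0, 0, 0, 0, 0, 0, 0, 0, 0, 0, 0, 0, 0], [1, 1, 1, 1, 1, 1, 1, 1, 1, 1, 1, 1, 1, 1, 1, 1, 1, 1], [2, 2, 3, 2, 3, 3, 3, 3, 2, 1, 1, 1, 1, 1, 0, 0, 0, 0, 1], [3, 2, 2, 2, 2, 3, 3, 3, 3, 3, 0, 1, 1, 1, 1, 0, 1, 0, 0], [2, 2, 3, 3, 2, 3, 2, 2, 1, 1, 1, 0, 1, 1, 0, 1], [3, 2, 3, 3, 2, 3, 3, 3, 0, 0, 1, 0, 1, 1, 0, 0], [2, 2, 2, 2, 3, 3, 3, 2, 3, 0, 0, 0, 0, 0, 0, 1, 0, 0, 0], [8, 8]] (A := [W]) (by decide +kernel)).head
theorem hH : (M h).PrL (K h) HS := (kK h).inL.prL [[0, 0, 0, 0, 0, 0, 0, 0, 0, 0, 0, 0, 0, 0, 0, 0, 0, 0], [1, 1, 1, 1, 1, 1, 1, 1, 1, 1, 1, 1, 1, 1, 1, 1, 1, 1], [2, 2, 3, 2, 3, 3, 3, 3, 2, 1, 1, 1, 1, 1, 0, 0, 0, 0, 1], [3, 2, 2, 2, 2, 3, 3, 3, 3, 3, 0, 1, 1, 1, 1, 0, 1, 0, 0], [2, 2, 3, 3, 2, 3, 2, 2, 1, 1, 1, 0, 1, 1, 0, 1], [3, 2, 3, 3, 2, 3, 3, 3, 0, 0, 1, 0, 1, 1, 0, 0], [2, 2, 2, 2, 3, 3, 3, 2, 3, 0, 0, 0, 0, 0, 0, 1, 0, 0, 0], [8, 8]] (by decide +kernel)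
theorem chK : N.Chain (M h) (K0 :: HL) (K h) :=
  N.chain_top (hv h) (kK h) (N.chain_ss (hv h) (hH h) chkH) (hH h).inL (by decide +kernel) tree ss
theorem card : Nat.card (K h) = 50232960 := (chK h).card.trans (by decide +kernel)
instance fin : Finite (K h) := (chK h).finite
theorem hP : (M h).PrL (K h) P := (chK h).prL (prL_prj b4 h cP.1) cP.2
theorem sub {S : List (ℕ × ℕ)} (e : ∀ p ∈ S, p ∈ P) : (M h).PrL (K h) S := N.PrL.sub (hP h) e
theorem els {S : List ℕ} (e : subB S (KS.map Prod.fst ++ P.map Prod.fst) = true) : (M h).InL (K h) S :=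
  InL.sub (fun p hp => (List.mem_append.mp hp).elim ((kK h).inL p) ((hP h).inL p)) e
theorem habc : (M h).InL (K h) [pa, pb, pc] := els h (by decide +kernel)

theorem exL : ∃ L, K h ≤ L ∧ NormBy L (K h) ∧ (M h).In L ps ∧ N.Chain (M h) (K0 :: AL) L := by
  obtain ⟨σ, r⟩ := exists_semi b4 h (s := ps) (by decide +kernel)
  have e : σ * σ = 1 := isOne_spec ((M h).R_mul r r) (by decide +kernel)
  have hn := (chK h).conj_mem le_rfl (U := [(ps, ps)]) (by decide +kernel) List.mem_cons_self r
    (by rwa [← eq_inv_of_mul_eq_one_left e])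
  have h2 : σ * σ ∈ K h := e ▸ (K h).one_mem
  obtain ⟨hf, hc⟩ := card_ext2_le (hn := hn) (h2 := h2)
  refine ⟨_, le_ext2, normBy_ext2 (hn := hn) (h2 := h2), ⟨σ, mem_ext2, r⟩, (chK h).lift (hv h) le_ext2
    (hc.trans (by rw [card]; decide +kernel)) (S := AS) (InL.prL (S := HS.map Prod.fst ++ [ps]) (fun p hp => ?_) [[0, 0, 0, 0, 0, 0, 0, 0, 0, 0, 0, 0, 0, 0, 0, 0, 0, 0, 0, 0, 0, 0, 0], [1, 1, 1, 1, 1, 1, 1, 1, 1, 1, 1, 1, 1, 1, 1, 1, 1, 1, 1, 1, 1, 1, 1, 1, 1, 1, 1, 1, 1], [2, 3, 3, 3, 2, 1, 1, 1, 2], [5, 5, 5, 5, 5], [6, 6, 6, 6, 6, 3, 3, 2, 6, 2, 5, 5, 1, 1], [7, 7], [3, 3, 2, 5, 0, 2, 0], [9, 9, 9, 9, 9]]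
    (by decide +kernel)) (by decide +kernel)⟩
  rcases List.mem_append.mp hp with hp | hp
  · exact ((hH h).inL p hp).mono le_ext2
  · exact List.mem_singleton.mp hp ▸ ⟨σ, mem_ext2, r⟩

theorem selfc : ∀ a, (M h).R pa a → ∀ g ∈ K h, g * a = a * g → g ∈ Subgroup.zpowers a := fun _ ra g hg =>
  let ⟨_, h1, _, _, h2⟩ := exL h; h2.selfcent ra cA g (h1 hg)

theorem simple : IsSimpleGroup (K h) :=
  Mdl.simple (hv h) hpt (habc h).head (p := 19) (m := 2643840) (by norm_num) (card h) (by norm_num)
    (numer_of [2, 3, 5, 17] 22 (by simp) (by norm_num) (by norm_num) (by decide +kernel)) (selfc h) (by decide +kernel) le_rfl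
    (U := [(pu, pu'), (mul18One, mul18One)]) (fun p hp => (List.mem_cons.mp hp).elim (fun e => e ▸ hP h _ (by decide +kernel))
      fun e => List.mem_singleton.mp e ▸ Pr.one) (A := [pa, pa2]) [] (by decide +kernel)

theorem card_out : Nat.card (Out (K h)) = 2 := by
  obtain ⟨L, h1, h2, h3, h4⟩ := exL h
  have hB : N.Chain (M h) (K0 :: BL) (K h) :=
    (chK h).rebase (hv h) (S := BS) ((hH h).inL.prL [[0, 0, 0, 0, 0, 0, 0, 0, 0, 0, 0, 0, 0, 0, 0, 0, 0, 0, 0, 0, 0, 0, 0], [1, 1, 1, 1, 1, 1, 1, 1, 1, 1, 1, 1, 1, 1, 1, 1, 1, 1, 1, 1, 1, 1, 1, 1, 1, 1, 1, 1, 1], [2, 2, 2, 2, 3, 2, 2, 2, 1, 1, 0, 0, 1, 0, 0, 0], [4, 4], [5, 3, 2, 3, 0, 0, 1, 1, 1], [6, 6], [3, 3, 0, 0, 4, 1, 1], [8, 8]] (by decide +kernel)) (by decide +kernel)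
  have := h4.finite
  exact card_out_of_autBy h1 h2 (Mdl.autBy (hv h) hpt h1 h2 (p := 19) (m := 2643840) (by norm_num) (card h) (by norm_num) (habc h)
    (clo_le_slp (habc h) [[0, 0, 0, 0, 0, 0, 0, 0, 0, 0, 0, 0, 0, 0, 0, 0, 0, 0], [1, 1, 1, 1, 1, 1, 1, 1], [2, 2, 2, 2, 2, 2, 2, 2], [4, 4, 3, 5, 5, 3, 3, 5, 3, 2, 2, 0, 2, 2, 0, 2, 0, 0, 2, 1, 0], [6, 6, 6, 6, 6], [3, 3, 3, 7, 4, 4, 3, 4, 0, 1, 1, 6, 1, 6, 1, 6, 1, 0], [3, 4, 7, 4, 7, 4, 7, 4, 4, 3, 1, 0, 1, 1, 6, 0, 0, 0], [3, 3, 9, 3, 9, 5, 7, 9, 6, 0, 1, 8, 8, 2, 1, 0, 2], [5, 3, 4, 5, 9, 9, 4, 3, 7, 8, 6, 2, 8, 0, 8, 0, 0], [7, 9, 7, 11, 9, 10, 10, 6, 10, 6, 8, 6], [12, 12], [7, 13, 9, 11, 8, 6, 12, 10], [14, 14], [15, 11, 8, 12, 8, 8], [16, 0, 14, 2, 8, 12, 6, 12, 14, 16, 16]] (by decide +kernel)) (selfc h) (U := Un) (V := [mul18One]) (E := [1])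
    ((InL.cons h3 ((els h (S := [pk]) (by decide +kernel)).mono h1)).of_slp [[0, 1], [], [2, 2], [2, 4], [2, 5], [2, 6], [2, 7], [2, 8], [2, 9], [2, 10], [2, 11], [2, 12], [2, 13], [2, 14], [2, 15], [2, 16], [2, 17], [2, 18]] (by decide +kernel))
    (.cons In.one .nil) (t := 16) (s := 1) (by decide +kernel) fun _ _ rb rc _ hz hzb => hB.cent rb rc cB hz hzb)
    (cent_triv_of_self (hv h) hpt (habc h).head (habc h).tail.head (p := 19) (by norm_num)
      (fun _ ra => h4.selfcent ra cA) (by decide +kernel) (by decide +kernel)) (by rw [h4.card, card]; decide +kernel)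

theorem center_bot : Subgroup.center (K h) = ⊥ :=
  have := simple h
  center_eq_bot_of_simple (by rw [card]; norm_num)

theorem quot {T' : Subgroup (GL ι F)} (h1 : T h ≤ T') (h2 : T'.map (toP ι F) = K h) :
    Nat.card (Subgroup.center T') = 3 ∧ Nonempty (T' ⧸ Subgroup.center T' ≃* K h) :=
  h2 ▸ center_quot ((wT h).mono h1) (h2 ▸ center_bot h)

theorem chR : N.Chain (M h) RL ((M h).clo (RS.map Prod.fst)) := N.chain_ss (hv h) (sub h (by decide +kernel)) (by decide +kernel)

theorem exists_8160 : ∃ H : Subgroup (K h), Nat.card H = 8160 :=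
  ⟨_, (Nat.card_congr (Subgroup.subgroupOfEquivOfLe (clo_le (sub h (S := RS) (by decide +kernel)).inL)).toEquiv).trans
    ((chR h).card.trans (by decide +kernel))⟩

noncomputable def C := (M h).clo (CS.map Prod.fst)
noncomputable def Q := (M h).clo (QS.map Prod.fst)
theorem hCS : (M h).PrL (K h) CS := sub h (by decide +kernel)
theorem hSS : (M h).PrL (K h) SS := sub h (by decide +kernel)
theorem hQS : (M h).PrL (K h) QS := sub h (by decide +kernel)
theorem chC : N.Chain (M h) CL (C h) := N.chain_ss (hv h) (hCS h) (by decide +kernel)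
theorem chS : N.Chain (M h) SL ((M h).clo (SS.map Prod.fst)) := N.chain_ss (hv h) (hSS h) (by decide +kernel)
theorem chQ : N.Chain (M h) QL (Q h) := N.chain_ss (hv h) (hQS h) (by decide +kernel)
theorem ht : (M h).In (K h) pt := (els h (S := [pt]) (by decide +kernel)).head
theorem cent_t {t} (r : (M h).R pt t) : K h ⊓ Subgroup.centralizer {t} = C h :=
  ((chK h).rebase (hv h) (lv' := TL) (S := TS) ((hH h).inL.prL [[0, 0, 0, 0, 0, 0, 0, 0, 0, 0, 0, 0, 0, 0, 0, 0, 0, 0, 0, 0, 0, 0, 0], [1, 1, 1, 1, 1, 1, 1, 1, 1, 1, 1, 1, 1, 1, 1, 1, 1, 1, 1, 1, 1, 1, 1, 1, 1, 1, 1, 1, 1], [3, 3, 3, 2, 1, 1, 0, 0, 1, 1], [4, 4], [5, 3, 2, 5, 2, 3, 4, 1, 4, 0, 0, 0], [6, 6], [2, 3, 5, 0, 0, 1, 4, 1], [8, 8], [2, 3, 5, 6, 4, 0, 0], [2, 2, 5, 7, 4, 1, 0]] (by decide +kernel)) (by decide +kernel)).cent_eq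
    (hCS h).inL (chC h) r (by decide +kernel) cT
theorem normQ : NormBy (C h) (Q h) := (chQ h).normBy le_rfl (hCS h) le_rfl (by decide +kernel)
theorem QS_le : Q h ≤ (M h).clo (SS.map Prod.fst) := clo_le ((chS h).inL (hQS h).inL (by decide +kernel))

theorem fus : FusData2 2 (K h) ((M h).clo (SS.map Prod.fst)) (Q h) := by
  obtain ⟨t, -, r⟩ := ht h
  exact N.fusData2 (hv h) hpt (k := 7) (m := 392445) (card h) (by norm_num) (hSS h).inL (chS h) (by decide +kernel) r
    (cent_t h r) (chC h) (in_clo (hQS h).inL) (QS_le h) (normQ h) (by decide +kernel) le_rfl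
    (U := [(pv, pv'), (mul18One, mul18One)]) ((chC h).prL (K0 := K h) (fun p hp => (List.mem_cons.mp hp).elim
      (fun e => e ▸ hP h _ (by decide +kernel)) fun e => List.mem_singleton.mp e ▸ Pr.one) (by decide +kernel))
    (A := Acj) [[2, 1, 2, 1, 2, 1, 2, 3, 1, 2, 3, 0, 3, 2, 3, 2, 1, 3], [4, 4]] (by decide +kernel) cC (V := V) (sub h (by decide +kernel)) [(0, [0]), (1, [0]), (2, [0]), (3, [0]), (4, [1, 2, 3, 2, 1]), (4, [3, 4, 3])] (by decide +kernel)

theorem invol {G : Type*} [Group G] (e : K h ≃* G) : (∀ x y : G, orderOf x = 2 → orderOf y = 2 → IsConj x y) ∧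
    ∃ t : G, orderOf t = 2 ∧ ∃ (Q' : Subgroup (Subgroup.centralizer ({t} : Set G))) (_ : Q'.Normal), IsExtraspecial 2 Q' ∧
      Nat.card Q' = 32 ∧ (∀ E : Subgroup Q', IsElementaryAbelian 2 E → Nat.card E ≤ 2 ^ 2) ∧
      (∃ H : Subgroup (Subgroup.centralizer ({t} : Set G)), Q'.IsComplement' H) ∧
      Nonempty (Subgroup.centralizer ({t} : Set G) ⧸ Q' ≃* alternatingGroup (Fin 5)) := by
  obtain ⟨t, htK, r⟩ := ht h
  have key : ∀ x : G, orderOf x = 2 → IsConj x (e ⟨t, htK⟩) := fun x hx => by
    obtain ⟨x, rfl⟩ := e.surjective x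
    rw [e.orderOf_eq, ← Subgroup.orderOf_coe] at hx
    obtain ⟨q, hq, g, hg, r'⟩ := (chS h).classes (hv h) hpt (clo_le (hSS h).inL) (k := 7) (m := 392445) Nat.prime_two
      (by decide +kernel) (card h) (by norm_num) (reps := [pt, mul18One]) (U := mul18One :: Ucl)
      (.cons In.one (els h (by decide +kernel))) (.cons (ht h) (.cons In.one .nil)) (j := 1) (by decide +kernel) x.2
      (by rw [pow_one, ← hx, pow_orderOf_eq_one])
    simp only [List.mem_cons, List.not_mem_nil, or_false] at hq
    rcases hq with rfl | rfl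
    · exact e.toMonoidHom.map_isConj (isConj_iff.mpr ⟨⟨g, hg⟩, Subtype.ext (R_fun r' r)⟩)
    · have : x.1 = 1 := by simpa using R_fun r' (M h).R_one
      simp [this] at hx
  refine ⟨fun x y hx hy => (key x hx).trans (key y hy).symm, e ⟨t, htK⟩, ?_, ?_⟩
  · rw [e.orderOf_eq, ← Subgroup.orderOf_coe]
    exact orderOf_prime (hv h) hpt r Nat.prime_two (by decide +kernel)
  obtain ⟨ψ, h1, h2, h3, -⟩ := cent_hom e ⟨t, htK⟩
  rw [cent_t h r] at h2 h3
  have hxy := (chC h).inL (els h (S := [px, py]) (by decide +kernel)) (by decide +kernel)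
  obtain ⟨f, f1, f2, f3⟩ := N.exists_alt5 hxy.head hxy.tail.head (by decide +kernel)
  have := (chC h).finite
  exact es5_of ((chQ h).esData (hv h) hpt (in_clo (hQS h).inL) le_rfl r (by decide +kernel))
    (clo_le ((chC h).inL (hQS h).inL (by decide +kernel))) (normQ h) ((chQ h).card.trans (by decide +kernel))
    ((chQ h).rank2 (hv h) hpt r (by decide +kernel)) f f1 ⟨_, (chQ h).not_mem f3 (by decide +kernel)⟩
    (by rw [(chC h).card, H12.card_alt5]; decide +kernel) ψ h1 h2 h3

theorem iso_trans {v : ι → F} (h0 : v ≠ 0) (h1 : ∑ z, v z ^ 3 = 0) :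
    ∃ g ∈ K h, (M h).P 3 (g • Projectivization.mk F v h0) := by
  obtain ⟨x, hx, e⟩ := lin4_surj h (Projectivization.mk F v h0)
  have k := b4.prjOk h
  have hp : (M h).P (nf4 9 x) (Projectivization.mk F v h0) :=
    ⟨k.nf_V x hx, k.nf_eq _ _ (k.nf_V x hx) hx (k.nf_π x hx), (k.nf_π x hx).trans e⟩
  refine N.reach (S := KS.map Prod.fst ++ KS.map Prod.snd) (fun p hp => (List.mem_append.mp hp).elim ((kK h).inL p) fun hp => ?_)
    (fun x hx => ?_) iso ?_ hp
  · obtain ⟨s, hs, rfl⟩ := List.mem_map.mp hp
    obtain ⟨g, hg, r⟩ := kK h s hs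
    exact ⟨_, (K h).inv_mem hg, r.2⟩
  · exact Nat.blt_eq.mp (andB_iff.mp (andB_iff.mp (andB_iff.mp hx).2).2).1
  · generalize nf4 9 x = y at hp
    refine andB_iff.mpr ⟨notB_iff.mpr fun e => ?_, by simp only [v4B, andB_iff, Nat.blt_eq, Nat.beq_eq]; exact ⟨hp.1.1, hp.1.2, hp.2.1⟩⟩
    have e1 := isoT ((y ||| y >>> 9) &&& 511) (Nat.and_lt_two_pow _ (n := 9) (by norm_num)) e
    have e2 := hp.2.2
    rw [lin4_eq h hp.1, Projectivization.mk_eq_mk_iff'] at e2
    obtain ⟨c, e2⟩ := e2
    have e3 := h.sum_cube y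
    rw [← e2, xs_congr (g := fun k => (((y ||| y >>> 9) &&& 511).testBit k).toNat) (fun k hk => by
      rw [Nat.testBit_and, show 511 = 2 ^ 9 - 1 from rfl, Nat.testBit_two_pow_sub_one, decide_eq_true hk, Bool.and_true]), e1] at e3
    simp only [Pi.smul_apply, smul_eq_mul, mul_pow, ← Finset.mul_sum, h1, mul_zero] at e3
    simp [e4, btF, show Nat.testBit 1 1 = false from rfl] at e3

end gen

def ix9 (z : F9) : ℕ := 3 * z.1.val + z.2.val

theorem q4 {F : Type*} [Field F] [Fintype F] (hF : Fintype.card F = 4) {ω : F} (hω : ω ^ 2 + ω + 1 = 0) : Q4 ω ix9 9 :=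
  ⟨Nat.card_eq_fintype_card.trans hF, hω, by decide, by decide, fun a b => (by decide : ∀ p : F9 × F9, ix9 p.1 = ix9 p.2 → p.1 = p.2) (a, b),
    by norm_num, by norm_num⟩

def wp (n : ZMod 3) : ℕ := n.val + 1
def cmA (Z w z : F9) : ℕ := if w = z then wp (Z.1 * w.1 + Z.2 * w.2) else 0
def cmE (Z w z : F9) : ℕ := if w = z then wp ((Z.1 - w.1) ^ 2 + (Z.2 - w.2) ^ 2) else 0
def cmD (Z w z : F9) : ℕ := if w = z + Z then (if z = 0 then 1 else if F9.div Z z = F9.I - F9.one then 2
  else if F9.div Z z = -F9.I - F9.one then 3 else 1) else 0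
def cmB (Z w z : F9) : ℕ := if w = F9.mul Z z then 1 else 0
def cmC (Z w z : F9) : ℕ := if z = 0 then (if w = 0 then 1 else 0)
  else if w = -F9.div Z z ∨ w = F9.mul F9.I (F9.div Z z) ∨ w = -F9.mul F9.I (F9.div Z z) then 1 else 0
noncomputable def gA (Z : F9) : ℕ := nth 0 [nat_lit 0x200000001000000008000000040000000200000001000000008000000040000000200000001000000008000000040000000200000001000000008000000040000000200000001, nat_lit 0x1000001008000008000000000200000201000001000000000040000040200000200000201000001000000000040000040200000200000000008000008040000040000000001, nat_lit 0x201000000008000008000000040200000001000001000000008040000000200000200000200000001008000000040000040000000201000000008000008000000040200000001, nat_lit 0x1000000008000000040000040200000201000001008000008000000040000000200000201000001008000008040000040000000200000001000000000040000000200000001, nat_lit 0x201000001000000000040000040000000001000001008000000040000040200000200000200000000008000008040000000200000201000001000000008040000040000000001,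 nat_lit 0x200000001008000000040000000200000200000001008000008040000000200000200000001000001000000008040000040200000001000001000000008000000040200000001, nat_lit 0x201000001008000008040000000200000001000000008000008000000040000000200000200000001000000008000000040200000201000001008000000040000000200000001, nat_lit 0x200000000008000008040000040200000200000000008000000040000040200000200000001000001008000008000000040000000001000001008000008040000040000000001, nat_lit 0x1000001000000008040000040000000201000000008000008040000000200000200000201000000008000008000000000200000200000001008000008000000040200000001] (ix9 Z)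
noncomputable def gE (Z : F9) : ℕ := nth 0 [nat_lit 0x1000000008000008040000000200000001000001008000008040000040200000200000201000001008000008000000040200000201000001000000008000000040000000001, nat_lit 0x1000001008000000040000000200000201000000008000008040000040000000201000201000001000000008040000040200000200000001008000008000000000200000200, nat_lit 0x201000000008000000040000040200000001000000008000008000000040200000201000200000001008000008040000040000000201000001008000000040000040000000200, nat_lit 0x1000000008000008040000040200000201000001000000000040000000200000201000201000001008000008000000040000000200000000008000008040000040200000200, nat_lit 0x1000001008000000040000040200000200000001008000000040000040200000001000201000001000000008040000040000000001000001000000008040000040000000201, nat_lit 0x201000000008000000040000040000000201000001008000008040000000200000001000200000001008000008040000000200000200000001000000008000000040200000201, nat_lit 0x201000001008000008000000000200000001000001008000000040000000200000201000200000001000000000040000040200000201000001000000008040000040200000200,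 nat_lit 0x201000001000000008040000000200000201000000008000000040000040200000001000200000000008000008000000040200000200000001008000008040000040000000201, nat_lit 0x200000001008000008040000040200000001000000008000008040000000200000001000001000001000000008000000040000000201000001008000008000000040200000201] (ix9 Z)
noncomputable def gD (Z : F9) : ℕ := nth 0 [nat_lit 0x200000001000000008000000040000000200000001000000008000000040000000200000001000000008000000040000000200000001000000008000000040000000200000001, nat_lit 0x80000002010000010000000010000000002000002000000002000000080000000400000000400002000000000080000000080000402000000010000000010000000400000002, nat_lit 0x800000800000020000000020100000100000004000000004000000020000000800000100800000004000000100000020000000000800000020000000020000000100000004, nat_lit 0x8000000040000000200000001000001008000008000000040000000200000001000000000040000000200000001000201000001000000000040000000200000001000000008, nat_lit 0x2000000080000000002000080000002000000010000000010080000400000002000000000010000000400000402000000400000010000000080000010000000002000000010,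 nat_lit 0x4000000020000000804000100000000800000020000000020000000000800004000000000020000000100000800000000800000004000000100000000100000100800000020, nat_lit 0x40200000001000001000000008000000040000000200000200000001000000008000000040000000201000000008000000040000000200000001000001000000008000000040, nat_lit 0x10000000400000002000000002000000080000000402000000400002000000010000000000080000002000000010000000010000000400000400000080400000010000000080, nat_lit 0x20000000100000004000000004000000020000000004000100000000804000020000000000100000000800000020000000020000000100000804000000800000800000000100] (ix9 Z)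
noncomputable def gB (Z : F9) : ℕ := nth 0 [nat_lit 0, nat_lit 0x40000002000000000800000020000001000000000400000010000000800000000200000000200000010000000004000000100000008000000002000000080000004000000001, nat_lit 0x100000000200000000400000200000000400000000800000080000000100000000200000000800000001000000002000001000000002000000004000000400000000800000001, nat_lit 0x200000001000000008000000040000000200000001000000008000000040000000200000001000000008000000040000000200000001000000008000000040000000200000001, nat_lit 0x4000000100000020000000080000000080000002000000040000001000000000200000000020000000800000100000000400000000400000010000000200000008000000001, nat_lit 0x10000000080000010000000004000000800000004000000200000000200000000200000000080000000400000080000000020000004000000020000001000000001000000001, nat_lit 0x20000000400000001000000100000002000000008000000004000000080000000200000000100000002000000008000000800000010000000040000000020000000400000001, nat_lit 0x80000000040000004000000008000000100000010000000020000002000000000200000000400000000200000020000000040000000800000080000000100000010000000001,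 nat_lit 0x8000000800000002000000010000000040000020000000100000000400000000200000000040000004000000010000000080000000200000100000000800000002000000001] (ix9 Z)
noncomputable def gC (Z : F9) : ℕ := nth 0 [nat_lit 0, nat_lit 0x34000000260000000940000032000000160000000980000001c0000008c0000000200000001a0000001300000004a00000190000000b00000004c0000000e0000004600000001, nat_lit 0x16000000320000000980000026000000340000000940000008c0000001c0000000200000000b0000001900000004c00000130000001a00000004a000000460000000e00000001, nat_lit 0x320000003400000001c00000160000002600000008c0000009800000094000000020000000190000001a00000000e000000b000000130000000460000004c0000004a00000001, nat_lit 0x1c0000009400000160000000980000008c00000340000002600000032000000002000000000e0000004a000000b00000004c00000046000001a0000001300000019000000001, nat_lit 0x980000001c000002600000008c0000009400000320000003400000016000000002000000004c0000000e00000130000000460000004a00000190000001a0000000b000000001, nat_lit 0x260000001600000008c00000340000003200000001c0000009400000098000000020000000130000000b000000046000001a0000001900000000e0000004a0000004c00000001,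 nat_lit 0x940000008c000003200000001c0000009800000260000001600000034000000002000000004a00000046000001900000000e0000004c00000130000000b0000001a000000001, nat_lit 0x8c0000009800000340000000940000001c0000016000000320000002600000000200000000460000004c000001a00000004a0000000e000000b0000001900000013000000001] (ix9 Z)
def Ok (cm : F9 → F9 → ℕ) (a : ℕ) : Prop := MatB ix9 9 cm a ∧ N.sift o (K0 :: HL) a = true
noncomputable instance decOk (cm : F9 → F9 → ℕ) (a : ℕ) : Decidable (Ok cm a) := instDecidableAnd
theorem okA : ∀ Z, Ok (cmA Z) (gA Z) := by decide +kernel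
theorem okE : ∀ Z, Ok (cmE Z) (gE Z) := by decide +kernel
theorem okD : ∀ Z, Ok (cmD Z) (gD Z) := by decide +kernel
theorem okB : ∀ Z, Z ≠ 0 → Ok (cmB Z) (gB Z) := by decide +kernel
theorem okC : ∀ Z, Z ≠ 0 → Ok (cmC Z) (gC Z) := by decide +kernel

variable {F : Type*} [Field F] {ω : F} (h : Q4 ω ix9 9)

theorem e0 : e4 ω 0 = 0 := by simp [e4, btF]
theorem e1 : e4 ω 1 = 1 := by simp [e4, btF, show Nat.testBit 1 1 = false from rfl]
theorem e2 : e4 ω 2 = ω := by simp [e4, btF, show Nat.testBit 2 1 = true from rfl]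
include h
theorem e3 : e4 ω 3 = ω ^ 2 := by simp [e4, btF, show Nat.testBit 3 1 = true from rfl, sq, h.sq, add_comm]
theorem ewp (n : ZMod 3) : omegaPow F ω n = e4 ω (wp n) := by
  have := n.val_lt
  rw [omegaPow, wp]
  interval_cases n.val
  exacts [(pow_zero _).trans e1.symm, (pow_one _).trans e2.symm, (e3 h).symm]
theorem eA (Z w z : F9) : j3A F ω Z w z = e4 ω (cmA Z w z) := by simp [j3A, cmA, diagonal_apply, apply_ite (e4 ω), e0, ewp h]
theorem eE (Z w z : F9) : j3E F ω Z w z = e4 ω (cmE Z w z) := by simp [j3E, cmE, diagonal_apply, apply_ite (e4 ω), e0, ewp h]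
theorem eD (Z w z : F9) : j3D F ω Z w z = e4 ω (cmD Z w z) := by simp [j3D, j3Lam, cmD, apply_ite (e4 ω), e0, e1, e2, e3 h]
omit h in
theorem eB (Z w z : F9) : j3B F Z w z = e4 ω (cmB Z w z) := by simp [j3B, cmB, apply_ite (e4 ω), e0, e1]
omit h in
theorem eC (Z w z : F9) : j3C F Z w z = e4 ω (cmC Z w z) := by simp [j3C, cmC, apply_ite (e4 ω), e0, e1]

theorem T_le : T h ≤ threeJ3 F ω := by
  obtain ⟨g1, a1, r1⟩ := (okD (1, 0)).1.unit b4 h (eD h _) (nat_lit 0x40200000001000001000000008000000040000000200000200000001000000008000000040000000201000000008000000040000000200000001000001000000008000000040) (by decide +kernel)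
  obtain ⟨g2, a2, r2⟩ := (okC (1, 0) (by decide)).1.unit b4 h (eC _) (nat_lit 0x320000003400000001c00000160000002600000008c0000009800000094000000020000000190000001a00000000e000000b000000130000000460000004c0000004a00000001) (by decide +kernel)
  obtain ⟨g3, a3, r3⟩ := (okB (1, 1) (by decide)).1.unit b4 h (eB _) (nat_lit 0x80000000040000004000000008000000100000010000000020000002000000000200000000400000000200000020000000040000000800000080000000100000010000000001) (by decide +kernel)
  exact clo_le ((InL.cons ⟨g1, Subgroup.subset_closure (.inl (.inl (.inr ⟨_, a1.symm⟩))), r1⟩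
    (.cons ⟨g2, Subgroup.subset_closure (.inr ⟨_, by decide, a2⟩), r2⟩
      (.cons ⟨g3, Subgroup.subset_closure (.inl (.inr ⟨_, by decide, a3⟩)), r3⟩ .nil))).of_slp [[0, 0, 0, 0, 0, 0, 0, 0], [2, 2, 2, 2, 2, 2, 2], [3, 3, 4, 1, 3, 1, 3, 3, 4, 3, 1, 4, 1, 0, 2, 0, 1, 0, 2, 1, 0, 0, 1, 2, 2, 0], [5, 5, 5, 5, 5, 5, 5, 5, 5, 5, 5, 5, 5, 5], [6, 6, 4, 4, 6, 1, 5, 2, 2, 1, 5], [7, 7], [8, 1, 8, 5, 7, 7, 5, 1], [8, 6, 4, 8, 6, 1, 7, 5, 2, 1], [10, 2, 1, 0, 2, 10, 5, 9, 9], [11, 11, 11, 11, 11, 11, 11, 11, 11, 11, 11, 11, 11, 11, 11, 11, 11, 11, 11, 11, 11, 11, 11, 11, 11, 11, 11, 11, 11, 11, 11, 11, 11, 11, 11, 11, 11, 11, 11], [2, 0, 2, 1, 5, 0, 1, 2, 0, 9, 1, 9, 9, 10, 10]] (by decide +kernel))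

theorem map_eq : (threeJ3 F ω).map (toP F9 F) = K h := by
  refine le_antisymm (Subgroup.map_le_iff_le_comap.mpr ((Subgroup.closure_le _).mpr fun g hg => ?_))
    (T_map h ▸ Subgroup.map_mono (T_le h))
  have key : ∀ {cm a}, Ok cm a → (∀ w z, (g : Matrix F9 F9 F) w z = e4 ω (cm w z)) → toP F9 F g ∈ K h := fun o e =>
    (chK h).sift (R_toP b4 h (o.1.R b4 h e)) o.2
  rcases hg with (((⟨Z, e⟩ | ⟨Z, e⟩) | ⟨Z, e⟩) | ⟨Z, hZ, e⟩) | ⟨Z, hZ, e⟩
  exacts [key (okA Z) (e ▸ eA h Z), key (okE Z) (e ▸ eE h Z), key (okD Z) (e ▸ eD h Z), key (okB Z hZ) (e ▸ eB Z),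
    key (okC Z hZ) (e ▸ eC Z)]

theorem equiv : Nat.card (Subgroup.center (threeJ3 F ω)) = 3 ∧ Nonempty (J3 F ω ≃* K h) := quot h (T_le h) (map_eq h)

end Cfsg.Agent.H16.J3
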