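import Cfsg.Agent.H16.MF2
import Cfsg.Agent.H16.MEng3
import Cfsg.Agent.H1.Gaschutz

/-! Extensions by an `𝔽₂`-module: collection in a Sylow `2`-subgroup with symbolic tails. -/

set_option autoImplicit false

namespace Cfsg.Agent.H16.Ext

open MulAction Mdl

theorem get_mulW {n m : ℕ} (hn : n ≤ 32) (a b k : ℕ) :
    get 32 (mulB n (dig 32 m fun _ => 1) a b) k = if k < m then apS n a (get 32 b k) else 0 := by
  rw [mulB, get_xs, apS, xc_eq_xs]
  have e : ∀ j, get 32 (Nat.mul (Nat.land (Nat.shiftRight a (Nat.mul 32 j)) 4294967295)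
      (Nat.land (Nat.shiftRight b j) (dig 32 m fun _ => 1))) k =
      if k < m then get 32 a j * ((b >>> j).testBit (32 * k)).toNat else 0 := fun j => by
    rw [get32]; exact get_mul_ones (c := get 32 a j) (by norm_num) (get_lt _ _ _)
  simp only [e]
  split_ifs
  · refine xs_congr fun j hj => ?_
    rw [testBit_get, Nat.testBit_shiftRight, add_comm j, decide_eq_true (show j < 32 by omega), Bool.true_and]
  · exact xs_zero n

theorem apS_xor_left (n a b x : ℕ) : apS n (a ^^^ b) x = apS n a x ^^^ apS n b x := by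
  simp only [apS, xc_eq_xs, xs_xor, get_xor]
  exact xs_congr fun k _ => by cases x.testBit k <;> simp

theorem apS_zero_left (n x : ℕ) : apS n 0 x = 0 := by simpa using apS_xor_left n 0 0 x

theorem map_xs {φ : ℕ → ℕ} (h0 : φ 0 = 0) (hx : ∀ a b, φ (a ^^^ b) = φ a ^^^ φ b) (f : ℕ → ℕ) (m : ℕ) :
    φ (xs m f) = xs m fun r => φ (f r) := by
  induction m with
  | zero => exact h0
  | succ m ih => rw [xs_succ, xs_succ, hx, ih]

theorem xs_single {m r : ℕ} (hr : r < m) {f : ℕ → ℕ} (h : ∀ k, k ≠ r → f k = 0) : xs m f = f r := by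
  obtain ⟨l, rfl⟩ := Nat.exists_eq_add_of_lt hr
  rw [add_assoc, add_comm l, ← add_assoc, xs_add, xs_succ, xs_congr (g := fun _ => 0) fun k hk => h k hk.ne,
    xs_congr (n := l) (g := fun _ => 0) fun k _ => h _ (by omega), xs_zero, xs_zero, Nat.zero_xor, Nat.xor_zero]

theorem apS_mod (n a x : ℕ) : apS n a (x % 2 ^ n) = apS n a x :=
  xc_congr (fun _ _ => rfl) fun b hb => by simp [Nat.testBit_mod_two_pow, hb]

theorem apS_col {n t : ℕ} (hn : 0 < n) (ht : t < 2 ^ 32) (y : ℕ) : apS n t y = if y.testBit 0 = true then t else 0 := by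
  rw [apS, xc_eq_xs, xs_single hn fun k hk => by rw [get_small ht, if_neg (by omega), zero_mul], get_small ht]
  cases y.testBit 0 <;> simp

abbrev Rl : Type := ℕ × List ℕ × List ℕ

/-- dimension, number of unknowns, wide product, identity matrix, number of generators, actions, relations -/
structure Dat where
  n : ℕ
  R : ℕ
  mul : ℕ → ℕ → ℕ
  I : ℕ
  k : ℕ
  Ad : List ℕ
  Ag : List ℕ
  L : List Rl

noncomputable def hi (Z : ℕ) : ℕ := Nat.shiftRight Z 32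
noncomputable def lo (Z : ℕ) : ℕ := Nat.land Z 4294967295
noncomputable def pk (w Y : ℕ) : ℕ := Nat.lor w (Nat.shiftLeft Y 32)
noncomputable def lw (f : ℕ → ℕ → ℕ) (word : List ℕ) (Z : ℕ) : ℕ :=
  List.rec (motive := fun _ => ℕ) Z (fun a _ ih => force ih (f a)) word
noncomputable def ri (i j : ℕ) : ℕ := Nat.add (Nat.div (Nat.mul j (Nat.succ j)) 2) i
noncomputable def evP (o : Ops) (S w : List ℕ) : ℕ := lw (fun a => o.mul (nth o.one S a)) w o.one

namespace Dat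
variable (D : Dat)

noncomputable def rl : ℕ → Rl :=
  List.rec (motive := fun _ => ℕ → Rl) (fun _ => (0, [], []))
    (fun a _ ih i => Nat.rec (motive := fun _ => Rl) a (fun j _ => ih j) i) D.L
noncomputable def T (r : ℕ) : ℕ := Nat.shiftLeft D.I (Nat.mul (Nat.mul 32 D.n) r)
noncomputable def act (a Y : ℕ) : ℕ := force (nth 0 D.Ad a) fun A => D.mul A Y

noncomputable def st (k : ℕ) (ih : ℕ → ℕ → ℕ) (a Z : ℕ) : ℕ := force (lo Z) fun w => force (hi Z) fun Y =>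
    force (Nat.div w 2) fun w1 => ifB (Nat.beq (Nat.mod w 2) 0)
      (ifB (Nat.beq a k) (pk (Nat.succ w) (D.act a Y))
        (force (pk w1 Y) fun Z1 => force (ih a Z1) fun Z2 => pk (Nat.mul 2 (lo Z2)) (hi Z2)))
      (force (ri a k) fun r => ifB (Nat.beq a k)
        (force (lw ih (D.rl r).2.2 w1) fun Z2 => pk (Nat.mul 2 (lo Z2)) (Nat.xor (Nat.xor (D.act a Y) (D.T r)) (hi Z2)))
        (force (lw ih (D.rl r).2.2.tail w1) fun Z2 => force (hi Z2) fun Y2 =>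
          pk (Nat.succ (Nat.mul 2 (lo Z2))) (Nat.xor (Nat.xor (D.act a Y) (D.T r)) (D.act k Y2))))

noncomputable def lm (k : ℕ) : ℕ → ℕ → ℕ := Nat.rec (motive := fun _ => ℕ → ℕ → ℕ) (fun _ Z => Z) D.st k

noncomputable def itm (f : ℕ → ℕ × List ℕ) (l : List ℕ) : ℕ :=
  List.rec (motive := fun _ => ℕ) 0 (fun t _ ih => force ih fun Z => force (lw (D.lm D.k) (f t).2 Z) fun Z' =>
    pk (lo Z') (Nat.xor (f t).1 (hi Z'))) l

noncomputable def t1 (t : ℕ) : ℕ × List ℕ := ifB (Nat.blt t D.k) (0, [t]) (0, (D.rl (Nat.sub t D.k)).2.1)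
noncomputable def t2 (t : ℕ) : ℕ × List ℕ := ifB (Nat.blt t D.k) (0, [t]) (D.T (Nat.sub t D.k), (D.rl (Nat.sub t D.k)).2.2)

noncomputable def eqK (ns : ℕ) (e : ℕ × List ℕ) (c : ℕ → Bool) : Bool :=
  force (D.itm D.t1 e.2) fun Z1 => force (D.itm D.t2 e.2) fun Z2 =>
    andB (andB (andB (Nat.blt e.1 ns) (allL e.2 fun t => ifB (Nat.blt t D.k) (Nat.beq e.1 0)
      (andB (Nat.blt (Nat.sub t D.k) D.R) (Nat.beq (D.rl (Nat.sub t D.k)).1 e.1)))) (andB (Nat.beq (lo Z1) 0) (Nat.beq (lo Z2) 0)))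
    (force (hi Z1) fun Y => force (Nat.xor (D.mul (nth 0 D.Ag e.1) Y) (hi Z2)) c)

abbrev Ct : Type := List (ℕ × ℕ)

noncomputable def eqsK (ns : ℕ) (l : List ((ℕ × List ℕ) × Ct)) : (List (ℕ × Ct) → Bool) → Bool :=
  List.rec (motive := fun _ => (List (ℕ × Ct) → Bool) → Bool) (fun c => c [])
    (fun e _ ih c => D.eqK ns e.1 fun X => ih fun l => c ((X, e.2) :: l)) l

noncomputable def comb (r : ℕ) (l : List (ℕ × Ct)) : ℕ :=
  List.rec (motive := fun _ => ℕ) 0 (fun p _ ih => force (List.rec (motive := fun _ => ℕ) 0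
    (fun q _ ih => Nat.xor (Nat.shiftLeft (get D.n q.2 r) (Nat.mul 32 q.1)) ih) p.2) fun A => Nat.xor (D.mul A p.1) ih) l

noncomputable def finB (U : List ℕ) (Z0 t0 : ℕ) (l : List (ℕ × Ct)) : Bool :=
  allB (ri 0 D.k) fun r => force (D.itm (fun a => (nth 0 U a, [a])) (D.rl r).2.1) fun Z1 =>
    force (D.itm (fun a => (nth 0 U a, [a])) (D.rl r).2.2) fun Z2 => andB (Nat.beq (lo Z1) (lo Z2))
      (Nat.beq (hi Z1) (Nat.xor (Nat.xor (D.comb r l) (force (get D.n t0 r) fun t => D.mul t Z0)) (hi Z2)))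

/-- shape of the rules -/
def Shape : Prop := (∀ r < D.R, (∀ a ∈ (D.rl r).2.1, a < D.k) ∧ ∀ a ∈ (D.rl r).2.2, a < D.k) ∧ ri 0 D.k ≤ D.R ∧
  ∀ j < D.k, ∀ i ≤ j, ri i j < ri 0 D.k ∧ (D.rl (ri i j)).1 = 0 ∧ (D.rl (ri i j)).2.1 = [i, j] ∧
    if i = j then ∀ a ∈ (D.rl (ri i j)).2.2, a < j else
      (D.rl (ri i j)).2.2 = j :: (D.rl (ri i j)).2.2.tail ∧ ∀ a ∈ (D.rl (ri i j)).2.2.tail, a < j

structure Ok : Prop where
  pos : 0 < D.n
  le : D.n ≤ 32
  kle : D.k ≤ 31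
  mul : ∀ a b, D.mul a b = mulB D.n (dig 32 (D.n * D.R) fun _ => 1) a b
  I : D.I = dig 32 D.n fun k => 2 ^ k
  sh : D.Shape

noncomputable def evC (c : ℕ → ℕ) (X : ℕ) : ℕ := xs D.R fun r => apS D.n (get (32 * D.n) X r) (c r)

variable {D} {c : ℕ → ℕ}

theorem evC_xor (X Y : ℕ) : D.evC c (X ^^^ Y) = D.evC c X ^^^ D.evC c Y := by
  simp only [evC, get_xor, apS_xor_left, xs_xor]

theorem evC_zero : D.evC c 0 = 0 := by simpa using evC_xor (D := D) (c := c) 0 0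

theorem evC_mul (h : D.Ok) (A X : ℕ) : D.evC c (D.mul A X) = apS D.n A (D.evC c X) := by
  rw [evC, evC, map_xs (apS_zero _ A) (apS_xor _ A)]
  refine xs_congr fun r hr => ?_
  rw [apS, apS.eq_1 _ (get _ X r), map_xc (apS_zero _ A) (apS_xor _ A)]
  refine xc_congr (fun j hj => ?_) fun _ _ => rfl
  rw [get_get hj, get_get hj, h.mul, get_mulW h.le, if_pos (by nlinarith)]

theorem evC_T (h : D.Ok) {r : ℕ} (hr : r < D.R) (hc : c r < 2 ^ D.n) : D.evC c (D.T r) = c r := by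
  have hI : D.I < 2 ^ (32 * D.n) := h.I ▸ dig_lt fun t ht => Nat.pow_lt_pow_right (by norm_num) (by have := h.le; omega)
  have e : ∀ k, get (32 * D.n) (D.T r) k = if k = r then D.I else 0 := fun k => by
    refine (get_shiftLeft (32 * D.n) D.I r k).trans ?_
    rw [get_small hI]
    split_ifs <;> first | rfl | omega
  rw [evC, xs_single hr fun k hk => by rw [e, if_neg hk, apS_zero_left], e, if_pos rfl, h.I, apS_one h.le hc]

end Dat

theorem lo_pk {w : ℕ} (h : w < 2 ^ 32) (Y : ℕ) : lo (pk w Y) = w := lo2_pr2 h Y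
theorem hi_pk {w : ℕ} (h : w < 2 ^ 32) (Y : ℕ) : hi (pk w Y) = Y := hi2_pr2 h Y
theorem lo_self {w : ℕ} (h : w < 2 ^ 32) : lo w = w := by simpa [pk] using lo_pk h 0
theorem hi_self {w : ℕ} (h : w < 2 ^ 32) : hi w = 0 := by simpa [pk] using hi_pk h 0

variable {E : Type*} [Group E]

def wd (d : ℕ → E) (w : List ℕ) : E := (w.map d).prod
def nf (d : ℕ → E) : ℕ → ℕ → E
  | 0, _ => 1
  | k + 1, w => (if w % 2 = 0 then 1 else d k) * nf d k (w / 2)

theorem wd_cons (d : ℕ → E) (a : ℕ) (w : List ℕ) : wd d (a :: w) = d a * wd d w := rfl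
theorem nf_zero (d : ℕ → E) (k : ℕ) : nf d k 0 = 1 := by
  induction k with
  | zero => rfl
  | succ k ih => simp [nf, ih]

/-- the symbolic calculus holds in `E` -/
structure Sem (D : Dat) (ns : ℕ) (ev d g : ℕ → E) : Prop where
  xor : ∀ X Y, ev (X ^^^ Y) = ev X * ev Y
  one : ∀ A X, ev X = 1 → ev (D.mul A X) = 1
  ad : ∀ a < D.k, ∀ X, d a * ev X = ev (D.act a X) * d a
  ag : ∀ s < ns, ∀ X, g s * ev X = ev (D.mul (nth 0 D.Ag s) X) * g s
  g0 : g 0 = 1
  rel : ∀ r < D.R, g (D.rl r).1 * wd d (D.rl r).2.1 = ev (D.T r) * wd d (D.rl r).2.2 * g (D.rl r).1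

namespace Sem
variable {D : Dat} {ns : ℕ} {ev d g : ℕ → E} (S : Sem D ns ev d g)
include S

theorem zero : ev 0 = 1 := by simpa using S.xor 0 0

omit S in
theorem lw_spec {k : ℕ} {f : ℕ → ℕ → ℕ} (h : ∀ a < k, ∀ Z, lo Z < 2 ^ k → lo (f a Z) < 2 ^ k ∧
    ev (hi (f a Z)) * nf d k (lo (f a Z)) = d a * (ev (hi Z) * nf d k (lo Z))) {w : List ℕ} (hw : ∀ a ∈ w, a < k) {Z : ℕ}
    (hZ : lo Z < 2 ^ k) : lo (lw f w Z) < 2 ^ k ∧
      ev (hi (lw f w Z)) * nf d k (lo (lw f w Z)) = wd d w * (ev (hi Z) * nf d k (lo Z)) := by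
  induction w with
  | nil => exact ⟨hZ, (one_mul _).symm⟩
  | cons a w ih =>
    obtain ⟨h1, h2⟩ := ih fun a ha => hw a (List.mem_cons_of_mem _ ha)
    rw [show lw f (a :: w) Z = f a (lw f w Z) from force_eq _ _, wd_cons, mul_assoc, ← h2]
    exact h a (hw a List.mem_cons_self) _ h1

theorem lm_spec (h : D.Ok) {k : ℕ} (hk : k ≤ D.k) : ∀ a < k, ∀ Z, lo Z < 2 ^ k → lo (D.lm k a Z) < 2 ^ k ∧
    ev (hi (D.lm k a Z)) * nf d k (lo (D.lm k a Z)) = d a * (ev (hi Z) * nf d k (lo Z)) := by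
  induction k with
  | zero => exact fun a ha => absurd ha (by omega)
  | succ k ih =>
    have ih := ih (by omega)
    intro a ha Z hZ
    have h32 : 2 ^ (k + 1) ≤ 2 ^ 32 := Nat.pow_le_pow_right (by norm_num) (by have := h.kle; omega)
    rw [pow_succ] at hZ h32 ⊢
    have hw : lo Z / 2 < 2 ^ 32 := by omega
    obtain ⟨r1, r2, r3, r4⟩ := h.sh.2.2 k hk a (by omega)
    have r5 := S.rel _ (r1.trans_le h.sh.2.1)
    rw [r2, r3, S.g0, one_mul, mul_one, wd_cons, wd_cons, show wd d [] = 1 from rfl, mul_one] at r5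
    rw [show D.lm (k + 1) a Z = D.st k (D.lm k) a Z from rfl]
    simp only [Dat.st, force_eq, ifB_eq, Nat.beq_eq, Nat.mul_eq, Nat.succ_eq_add_one, Nat.xor_eq,
      show ∀ x, Nat.div x 2 = x / 2 from fun _ => rfl, show ∀ x, Nat.mod x 2 = x % 2 from fun _ => rfl]
    split_ifs with h1 h2 h2
    · rw [lo_pk (by omega), hi_pk (by omega), nf, nf, if_pos h1, if_neg (by omega), one_mul, ← mul_assoc, ← mul_assoc,
        S.ad a (by omega), h2, show (lo Z + 1) / 2 = lo Z / 2 by omega]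
      exact ⟨by omega, rfl⟩
    · obtain ⟨h3, h4⟩ := ih a (by omega) (pk (lo Z / 2) (hi Z)) (by rw [lo_pk hw]; omega)
      rw [lo_pk hw, hi_pk hw] at h4
      rw [lo_pk (by omega), hi_pk (by omega), nf, nf, if_pos h1, if_pos (by omega), one_mul, one_mul, ← h4,
        Nat.mul_div_cancel_left _ two_pos]
      exact ⟨by omega, rfl⟩
    · rw [if_pos h2] at r4
      obtain ⟨h3, h4⟩ := lw_spec ih r4 (Z := lo Z / 2) (by rw [lo_self hw]; omega)
      rw [lo_self hw, hi_self hw, S.zero, one_mul] at h4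
      rw [lo_pk (by omega), hi_pk (by omega), nf, nf, if_neg h1, if_pos (by omega), one_mul,
        Nat.mul_div_cancel_left _ two_pos, S.xor, S.xor, mul_assoc, h4, ← mul_assoc (d a), S.ad a (by omega),
        mul_assoc _ (d a), ← mul_assoc (d a), r5]
      exact ⟨by omega, by simp only [mul_assoc]⟩
    · rw [if_neg h2] at r4
      obtain ⟨h3, h4⟩ := lw_spec ih r4.2 (Z := lo Z / 2) (by rw [lo_self hw]; omega)
      rw [lo_self hw, hi_self hw, S.zero, one_mul] at h4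
      rw [r4.1, wd_cons] at r5
      rw [lo_pk (by omega), hi_pk (by omega), nf, nf, if_neg h1, if_neg (by omega), S.xor, S.xor, mul_assoc,
        ← mul_assoc _ (d k), ← S.ad k hk, mul_assoc (d k), Nat.mul_add_div two_pos, show 1 / 2 = 0 from rfl, add_zero, h4,
        ← mul_assoc (d a), S.ad a (by omega), mul_assoc _ (d a), ← mul_assoc (d a), r5]
      exact ⟨by omega, by simp only [mul_assoc]⟩

theorem itm_spec (h : D.Ok) {f : ℕ → ℕ × List ℕ} {l : List ℕ} (hl : ∀ t ∈ l, ∀ a ∈ (f t).2, a < D.k) :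
    lo (D.itm f l) < 2 ^ D.k ∧ ev (hi (D.itm f l)) * nf d D.k (lo (D.itm f l)) = wd (fun t => ev (f t).1 * wd d (f t).2) l := by
  induction l with
  | nil =>
    rw [show D.itm f [] = 0 from rfl, lo_self (by norm_num), hi_self (by norm_num), S.zero, nf_zero]
    exact ⟨Nat.two_pow_pos _, one_mul _⟩
  | cons t l ih =>
    obtain ⟨h1, h2⟩ := ih fun a ha => hl a (List.mem_cons_of_mem _ ha)
    obtain ⟨h3, h4⟩ := lw_spec (S.lm_spec h le_rfl) (hl t List.mem_cons_self) h1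
    have h5 := h3.trans_le (Nat.pow_le_pow_right two_pos (h.kle.trans (Nat.le_succ 31)))
    rw [show D.itm f (t :: l) = force (D.itm f l) fun Z => force (lw (D.lm D.k) (f t).2 Z) fun Z' =>
      pk (lo Z') (Nat.xor (f t).1 (hi Z')) from rfl, force_eq, force_eq, lo_pk h5, hi_pk h5, Nat.xor_eq, S.xor, mul_assoc,
      h4, h2, wd_cons, mul_assoc]
    exact ⟨h3, rfl⟩

theorem eqK_spec (h : D.Ok) {e : ℕ × List ℕ} {c : ℕ → Bool} (q : D.eqK ns e c = true) : ∃ X, ev X = 1 ∧ c X = true := by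
  simp only [Dat.eqK, force_eq, andB_iff, allL_iff, ifB_eq, Nat.blt_eq, Nat.beq_eq] at q
  obtain ⟨⟨⟨q1, q2⟩, q3, q4⟩, q5⟩ := q
  have q6 : ∀ t ∈ e.2, ((∀ a ∈ (D.t1 t).2, a < D.k) ∧ ∀ a ∈ (D.t2 t).2, a < D.k) ∧
      g e.1 * (ev (D.t1 t).1 * wd d (D.t1 t).2) = ev (D.t2 t).1 * wd d (D.t2 t).2 * g e.1 := fun t ht => by
    have := q2 t ht
    simp only [Dat.t1, Dat.t2, ifB_eq, Nat.blt_eq]
    split_ifs at this ⊢ with h1
    · rw [Nat.eq_of_beq_eq_true this, S.g0]; simpa using h1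
    · simp only [andB_iff, Nat.blt_eq, Nat.beq_eq] at this
      rw [← this.2, S.zero, one_mul]
      exact ⟨h.sh.1 _ this.1, S.rel _ this.1⟩
  have h1 := (S.itm_spec h fun t ht => (q6 t ht).1.1).2
  have h2 := (S.itm_spec h fun t ht => (q6 t ht).1.2).2
  rw [q3, nf_zero, mul_one] at h1
  rw [q4, nf_zero, mul_one] at h2
  have h3 : ∀ l : List ℕ, (∀ t ∈ l, t ∈ e.2) → g e.1 * wd (fun t => ev (D.t1 t).1 * wd d (D.t1 t).2) l =
      wd (fun t => ev (D.t2 t).1 * wd d (D.t2 t).2) l * g e.1 := fun l hl => by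
    induction l with
    | nil => simp [wd]
    | cons t l ih =>
      rw [wd_cons, wd_cons, ← mul_assoc, (q6 t (hl t List.mem_cons_self)).2, mul_assoc,
        ih fun a ha => hl a (List.mem_cons_of_mem _ ha), mul_assoc, mul_assoc, mul_assoc]
  have h4 := h3 _ fun _ h => h
  rw [← h1, ← h2, S.ag _ q1, mul_left_inj] at h4
  exact ⟨_, by rw [Nat.xor_eq, S.xor, h4, ← S.xor, Nat.xor_self, S.zero], q5⟩

theorem eqsK_spec (h : D.Ok) {l : List ((ℕ × List ℕ) × Dat.Ct)} {c : List (ℕ × Dat.Ct) → Bool} (q : D.eqsK ns l c = true) :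
    ∃ l', (∀ p ∈ l', ev p.1 = 1) ∧ c l' = true := by
  induction l generalizing c with
  | nil => exact ⟨[], by simp, q⟩
  | cons e l ih =>
    obtain ⟨X, h1, h2⟩ := S.eqK_spec h q
    obtain ⟨l', h3, h4⟩ := ih h2
    exact ⟨_, List.forall_mem_cons.mpr ⟨h1, h3⟩, h4⟩

theorem comb_spec (r : ℕ) {l : List (ℕ × Dat.Ct)} (hl : ∀ p ∈ l, ev p.1 = 1) : ev (D.comb r l) = 1 := by
  induction l with
  | nil => exact S.zero
  | cons p l ih =>
    refine (congrArg ev (force_eq _ _)).trans ((S.xor _ _).trans ?_)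
    rw [S.one _ _ (hl p List.mem_cons_self), one_mul]
    exact ih fun a ha => hl a (List.mem_cons_of_mem _ ha)

theorem fin (h : D.Ok) {l : List ((ℕ × List ℕ) × Dat.Ct)} {U : List ℕ} {Z0 t0 : ℕ}
    (q : D.eqsK ns l (D.finB U Z0 t0) = true) {r : ℕ} (hr : r < ri 0 D.k) :
    wd (fun a => ev (nth 0 U a) * d a) (D.rl r).2.1 =
      ev (D.mul (get D.n t0 r) Z0) * wd (fun a => ev (nth 0 U a) * d a) (D.rl r).2.2 := by
  obtain ⟨l', h1, h2⟩ := S.eqsK_spec h q
  have := allB_spec h2 r hr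
  simp only [force_eq, andB_iff, Nat.beq_eq, Nat.xor_eq] at this
  have h3 := h.sh.1 r (hr.trans_le h.sh.2.1)
  have h4 := (S.itm_spec h (f := fun a => (nth 0 U a, [a])) fun t ht => by simpa using h3.1 t ht).2
  have h5 := (S.itm_spec h (f := fun a => (nth 0 U a, [a])) fun t ht => by simpa using h3.2 t ht).2
  simp only [wd_cons, show wd d [] = 1 from rfl, mul_one] at h4 h5
  rw [← h4, ← h5, this.1, this.2, S.xor, S.xor, S.comb_spec r h1, one_mul, mul_assoc]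

end Sem

variable {o : Ops} {G Ω : Type*} [Group G] [MulAction G Ω] {M : Mdl o G Ω}

theorem R_evP {S : List ℕ} {σ : ℕ → G} (h : ∀ i, M.R (nth o.one S i) (σ i)) (w : List ℕ) : M.R (evP o S w) (wd σ w) := by
  induction w with
  | nil => exact M.R_one
  | cons a w ih =>
    rw [show evP o S (a :: w) = o.mul (nth o.one S a) (evP o S w) from force_eq _ _]
    exact M.R_mul (h a) ih

theorem map_wd {F : Type*} [Group F] (π : E →* F) (d : ℕ → E) (w : List ℕ) : π (wd d w) = wd (fun a => π (d a)) w := by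
  rw [wd, map_list_prod, List.map_map]; rfl

def Act (M : Mdl o G Ω) (π : E →* G) (ι : ℕ → E) (n p A : ℕ) : Prop :=
  ∀ e, M.R p (π e) → ∀ x, e * ι x = ι (apS n A x) * e

noncomputable def relB (o : Ops) (D : Dat) (P Gs : List ℕ) : Bool :=
  andB (Nat.beq (nth o.one Gs 0) o.one) (allB D.R fun r => force (nth o.one Gs (D.rl r).1) fun g =>
    force (evP o P (D.rl r).2.1) fun x => force (evP o P (D.rl r).2.2) fun y => cjM o g x y)

/-- lifts of the generators with prescribed tails -/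
theorem tails {D : Dat} (h : D.Ok) {π : E →* G} (hs : Function.Surjective π) {ι : ℕ → E}
    (hx : ∀ x y, ι (x ^^^ y) = ι x * ι y) (hi : ∀ y, ι y = 1 → y % 2 ^ D.n = 0) (hk : ∀ x, π (ι x) = 1)
    (hsu : ∀ e, π e = 1 → ∃ c < 2 ^ D.n, ι c = e) {P Gs : List ℕ} (hP : M.InL ⊤ P) (hG : M.InL ⊤ Gs) {ns : ℕ}
    (ha : ∀ a < D.k, Act M π ι D.n (nth o.one P a) (nth 0 D.Ad a)) (hg : ∀ s < ns, Act M π ι D.n (nth o.one Gs s) (nth 0 D.Ag s))
    (hr : relB o D P Gs = true) {l : List ((ℕ × List ℕ) × Dat.Ct)} {U : List ℕ} {Z0 t0 : ℕ}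
    (q : D.eqsK ns l (D.finB U Z0 t0) = true) : ∃ (d : ℕ → E) (b : Bool), (∀ i, M.R (nth o.one P i) (π (d i))) ∧
      ∀ r < ri 0 D.k, wd d (D.rl r).2.1 = ι (if b = true then get D.n t0 r else 0) * wd d (D.rl r).2.2 := by
  simp only [relB, andB_iff, allB_iff, force_eq, Nat.beq_eq] at hr
  have : ∀ i, ∃ e, M.R (nth o.one P i) (π e) := fun i =>
    let ⟨g, _, r⟩ := hP.nth i; let ⟨e, q⟩ := hs g; ⟨e, q ▸ r⟩
  choose d hd using this
  have : ∀ i, ∃ e, M.R (nth o.one Gs i) (π e) ∧ (i = 0 → e = 1) := fun i => by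
    obtain ⟨g, -, r⟩ := hG.nth i
    obtain ⟨e, rfl⟩ := hs g
    by_cases h0 : i = 0
    exacts [⟨1, by rw [h0, hr.1, map_one]; exact M.R_one, fun _ => rfl⟩, ⟨e, r, fun h => absurd h h0⟩]
  choose g hg1 hg0 using this
  have : ∀ r, ∃ c, r < D.R → c < 2 ^ D.n ∧
      ι c = g (D.rl r).1 * wd d (D.rl r).2.1 * (g (D.rl r).1)⁻¹ * (wd d (D.rl r).2.2)⁻¹ := fun r => by
    by_cases h1 : r < D.R
    · obtain ⟨c, hc⟩ := hsu (g (D.rl r).1 * wd d (D.rl r).2.1 * (g (D.rl r).1)⁻¹ * (wd d (D.rl r).2.2)⁻¹) (by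
        simp only [map_mul, map_inv, map_wd]
        rw [cjM_spec (hg1 _) (R_evP hd _) (R_evP hd _) (hr.2 r h1), mul_inv_cancel])
      exact ⟨c, fun _ => hc⟩
    · exact ⟨0, fun h => absurd h h1⟩
  choose c hc using this
  have h0 : ι 0 = 1 := by simpa using hx 0 0
  have S : Sem D ns (fun X => ι (D.evC c X)) d g :=
    ⟨fun X Y => by rw [Dat.evC_xor, hx], fun A X e => by rw [Dat.evC_mul h, ← apS_mod, hi _ e, apS_zero, h0],
      fun a h1 X => by rw [Dat.act, force_eq, Dat.evC_mul h]; exact ha a h1 _ (hd a) _,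
      fun s h1 X => by rw [Dat.evC_mul h]; exact hg s h1 _ (hg1 s) _, hg0 0 rfl,
      fun r h1 => by rw [Dat.evC_T h h1 (hc r h1).1, (hc r h1).2]; group⟩
  refine ⟨_, (D.evC c Z0).testBit 0, fun i => ?_, fun r h1 => (S.fin h q h1).trans ?_⟩
  · rw [map_mul, hk, one_mul]; exact hd i
  · rw [Dat.evC_mul h, apS_col h.pos ((get_lt _ _ _).trans_le (Nat.pow_le_pow_right two_pos h.le))]

theorem card_clo_le {D : Dat} (h : D.Shape) {d : ℕ → E} (hr : ∀ r < ri 0 D.k, wd d (D.rl r).2.1 = wd d (D.rl r).2.2) {k : ℕ}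
    (hk : k ≤ D.k) : Finite (Subgroup.closure (d '' Set.Iio k)) ∧ Nat.card (Subgroup.closure (d '' Set.Iio k)) ≤ 2 ^ k := by
  induction k with
  | zero => simp; infer_instance
  | succ k ih =>
    obtain ⟨h1, h2⟩ := ih (by omega)
    have hw : ∀ w : List ℕ, (∀ a ∈ w, a < k) → wd d w ∈ Subgroup.closure (d '' Set.Iio k) := fun w hw =>
      Subgroup.list_prod_mem _ fun x hx => by
        obtain ⟨a, ha, rfl⟩ := List.mem_map.mp hx
        exact Subgroup.subset_closure ⟨a, hw a ha, rfl⟩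
    have h3 : ∀ i ≤ k, d i * d k = wd d (D.rl (ri i k)).2.2 := fun i hi => by
      obtain ⟨r1, -, r3, -⟩ := h.2.2 k hk i hi
      rw [← hr _ r1, r3]; simp [wd]
    have hn : ∀ x ∈ Subgroup.closure (d '' Set.Iio k), (d k)⁻¹ * x * (d k)⁻¹⁻¹ ∈ Subgroup.closure (d '' Set.Iio k) :=
      fun x hx => (show _ ≤ (Subgroup.closure (d '' Set.Iio k)).comap (MulAut.conj (d k)⁻¹).toMonoidHom from
        (Subgroup.closure_le _).mpr (by
          rintro _ ⟨i, hi, rfl⟩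
          have r4 := (h.2.2 k hk i (le_of_lt hi)).2.2.2
          rw [if_neg (ne_of_lt hi)] at r4
          show (d k)⁻¹ * d i * (d k)⁻¹⁻¹ ∈ Subgroup.closure _
          rw [inv_inv, mul_assoc, h3 i (le_of_lt hi), r4.1, wd_cons, inv_mul_cancel_left]
          exact hw _ r4.2)) hx
    have h4 : (d k)⁻¹ * (d k)⁻¹ ∈ Subgroup.closure (d '' Set.Iio k) := by
      have r4 := (h.2.2 k hk k le_rfl).2.2.2
      rw [if_pos rfl] at r4
      rw [← mul_inv_rev, h3 k le_rfl]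
      exact Subgroup.inv_mem _ (hw _ r4)
    obtain ⟨h5, h6⟩ := card_ext2_le (hn := hn) (h2 := h4)
    have h7 : Subgroup.closure (d '' Set.Iio (k + 1)) ≤ ext2 _ _ hn h4 := (Subgroup.closure_le _).mpr (by
      rintro _ ⟨i, hi, rfl⟩
      rcases Nat.lt_succ_iff_lt_or_eq.mp hi with hi | rfl
      · exact le_ext2 (Subgroup.subset_closure ⟨i, hi, rfl⟩)
      · exact (Subgroup.inv_mem_iff _).mp mem_ext2)
    exact ⟨Finite.of_injective _ (Subgroup.inclusion_injective h7), (Subgroup.card_le_of_le h7).trans (by omega)⟩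

/-- lifts satisfying the relations give a complement -/
theorem split {D : Dat} (h : D.Shape) [Finite E] {π : E →* G} (hs : Function.Surjective π) (h2 : ∀ x, π x = 1 → x * x = 1)
    {d : ℕ → E} (hr : ∀ r < ri 0 D.k, wd d (D.rl r).2.1 = wd d (D.rl r).2.2) {P : List ℕ}
    (hd : ∀ i, M.R (nth o.one P i) (π (d i))) (hP : ∀ p ∈ P, ∃ i < D.k, nth o.one P i = p) (hc : 2 ^ D.k ≤ Nat.card (M.clo P))
    {m : ℕ} (hG : Nat.card G = 2 ^ D.k * m) (hm : Odd m) : ∃ H : Subgroup E, H ⊓ π.ker = ⊥ ∧ H ⊔ π.ker = ⊤ := by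
  have : Finite G := Finite.of_surjective π hs
  obtain ⟨-, h3⟩ := card_clo_le h hr le_rfl
  set T := Subgroup.closure (d '' Set.Iio D.k)
  have h4 : 2 ^ D.k ≤ Nat.card (T.map π) := hc.trans (Subgroup.card_le_of_le (clo_le fun p hp =>
    let ⟨i, hi, e⟩ := hP p hp; ⟨_, ⟨d i, Subgroup.subset_closure ⟨i, hi, rfl⟩, rfl⟩, e ▸ hd i⟩))
  have h5 := (Function.Surjective.bijective_of_nat_card_le (π.subgroupMap_surjective T) (h3.trans h4)).1
  have h6 : Nat.card (T.map π) = 2 ^ D.k := le_antisymm ((Nat.card_le_card_of_surjective _ (π.subgroupMap_surjective T)).trans h3) h4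
  have : IsMulCommutative π.ker := ⟨⟨fun x y => Subtype.ext (by
    have e : ∀ z : π.ker, (z : E)⁻¹ = z := fun z => inv_eq_of_mul_eq_one_right (h2 _ z.2)
    rw [← e (x * y), Subgroup.coe_mul, mul_inv_rev, e, e, Subgroup.coe_mul])⟩⟩
  have : Fact (Nat.Prime 2) := ⟨Nat.prime_two⟩
  obtain ⟨j, hj⟩ := (show IsPGroup 2 π.ker from fun x => ⟨1, Subtype.ext (by simpa [sq] using h2 _ x.2)⟩).exists_card_eq
  obtain ⟨H, hH⟩ := H1.gaschutz_exists (K := π.ker) (A := T) (U := (T.map π).comap π) (by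
    have := (T.map π).card_mul_index
    rw [h6, hG] at this
    rw [Subgroup.index_comap_of_surjective _ hs, Nat.eq_of_mul_eq_mul_left (Nat.two_pow_pos _) this, hj]
    exact (Nat.coprime_two_left.mpr hm).pow_left _)
    (eq_bot_iff.mpr fun x hx => congrArg Subtype.val (h5 (a₁ := ⟨x, hx.1⟩) (a₂ := 1) (Subtype.ext (by simpa using hx.2))))
    (by rw [Subgroup.comap_map_eq, sup_comm])
  exact ⟨H, hH.symm.disjoint.eq_bot, hH.symm.sup_eq_top⟩

universe u v

/-- two extensions whose difference splits are isomorphic -/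
theorem equiv_of_baer {E : Type u} {E' : Type v} {G V : Type*} [Group E] [Group E'] [Finite E] [Finite E'] [Group G] [AddGroup V]
    {π : E →* G} {π' : E' →* G} (hs : Function.Surjective π) (hs' : Function.Surjective π') {ι : V → E} {ι' : V → E'}
    (hι : ∀ x y, ι (x + y) = ι x * ι y) (hι' : ∀ x y, ι' (x + y) = ι' x * ι' y) (hk : ∀ x, π x = 1 ↔ ∃ w, ι w = x)
    (hk' : ∀ x, π' x = 1 ↔ ∃ w, ι' w = x) (h1 : ∀ w, ι w = 1 ↔ ι' w = 1)
    (hc : ∀ g g', π g = π' g' → ∀ w, ∃ w', ι w' = g * ι w * g⁻¹ ∧ ι' w' = g' * ι' w * g'⁻¹)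
    (hq : ∀ x, π x = 1 → x * x = 1) (hq' : ∀ x, π' x = 1 → x * x = 1) {d : ℕ → E} {d' : ℕ → E'} (hd : ∀ i, π (d i) = π' (d' i))
    (H : ∀ (D : Type (max u v)) [Group D] [Finite D] (ρ : D →* G) (f : ℕ → D), Function.Surjective ρ → (∀ x, ρ x = 1 → x * x = 1) →
      (∀ i, ρ (f i) = π (d i)) → (∀ a b w, wd d a = ι w * wd d b → wd d' a = ι' w * wd d' b → wd f a = wd f b) →
      ∃ H : Subgroup D, H ⊓ ρ.ker = ⊥ ∧ H ⊔ ρ.ker = ⊤) : Nonempty (E ≃* E') := by
  let F := (π.comp (MonoidHom.fst E E')).eqLocus (π'.comp (MonoidHom.snd E E'))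
  let δ : Multiplicative V →* F := MonoidHom.mk' (fun w => ⟨(ι w.toAdd, ι' w.toAdd),
    ((hk _).mpr ⟨_, rfl⟩).trans ((hk' _).mpr ⟨_, rfl⟩).symm⟩) fun x y => Subtype.ext (Prod.ext (hι _ _) (hι' _ _))
  have : δ.range.Normal := ⟨by
    rintro _ ⟨w, rfl⟩ g
    obtain ⟨w', e, e'⟩ := hc g.1.1 g.1.2 g.2 w.toAdd
    exact ⟨Multiplicative.ofAdd w', Subtype.ext (Prod.ext e e')⟩⟩
  let p := (MonoidHom.fst E E').comp F.subtype
  let p' := (MonoidHom.snd E E').comp F.subtype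
  let q := QuotientGroup.mk' δ.range
  let ρ : F ⧸ δ.range →* G := QuotientGroup.lift _ (π.comp p) (by rintro _ ⟨w, rfl⟩; exact (hk _).mpr ⟨_, rfl⟩)
  have a1 : ∀ x, ∃ y : F, p y = x := fun x => let ⟨y, e⟩ := hs' (π x); ⟨⟨(x, y), e.symm⟩, rfl⟩
  have a1' : ∀ x, ∃ y : F, p' y = x := fun x => let ⟨y, e⟩ := hs (π' x); ⟨⟨(y, x), e⟩, rfl⟩
  let f : ℕ → F := fun i => ⟨(d i, d' i), hd i⟩
  obtain ⟨H, h2, h3⟩ := H _ ρ (fun i => q (f i)) (fun g => by
      obtain ⟨x, rfl⟩ := hs g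
      obtain ⟨y, rfl⟩ := a1 x
      exact ⟨q y, rfl⟩) (fun x h => by
      obtain ⟨x, rfl⟩ := QuotientGroup.mk'_surjective _ x
      rw [← map_mul, show x * x = 1 from Subtype.ext (Prod.ext (hq _ h) (hq' _ (x.2.symm.trans h))), map_one])
    (fun _ => rfl) fun a b w e e' => by
      rw [← map_wd q, ← map_wd q, show wd f a = δ (Multiplicative.ofAdd w) * wd f b from Subtype.ext (Prod.ext
        ((map_wd p f a).trans (e.trans (congrArg _ (map_wd p f b).symm)))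
        ((map_wd p' f a).trans (e'.trans (congrArg _ (map_wd p' f b).symm)))), map_mul,
        show q (δ _) = 1 from (QuotientGroup.eq_one_iff _).mpr ⟨_, rfl⟩, one_mul]
  have key : ∀ {A : Type (max u v)} [Group A] (s : F →* A), Function.Surjective s → (∀ x, s x = 1 → ρ (q x) = 1) →
      (∀ w, s (δ w) = 1 → δ w = 1) → (∀ x, ρ (q x) = 1 → ∃ w, s (δ w) = s x) →
      Function.Bijective (s.comp (H.comap q).subtype) := fun s b1 b2 b3 b4 => by
    refine ⟨(injective_iff_map_eq_one _).mpr fun x hx => ?_, fun y => ?_⟩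
    · obtain ⟨w, e⟩ := (QuotientGroup.eq_one_iff (x : F)).mp (Subgroup.mem_bot.mp (h2.le ⟨x.2, b2 _ hx⟩))
      exact Subtype.ext (e.symm.trans (b3 w (e.symm ▸ hx)))
    · obtain ⟨y, rfl⟩ := b1 y
      obtain ⟨h, hh, k, hk, e⟩ := Subgroup.mem_sup_of_normal_right.mp (h3.ge (Subgroup.mem_top (q y)))
      obtain ⟨k, rfl⟩ := QuotientGroup.mk'_surjective _ k
      obtain ⟨w, e'⟩ := b4 k hk
      refine ⟨⟨y * k⁻¹ * δ w, ?_⟩, by simp [e']⟩
      rw [Subgroup.mem_comap, map_mul, map_mul, map_inv, ← e, mul_inv_cancel_right,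
        show q (δ _) = 1 from (QuotientGroup.eq_one_iff _).mpr ⟨_, rfl⟩, mul_one]
      exact hh
  let i : E ≃* ULift.{v} E := MulEquiv.ulift.symm
  let i' : E' ≃* ULift.{u} E' := MulEquiv.ulift.symm
  exact ⟨((i.trans (MulEquiv.ofBijective _ (key (i.toMonoidHom.comp p) (i.surjective.comp a1)
      (fun x h => (congrArg π (i.map_eq_one_iff.mp h)).trans π.map_one)
      (fun w h => Subtype.ext (Prod.ext (i.map_eq_one_iff.mp h) ((h1 _).mp (i.map_eq_one_iff.mp h))))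
      fun x h => let ⟨w, e⟩ := (hk _).mp h; ⟨Multiplicative.ofAdd w, congrArg i e⟩)).symm).trans
    (MulEquiv.ofBijective _ (key (i'.toMonoidHom.comp p') (i'.surjective.comp a1')
      (fun x h => x.2.trans ((congrArg π' (i'.map_eq_one_iff.mp h)).trans π'.map_one))
      (fun w h => Subtype.ext (Prod.ext ((h1 _).mpr (i'.map_eq_one_iff.mp h)) (i'.map_eq_one_iff.mp h)))
      fun x h => let ⟨w, e⟩ := (hk' _).mp (x.2.symm.trans h); ⟨Multiplicative.ofAdd w, congrArg i' e⟩))).trans i'.symm⟩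

end Cfsg.Agent.H16.Ext
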