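import Cfsg.Agent.H16.G24a

/-! `G₂(4)` on the 416 cosets of `J₂`. -/

set_option autoImplicit false
set_option maxRecDepth 100000
set_option Elab.async false
set_option exponentiation.threshold 500

namespace Cfsg.Agent.H16.G24

open Cfsg MulAction Mdl Ext Cfsg.Lie S3662

theorem cover : force (orbF (get 9) 416 HS 1) (fun A => force (orbF (get 9) 416 HS 101) fun B =>
    allB 416 fun j => orB (Nat.beq j 0) (orB (tb A j) (tb B j))) = true := by decide +kernel

theorem main {G : Type*} [Group G] (hc : Nat.card G = 251596800) {ψ : G →* Equiv.Perm (Fin 416)} (hi : Function.Injective ψ)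
    (h : MP.InL ψ.range GS) : ∃ H : Subgroup G, IsCoatom H ∧ Spor.IsoJ2 H ∧
      ∀ x : G, x ∉ H → IsCoatom ((H ⊓ H.map (MulAut.conj x).toMonoidHom).subgroupOf H) := by
  have : Finite G := Nat.finite_of_card_ne_zero (by omega)
  let _ := MulAction.compHom (Fin 416) ψ
  have hf : Faith (finPt 416) 416 (⊤ : Subgroup G) := fun g _ e => hi ((faith_finPt 416 ⊤ (ψ g) trivial e).trans (map_one ψ).symm)
  let M : Mdl op G (Fin 416) := permMdl (by norm_num) (inj_finPt 416) hf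
  have hG : M.InL ⊤ GS := fun p hp => let ⟨_, ⟨g, rfl⟩, r⟩ := h p hp; ⟨g, trivial, trivial, r.2⟩
  have ik : ∀ {K : Subgroup G} {S : List ℕ}, M.InL K S → ∀ p ∈ S, InK (finPt 416) 416 K (get 9 p) := fun h p hp =>
    let ⟨g, h, r⟩ := h p hp; ⟨g, h, r.2⟩
  have fx : ∀ {K : Subgroup G} {S : List ℕ} {b : ℕ}, b < 416 → M.InL K S → fixB S b = true → M.InL (K ⊓ stabilizer G (finPt 416 b)) S :=
    fun hb h e p hp => (h p hp).stab ⟨hb, rfl⟩ (Nat.eq_of_beq_eq_true (allL_iff.mp (andB_iff.mp e).2 p hp))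
  set H := ⊤ ⊓ stabilizer G (finPt 416 0) with hH
  have f0 : ∀ {S : List ℕ}, fixB S 0 = true → M.InL H S := fun e => fx (by norm_num) (hG.sub (andB_iff.mp e).1) e
  have hS : M.InL H HS := f0 (by decide +kernel)
  have cH : Nat.card H ≤ 604800 := by
    have h1 := card_eq_orbit_mul ⊤ (finPt 416 0) (G := G)
    have h2 := pcN_orbF_le (inj_finPt 416) (ik hG) (b := 0) (by norm_num)
    rw [show pcN 416 (orbF (get 9) 416 GS 0) = 416 by decide +kernel] at h2
    rw [Subgroup.card_top, hc] at h1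
    exact Nat.le_of_mul_le_mul_left ((Nat.mul_le_mul_right _ h2).trans (h1.ge.trans (by norm_num))) (show 0 < 416 by norm_num)
  have gH : Gen (finPt 416) 416 9 H HS := Gen.of_card (inj_finPt 416) [1, 2, 3, 4] (by decide) H (ik hS) (cH.trans (by decide +kernel))
  have key : ∀ {S U : List ℕ} {b : ℕ}, b + 1 < 416 → subOk S U b = true → ∀ x : G, (∃ j < 416, tb (orbF (get 9) 416 HS b) j = true ∧
      finPt 416 j = x • finPt 416 0) → IsCoatom ((H ⊓ H.map (MulAut.conj x).toMonoidHom).subgroupOf H) := fun {S U b} hb e x hx => by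
    simp only [subOk, force_eq, andB_iff] at e
    obtain ⟨⟨⟨e1, e2⟩, e3⟩, ⟨e4, e5, e6⟩, e7⟩ := e
    have ho := gH.orbit_eq (F := get 9) (fun _ _ _ _ r => r) (b := b) (by omega) e4 e5
    have h1 := (maxIn_of_maxB (by omega) (ik (fx (by omega) (f0 e1) e2)) (ik (f0 e3)) ho.le e7).isCoatom inf_le_left fun e => by
      obtain ⟨g, hg⟩ : finPt 416 (b + 1) ∈ orbit H (finPt 416 b) := ho ▸ ⟨_, hb, tb_eq _ _ ▸ e6, rfl⟩
      have := inj_finPt 416 _ (by omega) _ hb (((e.ge g.2).2 : (g : G) • finPt 416 b = _).symm.trans hg)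
      omega
    obtain ⟨g, hg⟩ : x • finPt 416 0 ∈ orbit H (finPt 416 b) := ho ▸ hx.imp fun j h => ⟨h.1, tb_eq _ _ ▸ h.2.1, h.2.2⟩
    refine isCoatom_conj (g := g) (fun z => ?_) h1
    have hg : (g : G) • finPt 416 b = x • finPt 416 0 := hg
    refine (and_iff_right z.2).trans (Iff.trans ?_ (and_iff_right (g * z * g⁻¹).2).symm)
    change (z : G) ∈ stabilizer G (finPt 416 b) ↔ ((g * z * g⁻¹ : H) : G) ∈ H.map (MulAut.conj x).toMonoidHom
    rw [Subgroup.mem_map_equiv]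
    simp only [hH, Subgroup.mem_inf, Subgroup.mem_top, true_and, mem_stabilizer_iff, MulAut.conj_symm_apply, Subgroup.coe_mul,
      Subgroup.coe_inv, mul_smul, ← hg, inv_smul_smul, inv_smul_eq_iff, smul_left_cancel_iff]
  refine ⟨H, (maxIn_of_maxB (by norm_num) (ik hS) (ik (hG.sub (by decide +kernel))) (fun y _ => ?_) ok0).isCoatom_top fun e => ?_, ?_,
    fun x hx => ?_⟩
  · obtain ⟨j, hj, rfl⟩ := surj_finPt 416 y
    exact ⟨j, hj, (Nat.testBit_two_pow_sub_one _ _).trans (decide_eq_true hj), rfl⟩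
  · rw [show H = ⊤ from e, Subgroup.card_top, hc] at cH; omega
  · have h2 : J2.M.PrL J2.K (DS.map fun p => (Nat.shiftRight p.1 op.W, Nat.shiftRight p.2 op.W)) :=
      J2.chK.prL (prL_prj J2.b4 J2.h (by decide +kernel)) (by decide +kernel)
    obtain ⟨f⟩ := N.exists_iso (M := M) (fit_perm (by norm_num)) (val_perm _ _ _) (K := H) (S := DS)
      ((f0 (S := HS ++ DS.map fun p => lo2 op.W p.2) (by decide +kernel)).prL [] (by decide +kernel)) h2
      (clo_le_slp (K0 := J2.K) (by simpa only [List.map_map, Function.comp_def] using h2.inL) [[0, 0], [1, 1, 1, 1, 1, 1, 1, 1, 1, 1, 1], [2, 2, 2, 2, 2, 2, 2], [3, 3, 3], [6, 5, 4, 6, 6, 5, 2, 3, 3, 3, 1, 2, 2], [8, 8, 8, 8, 8, 8, 8], [8, 8], [9, 9], [6, 6, 4, 11, 7, 2, 1, 0, 0, 8, 0], [12, 12], [13, 10, 12, 8], [9, 14, 8], [5, 7, 15, 5, 15, 14, 0, 1, 10, 0], [13, 16, 16, 15, 12], [12, 15, 1, 0, 12, 8, 17, 14, 15], [12, 15, 0, 12, 8, 10, 10], [16, 10, 0, 1, 12, 8, 17, 15, 10, 10], [10,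 10]] (by decide +kernel)) chkD
      (J2.card ▸ cH)
    exact ⟨f.trans J2.iso.some⟩
  · obtain ⟨j, hj, e⟩ := surj_finPt 416 (x • finPt 416 0)
    have := cover
    rw [force_eq, force_eq] at this
    rcases orB_iff.mp (allB_spec this j hj) with h | h
    · exact absurd ⟨trivial, (Nat.eq_of_beq_eq_true h ▸ e).symm⟩ hx
    rcases orB_iff.mp h with h | h
    exacts [key (by norm_num) ok1 x ⟨j, hj, h, e⟩, key (by norm_num) ok2 x ⟨j, hj, h, e⟩]

theorem ext_prim {F : Type*} [Field F] [Fintype F] (hF : Fintype.card F = 4) :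
    ∃ H : Subgroup (chevG2.group F), IsCoatom H ∧ Spor.IsoJ2 H ∧
      ∀ x : chevG2.group F, x ∉ H → IsCoatom ((H ⊓ H.map (MulAut.conj x).toMonoidHom).subgroupOf H) :=
  let ⟨_, h1, h2⟩ := exists_act hF; main (S1059.result hF) h1 h2

end Cfsg.Agent.H16.G24
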