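import Cfsg.Agent.H16.MW
import Cfsg.Agent.H16.MEng3
import Cfsg.Agent.H17.Ext

/-! Tables from labels, double coset counting, and a simplicity criterion. -/

set_option autoImplicit false

namespace Cfsg.Agent.H16

open MulAction Matrix H17
open scoped Pointwise commutatorElement

def Mdl.sub {o : Ops} {G Ω : Type*} [Group G] [MulAction G Ω] (M : Mdl o G Ω) (K : Subgroup G) : Mdl o K Ω where
  R a g := M.R a g.1
  P := M.P
  R_mul := M.R_mul
  R_one := M.R_one
  eq_of h1 h2 e := Subtype.ext (M.eq_of h1 h2 e)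
  eqb_refl := M.eqb_refl
  P_ap := M.P_ap
  P_fun := M.P_fun
  P_inj := M.P_inj

theorem MW_mat {a : ℕ} {g : G112} (h : MW.R a g) (v : V112) : g • v = gmat 112 a *ᵥ v := by
  rw [G112_smul, show (g : Matrix (Fin 112) (Fin 112) (ZMod 2)) = wmat a from
    mat_ext fun x hx => by rw [← G112_smul, (MW_smul h hx).2, wmat_mulVec hx]]
  rfl

theorem rep_of_labels {G Ω : Type} [Group G] [MulAction G Ω] {g : ℕ → G} {D : TD} (hD : D.Good)
    (hg : Gens D.k D.nc g) (lab : ℕ → Ω) {β : ℕ} (h1 : ∀ x, ∀ i < D.n, g x • lab i = lab (D.ρ x i))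
    (h2 : ∀ j < D.n, lab j = lab β → j = β) (h3 : ∀ i < D.n, ∃ u, ev D.ρ u β = i) :
    ∃ φ, H17.Rep g D φ ∧ (∀ a, ∀ i < D.n, a • lab i = lab (φ a i)) ∧ ∀ i < D.n, ∀ j < D.n, lab i = lab j → i = j := by
  have hev : ∀ u, ∀ i < D.n, ev g u • lab i = lab (ev D.ρ u i) := fun u => by
    induction u with
    | nil => intro i _; simp
    | cons x u ih =>
      intro i hi
      rw [ev_cons, ev_cons, mul_smul, ih i hi, h1 x _ (hD.ev_lt' u hi), Equiv.Perm.mul_apply]
  have hβ : ∀ i < D.n, β < D.n := fun i hi => by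
    obtain ⟨u, rfl⟩ := h3 i hi
    by_contra hc
    rw [hD.ev_fix u (not_lt.1 hc)] at hi
    exact hc hi
  have inj : ∀ i < D.n, ∀ j < D.n, lab i = lab j → i = j := fun i hi j hj e => by
    obtain ⟨u, rfl⟩ := h3 i hi
    have e1 := hev (mulInvL D.k u []) j hj
    rw [← e, ← hev u β (hβ _ hi), ev_mulInvL hg.inv, ev_nil, mul_one, inv_smul_smul] at e1
    have := h2 _ (hD.ev_lt' _ hj) e1.symm
    rw [ev_mulInvL hD.inv, ev_nil, mul_one, Equiv.Perm.inv_eq_iff_eq] at this
    exact this.symm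
  have uniq : ∀ u v, ev g u = ev g v → ev D.ρ u = ev D.ρ v := fun u v e => Equiv.ext fun i => by
    by_cases hi : i < D.n
    · exact inj _ (hD.ev_lt' u hi) _ (hD.ev_lt' v hi) (by rw [← hev u i hi, ← hev v i hi, e])
    · rw [hD.ev_fix u (not_lt.1 hi), hD.ev_fix v (not_lt.1 hi)]
  choose c hc using hg.surj
  refine ⟨MonoidHom.mk' (fun a => ev D.ρ (c a)) fun a b => ?_, ⟨hD, hg, fun x => ?_⟩, fun a i hi => ?_, inj⟩
  · rw [← ev_append]; exact uniq _ _ (by rw [ev_append, hc, hc, hc])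
  · exact (uniq _ [x] (by rw [hc]; simp)).trans (by simp)
  · conv_lhs => rw [← hc a]
    exact hev _ i hi

/-! ### labels as bit planes -/

noncomputable def plv (n : ℕ) (P : List ℕ) (i : ℕ) : Fin n → ZMod 2 :=
  fun j => if (H17.nth 0 P j).testBit i = true then 1 else 0

noncomputable def plB (D : TD) (n : ℕ) (P : List ℕ) (m a x : ℕ) : Bool :=
  allB n fun j => Nat.beq (D.pullW1 [x] (H17.nth 0 P j))
    (xs m fun k => ifB (tb a (Nat.add (Nat.mul 128 k) j)) (H17.nth 0 P k) 0)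

theorem xs_bit (f : ℕ → ℕ) (i : ℕ) : ∀ m, (if (xs m f).testBit i = true then 1 else 0 : ZMod 2) =
    ∑ k ∈ Finset.range m, if (f k).testBit i = true then 1 else 0
  | 0 => by simp [show xs 0 f = 0 from rfl]
  | m + 1 => by
    rw [xs_succ, Finset.sum_range_succ, ← xs_bit f i m, Nat.testBit_xor]
    cases (xs m f).testBit i <;> cases (f m).testBit i <;> decide

theorem plB_spec {D : TD} (hD : D.Shape) {n m a x : ℕ} {P : List ℕ} (hn : n ≤ 128) (hm : m ≤ n) (hP : P.length ≤ m)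
    (h : plB D n P m a x = true) (i : ℕ) : gmat n a *ᵥ plv n P i = plv n P (D.ρ x i) := by
  funext j
  have e := Nat.eq_of_beq_eq_true (allB_spec h j j.2)
  have e1 := TD.testBit_pullW1 hD i [x] (H17.nth 0 P j)
  rw [e, ev_cons, ev_nil, mul_one] at e1
  rw [plv, ← e1, xs_bit]
  have : ∀ k : Fin n, gmat n a j k * plv n P i k = (fun k : ℕ => if (ifB (tb a (Nat.add (Nat.mul 128 k) j))
      (H17.nth 0 P k) 0).testBit i = true then (1 : ZMod 2) else 0) k := fun k => by
    have e2 : gmat n a j k = if a.testBit (128 * k + j) = true then 1 else 0 := by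
      change ((get 1 (get 128 a k) j : ℕ) : ZMod 2) = _
      rw [get_eq, one_mul, pow_one, Nat.shiftRight_eq_div_pow, ← Nat.toNat_testBit, testBit_get,
        decide_eq_true (show (j : ℕ) < 128 by omega), Bool.true_and]
      cases a.testBit (128 * k + j) <;> simp
    rw [e2, plv]
    beta_reduce
    rw [ifB_eq, tb_eq]
    change _ = if (if a.testBit (128 * k + j) = true then _ else 0).testBit i = true then (1 : ZMod 2) else 0
    cases a.testBit (128 * k + j) <;> simp
  rw [mulVec, dotProduct, Finset.sum_congr rfl fun k _ => this k]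
  refine (Fin.sum_univ_eq_sum_range (fun k : ℕ => if (ifB (tb a (Nat.add (Nat.mul 128 k) j))
      (H17.nth 0 P k) 0).testBit i = true then (1 : ZMod 2) else 0) n).trans (Finset.sum_subset (Finset.range_mono hm) fun k _ hk => ?_).symm
  rw [nth_of_ge _ (hP.trans (by simpa using hk)), ifB_eq]
  simp

noncomputable def plU (P : List ℕ) (n β : ℕ) : ℕ :=
  List.rec (motive := fun _ => ℕ) (ones n) (fun p _ ih => Nat.land ih (ifB (tb p β) p (Nat.xor (ones n) p))) P

theorem plU_bit {n β j : ℕ} (hj : j < n) : ∀ P : List ℕ, (∀ p ∈ P, p.testBit j = p.testBit β) →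
    (plU P n β).testBit j = true
  | [], _ => by rw [show plU [] n β = ones n from rfl, testBit_ones]; simpa using hj
  | p :: P, h => by
    change (plU P n β &&& ifB (tb p β) p (ones n ^^^ p)).testBit j = true
    rw [Nat.testBit_and, plU_bit hj P fun q hq => h q (List.mem_cons_of_mem _ hq), ifB_eq, tb_eq,
      ← h p List.mem_cons_self]
    cases e : p.testBit j <;> simp [e, testBit_ones, hj]

theorem plU_spec {n N β : ℕ} {P : List ℕ} (hP : P.length ≤ N) (h : Nat.beq (plU P n β) (bit β) = true) :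
    ∀ j < n, plv N P j = plv N P β → j = β := fun j hj e => by
  rw [← testBit_bit, ← Nat.eq_of_beq_eq_true h]
  refine plU_bit hj P fun p hp => ?_
  obtain ⟨k, hk, rfl⟩ := List.mem_iff_getElem.mp hp
  have := congrFun e ⟨k, by omega⟩
  simp only [plv, nth_eq_getD, List.getD_eq_getElem _ _ hk] at this
  revert this
  cases P[k].testBit j <;> cases P[k].testBit β <;> decide

theorem plv_eq {N β w : ℕ} {P : List ℕ} (h : allB N (fun j => iffB (tb (H17.nth 0 P j) β) (tb w j)) = true) :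
    plv N P β = gv N w := funext fun j => by
  have := iffB_iff.mp (allB_spec h j j.2)
  rw [tb_eq, tb_eq] at this
  change _ = ((get 1 w j : ℕ) : ZMod 2)
  rw [plv, get_eq, one_mul, pow_one, Nat.shiftRight_eq_div_pow, ← Nat.toNat_testBit]
  simp only [this]
  cases w.testBit j <;> simp

theorem orbIt_pred {D : TD} (h : D.Shape) {Q : ℕ → Prop} {W : List (List ℕ)}
    (hW : ∀ u ∈ W, ∀ i, Q (ev D.ρ u i) → Q i) (r : ℕ) : ∀ S : ℕ, (∀ i, S.testBit i = true → Q i) →
    ∀ i, (D.orbIt W r S).testBit i = true → Q i := by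
  have step : ∀ V : List (List ℕ), (∀ u ∈ V, ∀ i, Q (ev D.ρ u i) → Q i) → ∀ S : ℕ, (∀ i, S.testBit i = true → Q i) →
      ∀ i, (D.orbStep V S).testBit i = true → Q i := fun V => by
    induction V with
    | nil => exact fun _ _ hS => hS
    | cons u V ih =>
      intro hV S hS
      change ∀ i, (H17.force (Nat.lor S (D.pullW1 u S)) (D.orbStep V)).testBit i = true → _
      rw [H17.force_eq]
      refine ih (fun v hv => hV v (List.mem_cons_of_mem _ hv)) _ fun i hi => ?_
      rw [lor_eq, Nat.testBit_or, Bool.or_eq_true, TD.testBit_pullW1 h] at hi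
      exact hi.elim (hS i) fun hi => hV u List.mem_cons_self i (hS _ hi)
  induction r with
  | zero => exact fun _ hS => hS
  | succ r ih =>
    intro S hS
    change ∀ i, (H17.force (D.orbStep W S) (D.orbIt W r)).testBit i = true → _
    rw [H17.force_eq]
    exact ih _ (step W hW S hS)

theorem trans_of_orb {D : TD} (h : D.Good) {W : List (List ℕ)} {r β : ℕ}
    (e : Nat.beq (D.orbIt W r (bit β)) (ones D.n) = true) : ∀ i < D.n, ∃ u, ev D.ρ u β = i := fun i hi =>
  orbIt_pred h.toShape (Q := fun i => ∃ u, ev D.ρ u β = i) (W := W) (fun w _ i ⟨u, hu⟩ =>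
    ⟨mulInvL D.k w u, by rw [ev_mulInvL h.inv, Equiv.Perm.mul_apply, hu]; simp⟩) r (bit β)
    (fun i hi => ⟨[], ((testBit_bit _ _).mp hi).symm⟩) i
    (by rw [Nat.eq_of_beq_eq_true e, testBit_ones]; simpa using hi)

theorem low_le {G : Type} [Group G] {g : ℕ → G} {D : TD} {φ : G →* Equiv.Perm ℕ} (h : H17.Rep g D φ)
    {A : Subgroup G} [Finite A] {t : ℕ} {ls : List Lev} (hW : ∀ L ∈ ls, ∀ u ∈ L.W, ev g u ∈ A)
    (hc : lowB D t ls [] = true) : levProd ls ≤ Nat.card A := by
  have hsurj : Function.Surjective (φ.subgroupMap A) := φ.subgroupMap_surjective A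
  have : Finite ↥(A.map φ) := Finite.of_surjective _ hsurj
  have h1 := lowB_sound h.good.toShape (A.map φ) ls [] (fun L hL u hu => ⟨_, hW L hL u hu, h.map_ev u⟩) hc
  have e : A.map φ ⊓ fixS [] = A.map φ := inf_eq_left.2 fun σ _ β hβ => absurd hβ (by simp)
  rw [e] at h1
  have : Finite ↥(A.map φ ⊓ fixS (levBase ls [])) := Finite.of_injective _ (Subgroup.inclusion_injective inf_le_left)
  exact ((Nat.le_mul_of_pos_right _ Nat.card_pos).trans h1).trans (Nat.card_le_card_of_surjective _ hsurj)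

/-! ### double cosets -/

section abs
variable {Γ : Type*} [Group Γ]

def dcs (H : Subgroup Γ) (a : Γ) : Set Γ := {x | ∃ h1 ∈ H, ∃ h2 ∈ H, x = h1 * a * h2}

def stb (H : Subgroup Γ) (a : Γ) : Subgroup H where
  carrier := {s | a⁻¹ * s * a ∈ H}
  one_mem' := by simp
  mul_mem' {x y} hx hy := by
    have := H.mul_mem hx hy
    change a⁻¹ * ((x : Γ) * y) * a ∈ H
    convert this using 1; group
  inv_mem' {x} hx := by
    have := H.inv_mem hx
    change a⁻¹ * (x : Γ)⁻¹ * a ∈ H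
    convert this using 1; group

theorem ncard_dcs {H : Subgroup Γ} [Finite H] {a : Γ} {n m : ℕ} (hm : m ≤ Nat.card (stb H a))
    (hn : Nat.card H ≤ n * m) : (dcs H a).Finite ∧ (dcs H a).ncard ≤ n * Nat.card H := by
  let f : (H ⧸ stb H a) × H → Γ := fun z => (z.1.out : H) * a * z.2
  have hs : dcs H a ⊆ Set.range f := by
    rintro _ ⟨h1, m1, h2, m2, rfl⟩
    obtain ⟨s, e⟩ := QuotientGroup.mk_out_eq_mul (stb H a) ⟨h1, m1⟩
    refine ⟨(QuotientGroup.mk ⟨h1, m1⟩, ⟨_, H.mul_mem ((stb H a).inv_mem s.2) m2⟩), ?_⟩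
    simp only [f, e, Subgroup.coe_mul, Subgroup.coe_inv]
    group
  have hi : Nat.card (H ⧸ stb H a) ≤ n := by
    have h1 := Subgroup.card_eq_card_quotient_mul_card_subgroup (stb H a)
    exact Nat.le_of_mul_le_mul_right (h1 ▸ hn.trans (Nat.mul_le_mul_left n hm)) Nat.card_pos
  refine ⟨(Set.finite_range f).subset hs, (Set.ncard_le_ncard hs (Set.finite_range f)).trans ?_⟩
  rw [← Set.image_univ]
  refine (Set.ncard_image_le (Set.toFinite _)).trans ?_
  rw [Set.ncard_univ, Nat.card_prod]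
  exact Nat.mul_le_mul_right _ hi

theorem ncard_cover {ι α : Type*} (D : ι → Set α) (c : ι → ℕ) (h : ∀ j, (D j).Finite ∧ (D j).ncard ≤ c j)
    (s : Finset ι) : (⋃ j ∈ s, D j).Finite ∧ (⋃ j ∈ s, D j).ncard ≤ ∑ j ∈ s, c j := by
  classical
  induction s using Finset.induction_on with
  | empty => simp
  | insert j s hj ih =>
    rw [Finset.set_biUnion_insert, Finset.sum_insert hj]
    exact ⟨(h j).1.union ih.1, (Set.ncard_union_le _ _).trans (Nat.add_le_add (h j).2 ih.2)⟩

theorem dc_main {H : Subgroup Γ} {N : ℕ} {ι : Type} [Fintype ι] (a : ι → Γ) (n : ι → ℕ)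
    (hf : ∀ j, (dcs H (a j)).Finite ∧ (dcs H (a j)).ncard ≤ n j * N) (hc : ∀ x, ∃ j, x ∈ dcs H (a j)) :
    Finite Γ ∧ Nat.card Γ ≤ (∑ j, n j) * N ∧ (Nat.card Γ = (∑ j, n j) * N → ∀ K, H ≤ K →
      ∃ s : Finset ι, (∀ j, a j ∈ K → j ∈ s) ∧ Nat.card K = (∑ j ∈ s, n j) * N) := by
  classical
  have key : ∀ (S : Set Γ) (s : Finset ι), (∀ x ∈ S, ∀ j, x ∈ dcs H (a j) → j ∈ s) →
      S.Finite ∧ S.ncard ≤ (∑ j ∈ s, n j) * N := fun S s h => by
    have h1 := ncard_cover (fun j => dcs H (a j)) _ hf s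
    have h2 : S ⊆ ⋃ j ∈ s, dcs H (a j) := fun x hx => by
      obtain ⟨j, hj⟩ := hc x
      exact Set.mem_biUnion (h x hx j hj) hj
    exact ⟨h1.1.subset h2, Finset.sum_mul s n N ▸ (Set.ncard_le_ncard h2 h1.1).trans h1.2⟩
  have h0 := key Set.univ Finset.univ fun _ _ _ _ => Finset.mem_univ _
  have : Finite Γ := Set.finite_univ_iff.mp h0.1
  refine ⟨this, by simpa using h0.2, fun e K hK => ⟨Finset.univ.filter fun j => a j ∈ K, fun j hj => by simpa using hj, ?_⟩⟩
  have h1 := (key K (Finset.univ.filter fun j => a j ∈ K) (by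
    rintro _ hx j ⟨h1, m1, h2, m2, rfl⟩
    have := K.mul_mem (K.mul_mem (K.inv_mem (hK m1)) hx) (K.inv_mem (hK m2))
    simp only [Finset.mem_filter, Finset.mem_univ, true_and]
    convert this using 1; group)).2
  have h2 := (key (K : Set Γ)ᶜ (Finset.univ.filter fun j => ¬ a j ∈ K) (by
    rintro _ hx j ⟨h1, m1, h2, m2, rfl⟩
    simp only [Finset.mem_filter, Finset.mem_univ, true_and]
    exact fun h => hx (K.mul_mem (K.mul_mem (hK m1) h) (hK m2)))).2
  have h3 := Set.ncard_add_ncard_compl (K : Set Γ)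
  rw [e, ← Finset.sum_filter_add_sum_filter_not Finset.univ (fun j => a j ∈ K), add_mul] at h3
  change (K : Set Γ).ncard = _
  omega

theorem card_step [Finite Γ] {A : Subgroup Γ} {b : Γ} {p : ℕ} [Fact p.Prime] (hn : ∀ x ∈ A, b * x * b⁻¹ ∈ A)
    (hp : b ^ p = 1) (hb : b ∉ A) : p * Nat.card A ∣ Nat.card ↥(A ⊔ Subgroup.zpowers b) := by
  have h1 : A ⊔ Subgroup.zpowers b ≤ Subgroup.normalizer A :=
    sup_le Subgroup.le_normalizer (Subgroup.zpowers_le.mpr (Subgroup.mem_normalizer_fintype hn))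
  have := (Subgroup.normal_subgroupOf_iff_le_normalizer le_sup_left).mpr h1
  have hb' : b ∈ A ⊔ Subgroup.zpowers b := Subgroup.mem_sup_right (Subgroup.mem_zpowers b)
  have h2 : orderOf (QuotientGroup.mk' (A.subgroupOf (A ⊔ Subgroup.zpowers b)) ⟨b, hb'⟩) = p :=
    orderOf_eq_prime (by rw [← map_pow, show (⟨b, hb'⟩ : ↥(A ⊔ Subgroup.zpowers b)) ^ p = 1 from Subtype.ext hp, map_one])
      fun e => hb ((QuotientGroup.eq_one_iff (N := A.subgroupOf (A ⊔ Subgroup.zpowers b)) ⟨b, hb'⟩).mp e)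
  rw [Subgroup.card_eq_card_quotient_mul_card_subgroup (A.subgroupOf (A ⊔ Subgroup.zpowers b)),
    Nat.card_congr (Subgroup.subgroupOfEquivOfLe le_sup_left).toEquiv]
  exact Nat.mul_dvd_mul_right (h2 ▸ orderOf_dvd_natCard _) _

theorem heis_dvd [Finite Γ] {a b c : Γ} {p : ℕ} [Fact p.Prime] (ha : a ^ p = 1) (hb : b ^ p = 1) (hc : c ^ p = 1)
    (h1 : c ≠ 1) (hac : a * c = c * a) (hbc : b * c = c * b) (hab : a * b = c * (b * a)) : p ^ 3 ∣ Nat.card Γ := by
  have nab : a * b ≠ b * a := fun e => h1 (by rw [e] at hab; simpa using hab)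
  have conj : ∀ {A : Subgroup Γ} {u : Γ}, A ≤ A.comap (MulAut.conj u).toMonoidHom → ∀ x ∈ A, u * x * u⁻¹ ∈ A :=
    fun h x hx => h hx
  have cm : ∀ {A : Subgroup Γ} {u x : Γ}, u * x * u⁻¹ ∈ A → x ∈ A.comap (MulAut.conj u).toMonoidHom := fun h => h
  have cen : ∀ {u v : Γ}, u * v = v * u → Subgroup.zpowers v ≤ Subgroup.centralizer {u} := fun h =>
    Subgroup.zpowers_le.mpr (Subgroup.mem_centralizer_singleton_iff.mpr h.symm)
  have d1 := card_step (A := ⊥) (b := c) (by simp) hc (by simpa using h1)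
  have mc : c ∈ ⊥ ⊔ Subgroup.zpowers c := Subgroup.mem_sup_right (Subgroup.mem_zpowers c)
  have d2 := card_step (A := ⊥ ⊔ Subgroup.zpowers c) (b := a) (conj (sup_le bot_le (Subgroup.zpowers_le.mpr (cm (by
    rwa [hac, mul_inv_cancel_right]))))) ha fun h =>
      nab (Subgroup.mem_centralizer_singleton_iff.mp ((sup_le bot_le (cen hbc) :) h))
  have d3 := card_step (A := (⊥ ⊔ Subgroup.zpowers c) ⊔ Subgroup.zpowers a) (b := b) (conj (sup_le (sup_le bot_le
    (Subgroup.zpowers_le.mpr (cm (by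
      rw [hbc, mul_inv_cancel_right]; exact Subgroup.mem_sup_left mc)))) (Subgroup.zpowers_le.mpr (cm (by
      rw [show b * a * b⁻¹ = c⁻¹ * a by rw [eq_inv_mul_iff_mul_eq, ← mul_assoc, ← hab, mul_inv_cancel_right]]
      exact Subgroup.mul_mem _ (Subgroup.inv_mem _ (Subgroup.mem_sup_left mc))
        (Subgroup.mem_sup_right (Subgroup.mem_zpowers a))))))) hb fun h =>
      nab (Subgroup.mem_centralizer_singleton_iff.mp ((sup_le (sup_le bot_le (cen hac)) (cen rfl) :) h)).symm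
  rw [Subgroup.card_bot, mul_one] at d1
  refine Dvd.dvd.trans ?_ (d3.trans (Subgroup.card_subgroup_dvd_card _))
  rw [pow_succ', sq]
  exact Nat.mul_dvd_mul_left _ ((Nat.mul_dvd_mul_left _ d1).trans d2)

theorem elab_le : ∀ l : List Γ, (∀ a ∈ l, ∀ b ∈ l, a * b = b * a) → (∀ a ∈ l, a * a = 1) →
    CardLe (Subgroup.closure {a | a ∈ l}) (2 ^ l.length)
  | [], _, _ => by simpa using cardLe_bot
  | a :: l, hc, h2 => by
    have ih := elab_le l (fun x hx y hy => hc x (List.mem_cons_of_mem _ hx) y (List.mem_cons_of_mem _ hy))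
      fun x hx => h2 x (List.mem_cons_of_mem _ hx)
    have := ih.1
    have hn : ∀ x ∈ Subgroup.closure {a | a ∈ l}, a * x * a⁻¹ ∈ Subgroup.closure {a | a ∈ l} := fun x hx => by
      have : x ∈ Subgroup.centralizer {a} := ((Subgroup.closure_le _).mpr fun y hy =>
        Subgroup.mem_centralizer_singleton_iff.mpr (hc y (List.mem_cons_of_mem _ hy) a List.mem_cons_self)) hx
      rwa [← Subgroup.mem_centralizer_singleton_iff.mp this, mul_inv_cancel_right]
    have ha : a * a ∈ Subgroup.closure {a | a ∈ l} := by rw [h2 a List.mem_cons_self]; exact Subgroup.one_mem _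
    refine CardLe.mono (T := ext2 _ a hn ha) ⟨card_ext2_le.1, card_ext2_le.2.trans ?_⟩ ?_
    · rw [List.length_cons, pow_succ']; exact Nat.mul_le_mul_left _ ih.2
    · refine (Subgroup.closure_le _).mpr fun y hy => ?_
      rcases List.mem_cons.mp hy with rfl | hy
      exacts [mem_ext2, le_ext2 (Subgroup.subset_closure hy)]

theorem cardLe_sup {E N : Subgroup Γ} {a b : ℕ} (hE : CardLe E a) (hN : CardLe N b) (h : N ≤ Subgroup.normalizer E) :
    CardLe (E ⊔ N) (a * b) := by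
  have := hE.1
  have := hN.1
  let f : E × N → Γ := fun z => z.1 * z.2
  have hs : ((E ⊔ N : Subgroup Γ) : Set Γ) ⊆ Set.range f := by
    rw [Subgroup.coe_mul_of_right_le_normalizer_left E N h]
    rintro _ ⟨x, hx, y, hy, rfl⟩
    exact ⟨(⟨x, hx⟩, ⟨y, hy⟩), rfl⟩
  refine ⟨(Set.finite_range f).subset hs, (Set.ncard_le_ncard hs (Set.finite_range f)).trans ?_⟩
  rw [← Set.image_univ]
  refine (Set.ncard_image_le (Set.toFinite _)).trans ?_
  rw [Set.ncard_univ, Nat.card_prod]
  exact Nat.mul_le_mul hE.2 hN.2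

theorem simple_iw [Nontrivial Γ] {H E : Subgroup Γ} (hmax : ∀ K, H ≤ K → K = H ∨ K = ⊤)
    (hEn : H ≤ Subgroup.normalizer E) (hEc : ∀ a ∈ E, ∀ b ∈ E, a * b = b * a)
    (hcore : ∀ M : Subgroup Γ, M.Normal → M ≤ H → M = ⊥) (hE : ∀ L : Subgroup Γ, L.Normal → E ≤ L → L = ⊤)
    (hp : ∀ M : Subgroup Γ, M.Normal → commutator Γ ≤ M → M = ⊤) : IsSimpleGroup Γ := by
  refine ⟨fun M hM => ?_⟩
  rcases hmax (M ⊔ H) le_sup_right with e | e
  · exact Or.inl (hcore M hM (e ▸ le_sup_left))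
  refine Or.inr (hp M hM ?_)
  have hL : (M ⊔ E).Normal := by
    rw [← Subgroup.normalizer_eq_top_iff, eq_top_iff, ← e]
    refine sup_le (le_sup_left.trans Subgroup.le_normalizer) fun h hh => ?_
    have key : ∀ h ∈ H, ∀ x ∈ M ⊔ E, h * x * h⁻¹ ∈ M ⊔ E := fun h hh x hx => by
      obtain ⟨y, hy, z, hz, rfl⟩ := Subgroup.mem_sup_of_normal_left.mp hx
      have := Subgroup.mul_mem_sup (hM.conj_mem y hy h) ((Subgroup.mem_normalizer_iff.mp (hEn hh) z).mp hz)
      convert this using 1; group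
    refine Subgroup.mem_normalizer_iff.mpr fun x => ⟨key h hh x, fun hx => ?_⟩
    have := key _ (H.inv_mem hh) _ hx
    convert this using 1; group
  have ht := hE _ hL le_sup_right
  rw [commutator_def, Subgroup.commutator_le]
  intro x _ y _
  obtain ⟨m, hm, z, hz, rfl⟩ := Subgroup.mem_sup_of_normal_left.mp (ht.ge (Subgroup.mem_top x))
  obtain ⟨m', hm', z', hz', rfl⟩ := Subgroup.mem_sup_of_normal_left.mp (ht.ge (Subgroup.mem_top y))
  rw [← QuotientGroup.eq_one_iff, ← QuotientGroup.mk'_apply, map_commutatorElement, map_mul, map_mul,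
    QuotientGroup.mk'_apply, (QuotientGroup.eq_one_iff m).mpr hm, QuotientGroup.mk'_apply M m',
    (QuotientGroup.eq_one_iff m').mpr hm', one_mul, one_mul, ← map_commutatorElement,
    commutatorElement_eq_one_iff_mul_comm.mpr (hEc z hz z' hz'), map_one]

end abs

end Cfsg.Agent.H16
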