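import Cfsg.Agent.H16.J4A

/-! Checks of equations between words in a model. -/

set_option autoImplicit false

namespace Cfsg.Agent.H16

open MulAction H17

section defs
variable (o : Ops)

noncomputable def m3 (a b c : ℕ) : ℕ := force a fun a => force c fun c => force (o.mul b c) fun z => o.mul a z

noncomputable def defB (S : List ℕ) (Ws : List (List ℕ)) (C : List ℕ) (n : ℕ) : Bool :=
  allB n fun i => Nat.beq (evM o S (H17.nth [] Ws i)) (nth o.one C i)

noncomputable def stB (S : List ℕ) (c : ℕ) (L : List (List ℕ × List ℕ)) : Bool :=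
  H17.allL L fun p => force (evM o S p.1) fun s => force (evM o S p.2) fun u => cjM o c u s

abbrev Ent : Type := List ℕ × ℕ × List ℕ × List ℕ

noncomputable def dcB (S : List ℕ) (t : ℕ) (C : List ℕ) (c : ℕ) (L : List Ent) : Bool :=
  H17.allL L fun e => andB (Nat.blt e.2.1 7) (force (evM o S e.1) fun r => force (m3 o t r c) fun l =>
    force (m3 o (evM o S e.2.2.1) (nth o.one C e.2.1) (evM o S e.2.2.2)) fun m => o.eqb l m)

noncomputable def startM (D : TD) (L : List Ent) : ℕ :=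
  List.rec (motive := fun _ => ℕ) 0 (fun e _ ih => Nat.lor ih (bit (D.appWI e.1 0))) L

noncomputable def fstL (L : List (List ℕ × List ℕ)) : List (List ℕ) :=
  List.rec (motive := fun _ => List (List ℕ)) [] (fun e _ ih => e.1 :: ih) L

end defs

theorem mem_fstL {u : List ℕ} : ∀ {L : List (List ℕ × List ℕ)}, u ∈ fstL L → ∃ p ∈ L, p.1 = u
  | [], h => absurd h List.not_mem_nil
  | e :: L, h => by
    rcases List.mem_cons.mp (show u ∈ e.1 :: fstL L from h) with rfl | h
    · exact ⟨e, List.mem_cons_self, rfl⟩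
    · obtain ⟨p, hp, e'⟩ := mem_fstL h
      exact ⟨p, List.mem_cons_of_mem _ hp, e'⟩

theorem startM_bit {D : TD} {i : ℕ} : ∀ {L : List Ent}, (startM D L).testBit i = true → ∃ e ∈ L, D.appWI e.1 0 = i
  | [], h => absurd h (by simp [show startM D [] = 0 from rfl])
  | e :: L, h => by
    have h' : (startM D L ||| bit (D.appWI e.1 0)).testBit i = true := h
    rw [Nat.testBit_or, Bool.or_eq_true] at h'
    rcases h' with h' | h'
    · obtain ⟨p, hp, e'⟩ := startM_bit h'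
      exact ⟨p, List.mem_cons_of_mem _ hp, e'⟩
    · exact ⟨e, List.mem_cons_self, ((testBit_bit _ _).mp h').symm⟩

unseal nth in
theorem nth_ge (d : ℕ) : ∀ (l : List ℕ) (i : ℕ), l.length ≤ i → nth d l i = d
  | [], _, _ => rfl
  | _ :: _, 0, h => absurd h (by simp)
  | _ :: l, i + 1, h => nth_ge d l i (by simpa using h)

variable {o : Ops} {G Ω : Type} [Group G] [MulAction G Ω] {M : Mdl o G Ω}

namespace Mdl

theorem R_m3 {a b c : ℕ} {g h k : G} (r : M.R a g) (s : M.R b h) (t : M.R c k) : M.R (m3 o a b c) (g * (h * k)) := by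
  rw [m3, force_eq, force_eq, force_eq]; exact M.R_mul r (M.R_mul s t)

theorem R_ev {S : List ℕ} {g : ℕ → G} (h : ∀ i, M.R (nth o.one S i) (g i)) (u : List ℕ) : M.R (evM o S u) (ev g u) :=
  R_ev3 h u

theorem R_beq {a b : ℕ} {g : G} (r : M.R a g) (e : Nat.beq a b = true) : M.R b g := Nat.eq_of_beq_eq_true e ▸ r

theorem R_sub {S : List ℕ} {g : ℕ → G} (h : ∀ i, M.R (nth o.one S i) (g i)) {Ws : List (List ℕ)} {C : List ℕ} {n : ℕ}
    (h1 : Ws.length = n) (h2 : C.length = n) (e : defB o S Ws C n = true) (i : ℕ) :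
    M.R (nth o.one C i) (H17.sub Ws g i) := by
  by_cases hi : i < n
  · exact R_beq (R_ev h _) (allB_spec e i hi)
  · rw [nth_ge _ _ _ (by omega), sub_triv _ (by omega)]; exact M.R_one

theorem ev_eq {S : List ℕ} {g : ℕ → G} (h : ∀ i, M.R (nth o.one S i) (g i)) {Ws : List (List ℕ)} {C : List ℕ} {n : ℕ}
    (e : defB o S Ws C n = true) {i : ℕ} (hi : i < n) {a : G} (r : M.R (nth o.one C i) a) :
    ev g (H17.nth [] Ws i) = a := R_fun (R_beq (R_ev h _) (allB_spec e i hi)) r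

theorem stB_spec {S : List ℕ} {g : ℕ → G} (h : ∀ i, M.R (nth o.one S i) (g i)) {H : Subgroup G} (hg : ∀ i, g i ∈ H)
    {c : ℕ} {a : G} (r : M.R c a) {L : List (List ℕ × List ℕ)} (e : stB o S c L = true) {u : List ℕ}
    (hu : u ∈ fstL L) : a⁻¹ * ev g u * a ∈ H := by
  obtain ⟨p, hp, rfl⟩ := mem_fstL hu
  have := allL_true e p hp
  rw [force_eq, force_eq] at this
  rw [← cjM_spec r (R_ev h p.2) (R_ev h p.1) this]
  convert ev_mem (v := p.2) fun x _ => hg x using 1; group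

theorem dcB_spec {S : List ℕ} {g : ℕ → G} (h : ∀ i, M.R (nth o.one S i) (g i)) {H : Subgroup G} (hg : ∀ i, g i ∈ H)
    {ct : ℕ} {t : G} (rt : M.R ct t) {C : List ℕ} {k : ℕ → G} (hk : ∀ i, M.R (nth o.one C i) (k i))
    {c : ℕ} {a : G} (r : M.R c a) {L : List Ent} (e : dcB o S ct C c L = true) {p : Ent} (hp : p ∈ L) :
    ∃ j : Fin 7, t * ev g p.1 * a ∈ dcs H (k j) := by
  have := andB_iff.mp (allL_true e p hp)
  have h2 := this.2
  simp only [force_eq] at h2
  refine ⟨⟨p.2.1, Nat.blt_eq.mp this.1⟩, _, ev_mem (v := p.2.2.1) fun x _ => hg x, _,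
    ev_mem (v := p.2.2.2) fun x _ => hg x, ?_⟩
  rw [mul_assoc, mul_assoc]
  exact M.eq_of (R_m3 rt (R_ev h _) r) (R_m3 (R_ev h _) (hk _) (R_ev h _)) h2

end Mdl

theorem dcs_mul {Γ : Type*} [Group Γ] {H : Subgroup Γ} {a x u v : Γ} (hx : x ∈ dcs H a) (hu : u ∈ H) (hv : v ∈ H) :
    u * x * v ∈ dcs H a := by
  obtain ⟨h1, m1, h2, m2, rfl⟩ := hx
  exact ⟨_, H.mul_mem hu m1, _, H.mul_mem m2 hv, by group⟩

/-- all products `t h a` lie in the known double cosets -/
theorem cover_of {H : Subgroup G} {g : ℕ → H} {D : TD} {φ : H →* Equiv.Perm ℕ} (hr : H17.Rep g D φ) {t a : G}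
    {k : Fin 7 → G} (hs : ∀ p : H, φ p 0 = 0 → t * p * t⁻¹ ∈ H) {W : List (List ℕ)}
    (hW : ∀ u ∈ W, a⁻¹ * (ev g u : H) * a ∈ H) {L : List Ent}
    (hL : ∀ p ∈ L, ∃ j, t * (ev g p.1 : H) * a ∈ dcs H (k j)) {r : ℕ}
    (e : Nat.beq (D.orbIt W r (startM D L)) (ones D.n) = true) (h : H) : ∃ j, t * h * a ∈ dcs H (k j) := by
  refine orbIt_pred hr.good.toShape (Q := fun i => ∀ h : H, φ h⁻¹ 0 = i → ∃ j, t * h * a ∈ dcs H (k j)) (W := W)
    (fun u hu i hQ h hh => ?_) r (startM D L) (fun i hi h hh => ?_) (φ h⁻¹ 0) ?_ h rfl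
  · obtain ⟨j, hj⟩ := hQ (h * (ev g u)⁻¹) (by
      rw [mul_inv_rev, inv_inv, map_mul, Equiv.Perm.mul_apply, hh, hr.map_ev])
    refine ⟨j, ?_⟩
    have := dcs_mul hj H.one_mem (hW u hu)
    simp only [Subgroup.coe_mul, Subgroup.coe_inv] at this
    convert this using 1; group
  · obtain ⟨p, hp, rfl⟩ := startM_bit hi
    obtain ⟨j, hj⟩ := hL p hp
    refine ⟨j, ?_⟩
    rw [TD.appWI_eq hr.good.toShape, ← hr.map_ev] at hh
    have h1 := hs (h * (ev g p.1)⁻¹) (by
      rw [map_mul, map_inv, Equiv.Perm.mul_apply, ← hh, map_inv]; simp)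
    have := dcs_mul hj h1 H.one_mem
    simp only [Subgroup.coe_mul, Subgroup.coe_inv] at this
    convert this using 1; group
  · rw [Nat.eq_of_beq_eq_true e, testBit_ones]
    exact decide_eq_true (hr.lt _ hr.good.pos)

/-- labels for all letters from the labels for the even letters -/
theorem lab_all {g : ℕ → G} {D : TD} (hD : D.Good) (hk : D.k = 0) (hg : Gens D.k D.nc g) {lab : ℕ → Ω}
    (h : ∀ x, 2 * x < D.nc → ∀ i, g (2 * x) • lab i = lab (D.ρ (2 * x) i)) (x i : ℕ) :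
    g x • lab i = lab (D.ρ x i) := by
  by_cases hx : x < D.nc
  · rcases Nat.even_or_odd' x with ⟨y, rfl | rfl⟩
    · exact h y hx i
    · have e : inv D.k (2 * y) = 2 * y + 1 := by
        rw [hk, inv_of_ge (Nat.zero_le _), Nat.sub_zero, zero_add, Nat.xor_one_of_even ⟨y, by ring⟩]
      rw [← e, hg.inv, hD.inv, inv_smul_eq_iff, h y (by omega)]
      simp
  · rw [hg.triv x (not_lt.1 hx), hD.triv x (not_lt.1 hx), one_smul]; rfl

end Cfsg.Agent.H16
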