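import Cfsg.Agent.H16.J4T1
import Cfsg.Agent.H16.J4T2

/-! Double coset checks. -/

set_option autoImplicit false
set_option maxRecDepth 100000
set_option Elab.async false

namespace Cfsg.Agent.H16.J4C1

open H17 J4M J4G

noncomputable def st : List (List ℕ × List ℕ) := [(unp 4 10 (nat_lit 0x4444666664), unp 4 14 (nat_lit 0x5733424261330)),
  (unp 4 14 (nat_lit 0x6344444266661), unp 4 14 (nat_lit 0x27036215162142)),
  (unp 4 13 (nat_lit 0x7362162162126), unp 4 14 (nat_lit 0x61642772436343)),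
  (unp 4 13 (nat_lit 0x6262041503604), unp 4 15 (nat_lit 0x246160366403700)),
  (unp 4 12 (nat_lit 0x666603703703), unp 4 15 (nat_lit 0x151305343560400)),
  (unp 4 9 (nat_lit 0x726666636), unp 4 13 (nat_lit 0x5177355042173)),
  (unp 4 12 (nat_lit 0x777204720466), unp 4 15 (nat_lit 0x427725305600560)),
  (unp 4 13 (nat_lit 0x2602604412646), unp 4 14 (nat_lit 0x44000573113652)),
  (unp 4 13 (nat_lit 0x5174116173436), unp 4 14 (nat_lit 0x74051203446377)),
  (unp 4 13 (nat_lit 0x5155711130507), unp 4 14 (nat_lit 0x44162631357770)),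
  (unp 4 14 (nat_lit 0x57361507024424), unp 4 13 (nat_lit 0x5206205212605))]
noncomputable def en : List Ent := [([], 0, [], []),
  ([1], 2, unp 4 8 (nat_lit 0x13504213), unp 4 14 (nat_lit 0x57347306604724)),
  ([3], 6, unp 4 6 (nat_lit 0x4431), unp 4 14 (nat_lit 0x25360526046507)),
  ([5], 3, unp 4 8 (nat_lit 0x26171222), unp 4 14 (nat_lit 0x77414212656624)),
  ([3, 6, 3], 1, unp 4 6 (nat_lit 0x26375), unp 4 13 (nat_lit 0x6475777571360)),
  ([1, 2, 1, 3], 1, [1, 2, 1, 3], unp 4 13 (nat_lit 0x7571127571703)),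
  ([7, 4, 2, 7], 1, [7, 4, 2, 7], unp 4 13 (nat_lit 0x5757475356311))]
noncomputable def W : List (List ℕ) := [unp 4 13 (nat_lit 0x5174116173436),
  unp 4 13 (nat_lit 0x5155711130507),
  unp 4 14 (nat_lit 0x57361507024424)]
noncomputable def lv : List Lev := [⟨0, [unp 4 13 (nat_lit 0x2602604412646),
  unp 4 13 (nat_lit 0x5174116173436),
  unp 4 13 (nat_lit 0x5155711130507)], 6, 1344⟩,
 ⟨148, [unp 4 13 (nat_lit 0x2602604412646),
  unp 4 13 (nat_lit 0x5174116173436)], 7, 192⟩,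
 ⟨2, [unp 4 12 (nat_lit 0x777204720466)], 1, 2⟩,
 ⟨6, [unp 4 9 (nat_lit 0x726666636)], 1, 2⟩,
 ⟨14, [unp 4 12 (nat_lit 0x666603703703)], 1, 2⟩,
 ⟨30, [unp 4 13 (nat_lit 0x6262041503604)], 1, 2⟩,
 ⟨70, [unp 4 13 (nat_lit 0x7362162162126)], 1, 2⟩,
 ⟨238, [unp 4 14 (nat_lit 0x6344444266661)], 1, 2⟩,
 ⟨462, [unp 4 10 (nat_lit 0x4444666664)], 1, 2⟩]
theorem c1 : stB oW SH cT st = true := by decide +kernel
theorem c2 : dcB oW SH cT CG cT en = true := by decide +kernel
theorem c3 : Nat.beq (J4T1.D.orbIt W 7 (startM J4T1.D en)) (ones J4T1.D.n) = true := by decide +kernel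
theorem c4 : lowB J4T2.D 6 lv [] = true := by decide +kernel
theorem c5 : subsetB W (fstL st) = true ∧ H17.allL lv (fun L => subsetB L.W (fstL st)) = true ∧ levProd lv = 33030144 := by
  decide +kernel

end Cfsg.Agent.H16.J4C1
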