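import Cfsg.Agent.H16.J4T1
import Cfsg.Agent.H16.J4T2

/-! Double coset checks. -/

set_option autoImplicit false
set_option maxRecDepth 100000
set_option Elab.async false

namespace Cfsg.Agent.H16.J4C2

open H17 J4M J4G

noncomputable def st : List (List ℕ × List ℕ) := [(unp 4 14 (nat_lit 0x42031131171757), unp 4 14 (nat_lit 0x75220615065727)),
  (unp 4 13 (nat_lit 0x2757431177222), unp 4 15 (nat_lit 0x336244021306060)),
  (unp 4 15 (nat_lit 0x653061622430420), unp 4 14 (nat_lit 0x2044650031741))]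
noncomputable def en : List Ent := [([], 1, [0, 2], []),
  ([1], 2, unp 4 9 (nat_lit 0x241550703), unp 4 14 (nat_lit 0x70075063500244)),
  ([0], 5, unp 4 9 (nat_lit 0x227047471), unp 4 14 (nat_lit 0x725755134066)),
  ([3], 5, unp 4 9 (nat_lit 0x312136404), unp 4 13 (nat_lit 0x4066565577217)),
  ([2], 5, unp 4 10 (nat_lit 0x1730375725), unp 4 13 (nat_lit 0x1572446206220)),
  ([4], 4, unp 4 10 (nat_lit 0x1736334422), unp 4 14 (nat_lit 0x20704621713141)),
  ([7], 4, unp 4 8 (nat_lit 0x21141556), unp 4 14 (nat_lit 0x566357064335)),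
  ([6], 2, unp 4 10 (nat_lit 0x71444711), unp 4 14 (nat_lit 0x65524616203300)),
  ([1, 5], 4, unp 4 9 (nat_lit 0x513425051), unp 4 14 (nat_lit 0x52733641224002)),
  ([3, 1], 2, unp 4 9 (nat_lit 0x50066337), unp 4 14 (nat_lit 0x11577241304203)),
  ([3, 6], 5, unp 4 10 (nat_lit 0x1556625663), unp 4 15 (nat_lit 0x604055166417270)),
  ([1, 2, 5], 2, unp 4 10 (nat_lit 0x1334472261), unp 4 14 (nat_lit 0x14141434116521)),
  ([1, 2, 6], 3, unp 4 6 (nat_lit 0x621165), unp 4 14 (nat_lit 0x21362404142255)),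
  ([1, 5, 2], 2, unp 4 9 (nat_lit 0x75642770), unp 4 12 (nat_lit 0x517165043726)),
  ([0, 6, 4], 2, unp 4 9 (nat_lit 0x350431241), unp 4 14 (nat_lit 0x21163363607253)),
  ([3, 3, 1], 3, unp 4 8 (nat_lit 0x62730515), unp 4 13 (nat_lit 0x7750621307372)),
  ([1, 5, 5, 1], 3, unp 4 8 (nat_lit 0x27160724), unp 4 13 (nat_lit 0x1621640347246)),
  ([7, 4, 2, 7], 2, unp 4 10 (nat_lit 0x2077214130), unp 4 15 (nat_lit 0x425112665737350)),
  (unp 4 5 (nat_lit 0x66331), 2, unp 4 9 (nat_lit 0x507213422), unp 4 14 (nat_lit 0x6256306061662))]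
noncomputable def W : List (List ℕ) := [unp 4 14 (nat_lit 0x42031131171757),
  unp 4 13 (nat_lit 0x2757431177222),
  unp 4 15 (nat_lit 0x653061622430420)]
noncomputable def lv : List Lev := [⟨0, [unp 4 14 (nat_lit 0x42031131171757),
  unp 4 13 (nat_lit 0x2757431177222),
  unp 4 15 (nat_lit 0x653061622430420)], 7, 768⟩,
 ⟨36, [unp 4 14 (nat_lit 0x42031131171757),
  unp 4 13 (nat_lit 0x2757431177222)], 4, 20⟩]
theorem c1 : stB oW SH cG2 st = true := by decide +kernel
theorem c2 : dcB oW SH cT CG cG2 en = true := by decide +kernel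
theorem c3 : Nat.beq (J4T1.D.orbIt W 7 (startM J4T1.D en)) (ones J4T1.D.n) = true := by decide +kernel
theorem c4 : lowB J4T2.D 6 lv [] = true := by decide +kernel
theorem c5 : subsetB W (fstL st) = true ∧ H17.allL lv (fun L => subsetB L.W (fstL st)) = true ∧ levProd lv = 15360 := by
  decide +kernel

end Cfsg.Agent.H16.J4C2
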