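import Cfsg.Agent.H16.J4T1
import Cfsg.Agent.H16.J4T2

/-! Double coset checks. -/

set_option autoImplicit false
set_option maxRecDepth 100000
set_option Elab.async false

namespace Cfsg.Agent.H16.J4C3

open H17 J4M J4G

noncomputable def st : List (List ℕ × List ℕ) := [(unp 4 14 (nat_lit 0x53574213574214), unp 4 13 (nat_lit 0x6462637114312)),
  (unp 4 10 (nat_lit 0x3472047202), unp 4 13 (nat_lit 0x7417036472553)),
  (unp 4 15 (nat_lit 0x200413315247030), unp 4 15 (nat_lit 0x752741335746560)),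
  (unp 4 15 (nat_lit 0x217503700360530), unp 4 14 (nat_lit 0x72152737475171)),
  (unp 4 14 (nat_lit 0x74114317425260), unp 4 14 (nat_lit 0x46637564064152)),
  (unp 4 14 (nat_lit 0x21642616115722), unp 4 14 (nat_lit 0x74122531270472)),
  (unp 4 14 (nat_lit 0x74403606074470), unp 4 14 (nat_lit 0x77752536303370)),
  (unp 4 14 (nat_lit 0x34273131661130), unp 4 13 (nat_lit 0x3755337422031)),
  (unp 4 14 (nat_lit 0x44650607161160), unp 4 14 (nat_lit 0x13727712412052))]
noncomputable def en : List Ent := [([], 1, [4, 1], []),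
  ([1], 2, unp 4 9 (nat_lit 0x224404664), unp 4 14 (nat_lit 0x14044157051615)),
  ([0], 4, unp 4 11 (nat_lit 0x25647211311), unp 4 13 (nat_lit 0x5553463124403)),
  ([3], 5, unp 4 8 (nat_lit 0x56164072), unp 4 14 (nat_lit 0x50027517437066)),
  ([2], 5, unp 4 9 (nat_lit 0x37373174), unp 4 14 (nat_lit 0x11126462034174)),
  ([5], 2, unp 4 9 (nat_lit 0x161755607), unp 4 14 (nat_lit 0x75773057214642)),
  ([6], 5, unp 4 10 (nat_lit 0x2703720565), unp 4 13 (nat_lit 0x3465626247735)),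
  ([0, 5], 2, unp 4 8 (nat_lit 0x74664702), unp 4 15 (nat_lit 0x747336000412040)),
  ([2, 7], 3, unp 4 8 (nat_lit 0x17472646), unp 4 15 (nat_lit 0x735166427262030)),
  ([5, 7], 5, unp 4 9 (nat_lit 0x252264061), unp 4 13 (nat_lit 0x5243040461206)),
  ([1, 4, 4], 3, unp 4 7 (nat_lit 0x3743174), unp 4 15 (nat_lit 0x741251305057030)),
  ([5, 5, 0], 6, unp 4 6 (nat_lit 0x63405), unp 4 14 (nat_lit 0x51620611705251)),
  ([5, 5, 3], 3, unp 4 7 (nat_lit 0x556536), unp 4 14 (nat_lit 0x74162663117114)),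
  ([0, 4, 2, 5], 3, unp 4 8 (nat_lit 0x26636317), unp 4 14 (nat_lit 0x74662205270725)),
  ([4, 6, 6, 1], 3, [4, 6, 6, 1], unp 4 15 (nat_lit 0x371565072266031)),
  (unp 4 5 (nat_lit 0x20200), 6, unp 4 5 (nat_lit 0x60724), unp 4 13 (nat_lit 0x5175351530444)),
  (unp 4 5 (nat_lit 0x665), 3, unp 4 7 (nat_lit 0x1513775), unp 4 13 (nat_lit 0x4156066425025))]
noncomputable def W : List (List ℕ) := [unp 4 14 (nat_lit 0x74403606074470),
  unp 4 14 (nat_lit 0x34273131661130),
  unp 4 14 (nat_lit 0x44650607161160)]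
noncomputable def lv : List Lev := [⟨0, [unp 4 15 (nat_lit 0x200413315247030),
  unp 4 15 (nat_lit 0x217503700360530),
  unp 4 14 (nat_lit 0x74114317425260),
  unp 4 14 (nat_lit 0x21642616115722)], 5, 1152⟩,
 ⟨2, [unp 4 15 (nat_lit 0x200413315247030),
  unp 4 15 (nat_lit 0x217503700360530),
  unp 4 14 (nat_lit 0x74114317425260)], 2, 32⟩,
 ⟨6, [unp 4 10 (nat_lit 0x3472047202)], 1, 2⟩,
 ⟨14, [unp 4 14 (nat_lit 0x53574213574214)], 1, 2⟩]
theorem c1 : stB oW SH cG3 st = true := by decide +kernel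
theorem c2 : dcB oW SH cT CG cG3 en = true := by decide +kernel
theorem c3 : Nat.beq (J4T1.D.orbIt W 6 (startM J4T1.D en)) (ones J4T1.D.n) = true := by decide +kernel
theorem c4 : lowB J4T2.D 6 lv [] = true := by decide +kernel
theorem c5 : subsetB W (fstL st) = true ∧ H17.allL lv (fun L => subsetB L.W (fstL st)) = true ∧ levProd lv = 147456 := by
  decide +kernel

end Cfsg.Agent.H16.J4C3
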