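import Cfsg.Agent.H16.J4T1
import Cfsg.Agent.H16.J4T2

/-! Double coset checks. -/

set_option autoImplicit false
set_option maxRecDepth 100000
set_option Elab.async false

namespace Cfsg.Agent.H16.J4C4

open H17 J4M J4G

noncomputable def st : List (List ℕ × List ℕ) := [(unp 4 14 (nat_lit 0x42246251624340), unp 4 14 (nat_lit 0x16377734252751)),
  (unp 4 14 (nat_lit 0x64256155757741), unp 4 14 (nat_lit 0x63725242557441)),
  (unp 4 15 (nat_lit 0x303516020025521), unp 4 12 (nat_lit 0x4250466562)),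
  (unp 4 15 (nat_lit 0x226255526340430), unp 4 13 (nat_lit 0x5257712055511)),
  (unp 4 14 (nat_lit 0x16351440250605), unp 4 13 (nat_lit 0x6215750722156))]
noncomputable def en : List Ent := [([], 2, [1, 2], []),
  ([1], 4, unp 4 11 (nat_lit 0x11164203061), unp 4 13 (nat_lit 0x7404141560342)),
  ([0], 2, unp 4 10 (nat_lit 0x306031741), unp 4 13 (nat_lit 0x4061206417746)),
  ([3], 5, unp 4 9 (nat_lit 0x660506561), unp 4 13 (nat_lit 0x5000351304637)),
  ([5], 5, unp 4 10 (nat_lit 0x3340625511), unp 4 14 (nat_lit 0x14356007417342)),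
  ([4], 4, unp 4 9 (nat_lit 0x161636500), unp 4 13 (nat_lit 0x1372065131741)),
  ([6], 4, unp 4 10 (nat_lit 0x441550722), unp 4 14 (nat_lit 0x55725557347433)),
  ([1, 2], 4, unp 4 10 (nat_lit 0x200611355), unp 4 14 (nat_lit 0x5350344653641)),
  ([3, 4], 5, unp 4 9 (nat_lit 0x737741270), unp 4 14 (nat_lit 0x52156475526340)),
  ([4, 2], 4, unp 4 11 (nat_lit 0x15151175711), unp 4 14 (nat_lit 0x72165343420414)),
  ([7, 2], 2, unp 4 9 (nat_lit 0x625574741), unp 4 14 (nat_lit 0x2431631115773)),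
  ([7, 5], 4, unp 4 10 (nat_lit 0x517314424), unp 4 12 (nat_lit 0x521264415533)),
  ([1, 3, 1], 3, unp 4 8 (nat_lit 0x20352504), unp 4 15 (nat_lit 0x374441246515330))]
noncomputable def W : List (List ℕ) := [unp 4 14 (nat_lit 0x64256155757741),
  unp 4 15 (nat_lit 0x303516020025521),
  unp 4 15 (nat_lit 0x226255526340430),
  unp 4 14 (nat_lit 0x16351440250605)]
noncomputable def lv : List Lev := [⟨0, [unp 4 14 (nat_lit 0x42246251624340),
  unp 4 15 (nat_lit 0x303516020025521)], 10, 759⟩,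
 ⟨2, [unp 4 14 (nat_lit 0x42246251624340),
  unp 4 14 (nat_lit 0x64256155757741)], 2, 8⟩]
theorem c1 : stB oW SH cG4 st = true := by decide +kernel
theorem c2 : dcB oW SH cT CG cG4 en = true := by decide +kernel
theorem c3 : Nat.beq (J4T1.D.orbIt W 4 (startM J4T1.D en)) (ones J4T1.D.n) = true := by decide +kernel
theorem c4 : lowB J4T2.D 6 lv [] = true := by decide +kernel
theorem c5 : subsetB W (fstL st) = true ∧ H17.allL lv (fun L => subsetB L.W (fstL st)) = true ∧ levProd lv = 6072 := by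
  decide +kernel

end Cfsg.Agent.H16.J4C4
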