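import Cfsg.Agent.H16.J4T1
import Cfsg.Agent.H16.J4T2

/-! Double coset checks. -/

set_option autoImplicit false
set_option maxRecDepth 100000
set_option Elab.async false

namespace Cfsg.Agent.H16.J4C5

open H17 J4M J4G

noncomputable def st : List (List ℕ × List ℕ) := [(unp 4 15 (nat_lit 0x406260575562720), unp 4 14 (nat_lit 0x31416474050444)),
  (unp 4 15 (nat_lit 0x151462275365300), unp 4 14 (nat_lit 0x62270714460221)),
  (unp 4 14 (nat_lit 0x34371275646652), unp 4 14 (nat_lit 0x24026435620346)),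
  (unp 4 14 (nat_lit 0x71550427715774), unp 4 14 (nat_lit 0x44053400265751))]
noncomputable def en : List Ent := [([], 3, [3, 6, 0, 3], []),
  ([1], 4, unp 4 9 (nat_lit 0x720772005), unp 4 12 (nat_lit 0x300631357257)),
  ([0], 4, unp 4 9 (nat_lit 0x250653634), unp 4 14 (nat_lit 0x25700214772713)),
  ([3], 5, unp 4 9 (nat_lit 0x224340433), unp 4 14 (nat_lit 0x21430533531653)),
  ([2], 2, unp 4 8 (nat_lit 0x31146361), unp 4 13 (nat_lit 0x1652735253574)),
  ([5], 5, unp 4 8 (nat_lit 0x56074044), unp 4 13 (nat_lit 0x5615604034116)),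
  ([4], 5, unp 4 9 (nat_lit 0x205203704), unp 4 13 (nat_lit 0x2060727537146)),
  ([6], 2, unp 4 9 (nat_lit 0x202111274), unp 4 14 (nat_lit 0x55630361311630)),
  ([1, 4], 4, unp 4 10 (nat_lit 0x1742726565), unp 4 14 (nat_lit 0x66361426205200)),
  ([4, 2], 5, unp 4 10 (nat_lit 0x1421637421), unp 4 13 (nat_lit 0x3071350053740)),
  ([1, 1, 3], 5, unp 4 9 (nat_lit 0x133731556), unp 4 15 (nat_lit 0x114651364211430)),
  ([1, 4, 7], 2, unp 4 10 (nat_lit 0x3351202551), unp 4 14 (nat_lit 0x56117024270662)),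
  ([1, 7, 7], 5, unp 4 8 (nat_lit 0x77040216), unp 4 14 (nat_lit 0x71130755312722)),
  ([5, 7, 4], 2, unp 4 8 (nat_lit 0x22550206), unp 4 14 (nat_lit 0x70561757713703)),
  ([5, 6, 2], 5, unp 4 10 (nat_lit 0x1517206333), unp 4 15 (nat_lit 0x573027534342420)),
  ([7, 0, 6], 3, unp 4 8 (nat_lit 0x33043021), unp 4 14 (nat_lit 0x5143163722665)),
  ([1, 5, 1, 2], 5, unp 4 9 (nat_lit 0x735646355), unp 4 14 (nat_lit 0x50433074650536)),
  ([1, 4, 7, 4], 6, unp 4 5 (nat_lit 0x57061), unp 4 13 (nat_lit 0x4657517065552)),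
  ([0, 5, 3, 5], 3, unp 4 8 (nat_lit 0x70365757), unp 4 13 (nat_lit 0x7740661356224)),
  ([0, 7, 0, 3], 5, unp 4 10 (nat_lit 0x1526650471), unp 4 14 (nat_lit 0x71166473074461)),
  ([3, 5, 7, 4], 5, unp 4 9 (nat_lit 0x216027003), unp 4 13 (nat_lit 0x1144052572772)),
  (unp 4 5 (nat_lit 0x11653), 3, unp 4 8 (nat_lit 0x13663052), unp 4 14 (nat_lit 0x50755566131373)),
  (unp 4 6 (nat_lit 0x60261), 5, unp 4 6 (nat_lit 0x60261), unp 4 14 (nat_lit 0x75777130564174))]
noncomputable def W : List (List ℕ) := [unp 4 15 (nat_lit 0x406260575562720),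
  unp 4 15 (nat_lit 0x151462275365300),
  unp 4 14 (nat_lit 0x34371275646652),
  unp 4 14 (nat_lit 0x71550427715774)]
noncomputable def lv : List Lev := [⟨0, [unp 4 15 (nat_lit 0x406260575562720),
  unp 4 15 (nat_lit 0x151462275365300),
  unp 4 14 (nat_lit 0x34371275646652),
  unp 4 14 (nat_lit 0x71550427715774)], 4, 768⟩,
 ⟨130, [unp 4 15 (nat_lit 0x406260575562720),
  unp 4 15 (nat_lit 0x151462275365300)], 3, 12⟩]
theorem c1 : stB oW SH cG5 st = true := by decide +kernel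
theorem c2 : dcB oW SH cT CG cG5 en = true := by decide +kernel
theorem c3 : Nat.beq (J4T1.D.orbIt W 5 (startM J4T1.D en)) (ones J4T1.D.n) = true := by decide +kernel
theorem c4 : lowB J4T2.D 6 lv [] = true := by decide +kernel
theorem c5 : subsetB W (fstL st) = true ∧ H17.allL lv (fun L => subsetB L.W (fstL st)) = true ∧ levProd lv = 9216 := by
  decide +kernel

end Cfsg.Agent.H16.J4C5
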