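import Cfsg.Agent.H16.J4T1
import Cfsg.Agent.H16.J4T2

/-! Double coset checks. -/

set_option autoImplicit false
set_option maxRecDepth 100000
set_option Elab.async false

namespace Cfsg.Agent.H16.J4C6

open H17 J4M J4G

noncomputable def st : List (List ℕ × List ℕ) := [(unp 4 10 (nat_lit 0x4444666664), unp 4 15 (nat_lit 0x643174650753571)),
  (unp 4 14 (nat_lit 0x46611226611225), unp 4 14 (nat_lit 0x36115746164641)),
  (unp 4 14 (nat_lit 0x74161473070511), unp 4 14 (nat_lit 0x2741702215000)),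
  (unp 4 14 (nat_lit 0x73465136513526), unp 4 15 (nat_lit 0x772571526353020)),
  (unp 4 14 (nat_lit 0x7122061640407), unp 4 13 (nat_lit 0x6662643633522)),
  (unp 4 14 (nat_lit 0x57111241521344), unp 4 14 (nat_lit 0x35616217516620)),
  (unp 4 14 (nat_lit 0x12255271113775), unp 4 13 (nat_lit 0x5121216134172)),
  (unp 4 15 (nat_lit 0x143115520655640), unp 4 14 (nat_lit 0x77415225624052)),
  (unp 4 13 (nat_lit 0x2604744364444), unp 4 12 (nat_lit 0x524337425512))]
noncomputable def en : List Ent := [([], 1, [2, 0, 7, 1], []),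
  ([1], 5, unp 4 9 (nat_lit 0x200217216), unp 4 14 (nat_lit 0x70516312207373)),
  ([3], 6, unp 4 6 (nat_lit 0x150600), unp 4 13 (nat_lit 0x726257216026)),
  ([3, 4], 3, unp 4 8 (nat_lit 0x3737517), unp 4 13 (nat_lit 0x634633635651)),
  ([2, 2], 3, unp 4 7 (nat_lit 0x3116631), unp 4 13 (nat_lit 0x2427521137311)),
  ([4, 6, 4], 6, [4, 6, 4], unp 4 14 (nat_lit 0x37421357421352))]
noncomputable def W : List (List ℕ) := [unp 4 14 (nat_lit 0x12255271113775),
  unp 4 15 (nat_lit 0x143115520655640),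
  unp 4 13 (nat_lit 0x2604744364444)]
noncomputable def lv : List Lev := [⟨0, [unp 4 14 (nat_lit 0x57111241521344),
  unp 4 14 (nat_lit 0x12255271113775),
  unp 4 15 (nat_lit 0x143115520655640)], 6, 768⟩,
 ⟨2, [unp 4 14 (nat_lit 0x7122061640407),
  unp 4 14 (nat_lit 0x12255271113775)], 9, 180⟩,
 ⟨30, [unp 4 14 (nat_lit 0x7122061640407),
  unp 4 14 (nat_lit 0x57111241521344)], 2, 8⟩,
 ⟨6, [unp 4 14 (nat_lit 0x73465136513526)], 1, 2⟩,
 ⟨14, [unp 4 14 (nat_lit 0x74161473070511)], 1, 2⟩,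
 ⟨42, [unp 4 14 (nat_lit 0x46611226611225)], 1, 2⟩,
 ⟨462, [unp 4 10 (nat_lit 0x4444666664)], 1, 2⟩]
theorem c1 : stB oW SH cG6 st = true := by decide +kernel
theorem c2 : dcB oW SH cT CG cG6 en = true := by decide +kernel
theorem c3 : Nat.beq (J4T1.D.orbIt W 7 (startM J4T1.D en)) (ones J4T1.D.n) = true := by decide +kernel
theorem c4 : lowB J4T2.D 6 lv [] = true := by decide +kernel
theorem c5 : subsetB W (fstL st) = true ∧ H17.allL lv (fun L => subsetB L.W (fstL st)) = true ∧ levProd lv = 17694720 := by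
  decide +kernel

end Cfsg.Agent.H16.J4C6
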