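import Cfsg.Agent.H16.J4F0

/-! Consequences of the relators of the two-generator presentation of `M₂₄`. -/

namespace Cfsg.Agent.H16.J4F

open Cfsg.Agent.H17

set_option maxRecDepth 100000
set_option Elab.async false

theorem der1 : chkDer 1 u1 d1 K1 = true := by decide +kernel
theorem der5 : chkDer 1 u5 d5 K5 = true := by decide +kernel
theorem der9 : chkDer 1 u9 d9 K9 = true := by decide +kernel
theorem der13 : chkDer 1 u13 d13 K13 = true := by decide +kernel
theorem der17 : chkDer 1 u17 d17 K17 = true := by decide +kernel
theorem der21 : chkDer 1 u21 d21 K21 = true := by decide +kernel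

end Cfsg.Agent.H16.J4F
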