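import Cfsg.Agent.H16.J4F0

/-! Consequences of the relators of the two-generator presentation of `M₂₄`. -/

namespace Cfsg.Agent.H16.J4F

open Cfsg.Agent.H17

set_option maxRecDepth 100000
set_option Elab.async false

theorem der2 : chkDer 1 u2 d2 K2 = true := by decide +kernel
theorem der6 : chkDer 1 u6 d6 K6 = true := by decide +kernel
theorem der10 : chkDer 1 u10 d10 K10 = true := by decide +kernel
theorem der14 : chkDer 1 u14 d14 K14 = true := by decide +kernel
theorem der18 : chkDer 1 u18 d18 K18 = true := by decide +kernel
theorem der22 : chkDer 1 u22 d22 K22 = true := by decide +kernel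

end Cfsg.Agent.H16.J4F
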