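import Cfsg.Agent.H16.J4F0

/-! Consequences of the relators of the two-generator presentation of `M₂₄`. -/

namespace Cfsg.Agent.H16.J4F

open Cfsg.Agent.H17

set_option maxRecDepth 100000
set_option Elab.async false

theorem der3 : chkDer 1 u3 d3 K3 = true := by decide +kernel
theorem der7 : chkDer 1 u7 d7 K7 = true := by decide +kernel
theorem der11 : chkDer 1 u11 d11 K11 = true := by decide +kernel
theorem der15 : chkDer 1 u15 d15 K15 = true := by decide +kernel
theorem der19 : chkDer 1 u19 d19 K19 = true := by decide +kernel

end Cfsg.Agent.H16.J4F
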