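import Cfsg.Agent.H16.J4F1a
import Cfsg.Agent.H16.J4F1b
import Cfsg.Agent.H16.J4F1c
import Cfsg.Agent.H16.J4F1d

/-! Consequences of the relators of the two-generator presentation of `M₂₄`. -/

namespace Cfsg.Agent.H16.J4F

open Cfsg.Agent.H17

set_option maxRecDepth 100000
set_option Elab.async false

theorem sK0 : Sat g K0 := pres.sat
theorem s0 : Sat g u0 := chkDer_sound pres.inv sK0 der0
theorem sK1 : Sat g K1 := sat_revL s0 sK0
theorem s1 : Sat g u1 := chkDer_sound pres.inv sK1 der1
theorem sK2 : Sat g K2 := sat_revL s1 sK1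
theorem s2 : Sat g u2 := chkDer_sound pres.inv sK2 der2
theorem sK3 : Sat g K3 := sat_revL s2 sK2
theorem s3 : Sat g u3 := chkDer_sound pres.inv sK3 der3
theorem sK4 : Sat g K4 := sat_revL s3 sK3
theorem s4 : Sat g u4 := chkDer_sound pres.inv sK4 der4
theorem sK5 : Sat g K5 := sat_revL s4 sK4
theorem s5 : Sat g u5 := chkDer_sound pres.inv sK5 der5
theorem sK6 : Sat g K6 := sat_revL s5 sK5
theorem s6 : Sat g u6 := chkDer_sound pres.inv sK6 der6
theorem sK7 : Sat g K7 := sat_revL s6 sK6
theorem s7 : Sat g u7 := chkDer_sound pres.inv sK7 der7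
theorem sK8 : Sat g K8 := sat_revL s7 sK7
theorem s8 : Sat g u8 := chkDer_sound pres.inv sK8 der8
theorem sK9 : Sat g K9 := sat_revL s8 sK8
theorem s9 : Sat g u9 := chkDer_sound pres.inv sK9 der9
theorem sK10 : Sat g K10 := sat_revL s9 sK9
theorem s10 : Sat g u10 := chkDer_sound pres.inv sK10 der10
theorem sK11 : Sat g K11 := sat_revL s10 sK10
theorem s11 : Sat g u11 := chkDer_sound pres.inv sK11 der11
theorem sK12 : Sat g K12 := sat_revL s11 sK11
theorem s12 : Sat g u12 := chkDer_sound pres.inv sK12 der12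
theorem sK13 : Sat g K13 := sat_revL s12 sK12
theorem s13 : Sat g u13 := chkDer_sound pres.inv sK13 der13
theorem sK14 : Sat g K14 := sat_revL s13 sK13
theorem s14 : Sat g u14 := chkDer_sound pres.inv sK14 der14
theorem sK15 : Sat g K15 := sat_revL s14 sK14
theorem s15 : Sat g u15 := chkDer_sound pres.inv sK15 der15
theorem sK16 : Sat g K16 := sat_revL s15 sK15
theorem s16 : Sat g u16 := chkDer_sound pres.inv sK16 der16
theorem sK17 : Sat g K17 := sat_revL s16 sK16
theorem s17 : Sat g u17 := chkDer_sound pres.inv sK17 der17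
theorem sK18 : Sat g K18 := sat_revL s17 sK17
theorem s18 : Sat g u18 := chkDer_sound pres.inv sK18 der18
theorem sK19 : Sat g K19 := sat_revL s18 sK18
theorem s19 : Sat g u19 := chkDer_sound pres.inv sK19 der19
theorem sK20 : Sat g K20 := sat_revL s19 sK19
theorem s20 : Sat g u20 := chkDer_sound pres.inv sK20 der20
theorem sK21 : Sat g K21 := sat_revL s20 sK20
theorem s21 : Sat g u21 := chkDer_sound pres.inv sK21 der21
theorem sK22 : Sat g K22 := sat_revL s21 sK21
theorem s22 : Sat g u22 := chkDer_sound pres.inv sK22 der22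
theorem satF : Sat g fin := (sat_appL (sat_appL s22).2).1
theorem satR : Sat g RT := (sat_appL (sat_appL s22).2).2

end Cfsg.Agent.H16.J4F
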