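import Cfsg.Agent.H16.J4F0

/-! Consequences of the relators of the two-generator presentation of `M₂₄`. -/

namespace Cfsg.Agent.H16.J4F

open Cfsg.Agent.H17

set_option maxRecDepth 100000
set_option Elab.async false

theorem der0 : chkDer 1 u0 d0 K0 = true := by decide +kernel
theorem der4 : chkDer 1 u4 d4 K4 = true := by decide +kernel
theorem der8 : chkDer 1 u8 d8 K8 = true := by decide +kernel
theorem der12 : chkDer 1 u12 d12 K12 = true := by decide +kernel
theorem der16 : chkDer 1 u16 d16 K16 = true := by decide +kernel
theorem der20 : chkDer 1 u20 d20 K20 = true := by decide +kernel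

end Cfsg.Agent.H16.J4F
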