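import Cfsg.Agent.H16.J4F1
import Cfsg.Agent.H16.J4F2
import Cfsg.Agent.S2038
import Mathlib.GroupTheory.Schreier

/-! The two-generator presentation of `M₂₄`. -/

set_option autoImplicit false
set_option maxRecDepth 100000

namespace Cfsg.Agent.H16

open Cfsg MulAction
open scoped Pointwise commutatorElement

theorem finite_of_central {F M : Type*} [Group F] [Group M] [Finite M] (φ : F →* M) (hs : Function.Surjective φ)
    (hz : φ.ker ≤ Subgroup.center F) (hp : commutator F = ⊤) : Finite F := by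
  choose s hs using hs
  have key : ∀ a : F, ∃ z ∈ Subgroup.center F, a = s (φ a) * z := fun a =>
    ⟨(s (φ a))⁻¹ * a, hz (by rw [MonoidHom.mem_ker, map_mul, map_inv, hs, inv_mul_cancel]), by group⟩
  have : Finite (commutatorSet F) := by
    refine Finite.of_surjective (fun p : M × M => (⟨⁅s p.1, s p.2⁆, _, _, rfl⟩ : commutatorSet F)) ?_
    rintro ⟨_, a, b, rfl⟩
    refine ⟨(φ a, φ b), Subtype.ext ?_⟩
    obtain ⟨z, hz1, e1⟩ := key a
    obtain ⟨w, hw1, e2⟩ := key b
    change ⁅s (φ a), s (φ b)⁆ = ⁅a, b⁆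
    generalize s (φ a) = u at e1
    generalize s (φ b) = v at e2
    subst e1 e2
    have c1 := Subgroup.mem_center_iff.mp hz1
    have c2 := Subgroup.mem_center_iff.mp hw1
    simp only [commutatorElement_def, mul_inv_rev]
    calc u * v * u⁻¹ * v⁻¹ = u * (v * (w * (u⁻¹ * w⁻¹)) * v⁻¹) := by rw [← mul_assoc w, ← c2 u⁻¹]; group
      _ = u * (z * (v * w) * z⁻¹ * (u⁻¹ * (w⁻¹ * v⁻¹))) := by rw [← c1 (v * w)]; group
      _ = _ := by group
  have h : Finite (commutator F) := inferInstance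
  rw [hp] at h
  exact Finite.of_equiv _ Subgroup.topEquiv.toEquiv

unseal evalW nth pid pmul force in
theorem rep_evalW {G Ω : Type*} [Group G] [MulAction G Ω] {pt : ℕ → Ω} {n w : ℕ} (hw : n ≤ 2 ^ w) {S : List ℕ}
    {h : ℕ → G} (hh : ∀ x, Rep pt n (h x) (get w (nth (pid w n) S x))) :
    ∀ u : List ℕ, Rep pt n (H17.ev h u) (get w (evalW w n S u))
  | [] => Rep.pid hw
  | [i] => by rw [H17.ev_cons, H17.ev_nil, mul_one]; exact hh i
  | i :: j :: l => by
    rw [H17.ev_cons]
    change Rep pt n _ (get w (force (evalW w n S (j :: l)) fun x => pmul w n (nth (pid w n) S i) x))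
    rw [force_eq]
    exact (hh i).pmul hw (rep_evalW hw hh (j :: l))

unseal evalW in
theorem evalW_sgl (w n : ℕ) (S : List ℕ) (i : ℕ) : evalW w n S [i] = nth (pid w n) S i := rfl
unseal nth in
theorem nth3 (d a b c y : ℕ) : nth d [a, b, c] (y + 3) = d := rfl

namespace J4F

open H17 J4T

theorem inv0 : inv 1 0 = 0 := by decide
theorem inv1 : inv 1 1 = 2 := by decide
theorem inv2 : inv 1 2 = 1 := by decide

/-- letters from an involution and an element -/
def lt2 {G : Type*} [Group G] (a b : G) (x : ℕ) : G := if x = 0 then a else if x = 1 then b else if x = 2 then b⁻¹ else 1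

theorem lt2_triv {G : Type*} [Group G] (a b : G) (x : ℕ) (hx : 3 ≤ x) : lt2 a b x = 1 := by
  rw [lt2, if_neg (by omega), if_neg (by omega), if_neg (by omega)]

theorem lt2_inv {G : Type*} [Group G] {a : G} (b : G) (h : a⁻¹ = a) : Inv 1 (lt2 a b) := fun x => by
  by_cases hx : x < 3
  · interval_cases x
    · rw [inv0]; exact h.symm
    · rw [inv1]; rfl
    · rw [inv2]; exact (inv_inv b).symm
  · rw [lt2_triv _ _ x (by omega), lt2_triv _ _ (inv 1 x) (inv_ge (k := 1) (nc := 3) rfl (by omega) (by omega)), inv_one]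

theorem exists_phi : ∃ φ : F →* M24, ∀ u, H16.Rep gpt 24 (φ (ev g u)) (get 5 (evalW 5 24 pp u)) := by
  obtain ⟨a, ha⟩ := exists_of_isM24 isM.1
  obtain ⟨b, hb⟩ := exists_of_isM24 isM.2.1
  have hr : ∀ x, H16.Rep gpt 24 (lt2 a b x) (get 5 (H16.nth (pid 5 24) pp x)) := fun x => by
    by_cases hx : x < 3
    · interval_cases x
      exacts [ha, hb, hb.pinv isM.2.2.2]
    · rw [lt2_triv _ _ _ (by omega)]
      obtain ⟨y, rfl⟩ : ∃ y, x = y + 3 := ⟨x - 3, by omega⟩
      rw [pp, nth3]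
      exact H16.Rep.pid (by norm_num)
  have he := rep_evalW (by norm_num) hr
  obtain ⟨φ, hφ⟩ := pres.lift M24 (lt2 a b) (lt2_inv b ((ha.pinv isM.2.2.1).M24_eq ha)) (lt2_triv a b) fun u hu =>
    (he u).M24_eq ((H16.Rep.pid (w := 5) (by norm_num)).congr (eqP_iff.mp (allL_true satP u hu)))
  exact ⟨φ, fun u => by rw [map_ev' φ hφ]; exact he u⟩

noncomputable def φ : F →* M24 := exists_phi.choose
theorem rep_φ (u : List ℕ) : H16.Rep gpt 24 (φ (ev g u)) (get 5 (evalW 5 24 pp u)) := exists_phi.choose_spec u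

theorem rep_let (x : ℕ) : H16.Rep gpt 24 (φ (g x)) (get 5 (pc x)) := by
  have := rep_φ [x]
  rwa [ev_cons, ev_nil, mul_one, evalW_sgl] at this

theorem φ_surj : Function.Surjective φ := by
  have : Finite M24 := Nat.finite_of_card_ne_zero (by
    rw [← Subgroup.card_top, card_top_M24]; norm_num)
  have h1 := (Nat.le_of_ble_eq_true lb).trans (lbChain_le gpt_inj _ (by decide) φ.range
    (InK.slp (by norm_num) _ (S := [pc 0, pc 1]) fun p hp => by
      simp only [List.mem_cons, List.not_mem_nil, or_false] at hp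
      rcases hp with rfl | rfl
      exacts [⟨_, ⟨_, rfl⟩, rep_let 0⟩, ⟨_, ⟨_, rfl⟩, rep_let 1⟩]))
  rw [← MonoidHom.range_eq_top]
  exact Subgroup.eq_of_le_of_card_ge le_top (card_top_M24.le.trans h1)

theorem smul_oc : ∀ (u : List ℕ) {i : ℕ}, i < 759 →
    φ (ev g u) • toSet (get 24 oc i) = toSet (get 24 oc (ev D.ρ u i))
  | [], _, _ => by simp
  | x :: u, i, hi => by
    have h1 : ev D.ρ u i < 759 := good.ev_lt' u hi
    rw [ev_cons, ev_cons, map_mul, mul_smul, smul_oc u hi, Equiv.Perm.mul_apply]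
    by_cases hx : x < 3
    · rw [(rep_let x).smul_toSet, ← TD.app_eq good,
        Nat.eq_of_beq_eq_true (allB_spec (allB_spec lab x hx) _ h1)]
    · rw [pres.triv x (by omega), good.triv x (show 3 ≤ x by omega), map_one, one_smul]; rfl

noncomputable def aa (i : ℕ) : F := ev g (H17.nth [] A i)

theorem cj_aa {k i : ℕ} (hk : k < 2) (hi : i < 15) : H16.nth 0 (H17.nth [] per k) i < 15 ∧
    ev g (H17.nth [] W k) * aa i * (ev g (H17.nth [] W k))⁻¹ = aa (H16.nth 0 (H17.nth [] per k) i) := by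
  have := andB_iff.mp (allB_spec (allB_spec cj k hk) i hi)
  refine ⟨Nat.blt_eq.mp this.1, ?_⟩
  have h := satF _ (memW_sound this.2)
  simp only [cjw, app_eq, ev_append, ev_mulInvL pres.inv, ev_nil, mul_one] at h
  rw [← mul_inv_eq_one, ← h, aa, aa]; group

theorem mem_norm {n : F} (hn : n ∈ φ.ker) : n ∈ Subgroup.normalizer {a | ∃ i < 15, aa i = a} := by
  obtain ⟨u, rfl⟩ := pres.surj n
  have h0 := smul_oc u (show 0 < 759 by norm_num)
  rw [MonoidHom.mem_ker.mp hn, one_smul] at h0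
  have h1 := impB_iff.mp (allB_spec lab0 _ (good.ev_lt' u (show 0 < 759 by norm_num)))
    (Nat.beq_eq ▸ (toSet_inj (get_lt _ _ _) (get_lt _ _ _) h0).symm)
  have hK : Sat g K := chkDer_sound pres.inv (Sat.append (Sat.cons (pres.sat _ List.mem_cons_self) (Sat.nil g)) satR) der
  refine tc_stab (C := C) (rss := rss) good pres.inv pres.triv hK satK (fun w hw => ?_) tree J4T.allB u
    (Nat.eq_of_beq_eq_true h1)
  obtain ⟨k, hk, rfl⟩ : ∃ k < 2, H17.nth [] W k = w := by
    have hw' : w ∈ [H17.nth [] W 0, H17.nth [] W 1] := hw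
    simp only [List.mem_cons, List.not_mem_nil, or_false] at hw'
    rcases hw' with rfl | rfl
    exacts [⟨0, by norm_num, rfl⟩, ⟨1, by norm_num, rfl⟩]
  refine Subgroup.mem_set_normalizer_iff.mpr fun a => ⟨?_, ?_⟩
  · rintro ⟨i, hi, rfl⟩
    exact ⟨_, (cj_aa hk hi).1, (cj_aa hk hi).2.symm⟩
  · rintro ⟨j, hj, e⟩
    obtain ⟨i, hi, e'⟩ := anyB_iff.mp (allB_spec (allB_spec sj k hk) j hj)
    refine ⟨i, hi, ?_⟩
    have := (cj_aa hk hi).2
    rw [Nat.eq_of_beq_eq_true e', e] at this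
    exact mul_left_cancel (mul_right_cancel this)

theorem comm_aa {n : F} (hn : n ∈ φ.ker) {i : ℕ} (hi : i < 15) : n * aa i * n⁻¹ = aa i := by
  obtain ⟨j, hj, e⟩ := (Subgroup.mem_set_normalizer_iff.mp (mem_norm hn) (aa i)).mp ⟨i, hi, rfl⟩
  have h1 : φ (aa j) = φ (aa i) := by rw [e, map_mul, map_mul, map_inv, MonoidHom.mem_ker.mp hn]; group
  have h2 := allB_spec dist i hi
  rw [H16.force_eq] at h2
  have h3 := impB_iff.mp (allB_spec h2 j hj) (eqP_iff.mpr ((rep_φ _).unique gpt_inj (h1 ▸ rep_φ _)))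
  rw [← e, Nat.eq_of_beq_eq_true h3]

theorem rel_x : g 0 ^ 2 = 1 := by rw [sq]; exact mul_eq_one_iff_eq_inv.mpr (pres.inv 0)
theorem rel_y : g 1 ^ 3 = 1 := by
  have := pres.sat [1, 1, 1] List.mem_cons_self
  simp only [ev_cons, ev_nil, mul_one] at this
  rw [← this, pow_succ, sq, mul_assoc]
theorem rel_xy : (g 0 * g 1) ^ 23 = 1 := by
  have := pres.sat (powW 23 [0, 1]) (memW_sound (by decide +kernel))
  rwa [ev_powW, ev_cons, ev_cons, ev_nil, mul_one] at this

theorem eq_top_of {N : Subgroup F} (h0 : g 0 ∈ N) (h1 : g 1 ∈ N) : N = ⊤ := by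
  refine eq_top_iff.mpr fun a _ => ?_
  obtain ⟨u, rfl⟩ := pres.surj a
  refine ev_mem fun x _ => ?_
  by_cases hx : x < 3
  · interval_cases x
    exacts [h0, h1, inv1 ▸ pres.inv 1 ▸ N.inv_mem h1]
  · rw [pres.triv x (by omega)]; exact N.one_mem

theorem normal_top {N : Subgroup F} [N.Normal] (h0 : g 0 ∈ N) : N = ⊤ := by
  refine eq_top_of h0 ?_
  have e0 : (QuotientGroup.mk' N) (g 0) = 1 := (QuotientGroup.eq_one_iff _).mpr h0
  have e1 := congrArg (QuotientGroup.mk' N) rel_y
  have e2 := congrArg (QuotientGroup.mk' N) rel_xy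
  rw [map_pow, map_one] at e1 e2
  rw [map_mul, e0, one_mul] at e2
  refine (QuotientGroup.eq_one_iff _).mp (show QuotientGroup.mk' N (g 1) = 1 from ?_)
  have : QuotientGroup.mk' N (g 1) ^ 24 = 1 := by rw [show 24 = 3 * 8 from rfl, pow_mul, e1, one_pow]
  rwa [pow_succ, e2, one_mul] at this

theorem ker_le : φ.ker ≤ Subgroup.center F := by
  have hc : ∀ {i : ℕ}, i < 15 → aa i ∈ Subgroup.centralizer (φ.ker : Set F) := fun hi n hn =>
    mul_inv_eq_iff_eq_mul.mp (comm_aa hn hi)
  have hN : (Subgroup.centralizer (φ.ker : Set F)).Normal := inferInstance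
  have h := satF _ (memW_sound xw)
  simp only [app_eq, ev_cons, ev_append, ev_mulInvL pres.inv, ev_nil, mul_one] at h
  have h0 : g 0 ∈ Subgroup.centralizer (φ.ker : Set F) := by
    have := Subgroup.inv_mem _ (Subgroup.mul_mem _ (hN.conj_mem _ (hc (i := 12) (by norm_num)) (ev g wc))
      (hN.conj_mem _ (hc (i := 14) (by norm_num)) (ev g wd)))
    rwa [← eq_inv_of_mul_eq_one_left (a := g 0) (by rw [← h, aa, aa]; group)] at this
  intro n hn
  exact Subgroup.mem_center_iff.mpr fun a => (((normal_top h0).ge (Subgroup.mem_top a)) n hn).symm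

theorem perfect : commutator F = ⊤ := by
  refine normal_top ?_
  rw [← Abelianization.ker_of, MonoidHom.mem_ker]
  have e0 := congrArg Abelianization.of rel_x
  have e1 := congrArg Abelianization.of rel_y
  have e2 := congrArg Abelianization.of rel_xy
  rw [map_pow, map_one] at e0 e1 e2
  rw [map_mul] at e2
  generalize Abelianization.of (g 0) = X at e0 e2 ⊢
  generalize Abelianization.of (g 1) = Y at e1 e2
  have h1 : (X * Y) ^ 24 = 1 := by
    rw [mul_pow, show 24 = 2 * 12 from rfl, pow_mul, e0, show 2 * 12 = 3 * 8 from rfl, pow_mul, e1]; simp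
  rw [pow_succ, e2, one_mul] at h1
  have h2 : X ^ 3 = 1 := by
    have := mul_pow X Y 3
    rwa [h1, e1, one_pow, mul_one, eq_comm] at this
  rwa [pow_succ, e0, one_mul] at h2

theorem φ_inj : Function.Injective φ := by
  have : Finite M24 := Nat.finite_of_card_ne_zero (by
    rw [← Subgroup.card_top, card_top_M24]; norm_num)
  have := finite_of_central φ φ_surj ker_le perfect
  obtain ⟨π, hπ⟩ := S2038.result.2 F φ ⟨φ_surj, ker_le, perfect ▸ le_top⟩
  rw [injective_iff_map_eq_one]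
  intro a ha
  obtain ⟨z, hz⟩ := hπ ⟨a, ha⟩
  rw [Subsingleton.elim z 1, map_one] at hz
  exact (congrArg Subtype.val hz).symm

/-- the presented group is `M₂₄` -/
noncomputable def iso : F ≃* M24 := MulEquiv.ofBijective φ ⟨φ_inj, φ_surj⟩

theorem simpleF : IsSimpleGroup F := by
  have := simple_M24
  exact iso.isSimpleGroup

theorem cardF : Nat.card F = 244823040 := by
  rw [Nat.card_congr iso.toEquiv, ← Subgroup.card_top, card_top_M24]

end J4F

end Cfsg.Agent.H16
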