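import Cfsg.Agent.H16.J4T1
import Cfsg.Agent.H16.J4T2

/-! The matrix group generated by `X, Y, T` and its subgroup `2^11 : M₂₄`. -/

set_option autoImplicit false
set_option maxRecDepth 100000

namespace Cfsg.Agent.H16.J4G

open H17 J4M MulAction Mdl

def G0 : Subgroup G112 := Subgroup.closure {X, T, Y}
def Γ : Type := ↥G0
noncomputable instance : Group Γ := inferInstanceAs (Group G0)
noncomputable instance : MulAction Γ V112 := inferInstanceAs (MulAction G0 V112)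
noncomputable def ι : Γ →* G112 := G0.subtype
noncomputable def MG : Mdl oW Γ V112 := MW.sub G0
noncomputable def x : Γ := ⟨X, Subgroup.subset_closure (by simp)⟩
noncomputable def t : Γ := ⟨T, Subgroup.subset_closure (by simp)⟩
noncomputable def y : Γ := ⟨Y, Subgroup.subset_closure (by simp)⟩
theorem rx : MG.R cX x := rX
theorem rt : MG.R cT t := rT
theorem ry : MG.R cY y := rY
theorem ryi : MG.R cYi y⁻¹ := rYi
theorem x_inv : x⁻¹ = x := Subtype.ext X_inv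
theorem t_inv : t⁻¹ = t := Subtype.ext T_inv

theorem R_inv {a b : ℕ} {g : Γ} (h : MG.R a g) (e : wInvB a b = true) : MG.R b g⁻¹ := by
  obtain ⟨k, h1, h2⟩ := exists_MW e
  rwa [MW.R_fun h1 h] at h2

theorem MG_ne {a v : ℕ} {g : Γ} (h : MG.R a g) (hv : v < 2 ^ 112) (e : notB (Nat.beq (oW.ap a v) v) = true) :
    g ≠ 1 := fun e1 => by
  have p : MG.P v (wv v) := MW_P.mpr ⟨hv, rfl⟩
  have := MG.P_ap h p
  rw [e1, one_smul] at this
  exact notB_iff.mp e (by rw [MG.P_inj this p, Nat.beq_refl])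

theorem MG_smul {a v : ℕ} {g : Γ} (h : MG.R a g) (hv : v < 2 ^ 112) :
    oW.ap a v < 2 ^ 112 ∧ g • wv v = wv (oW.ap a v) :=
  let p := MW_P.mp (MG.P_ap h (MW_P.mpr ⟨hv, rfl⟩ : MG.P v (wv v))); ⟨p.1, p.2.symm⟩

noncomputable def h4 : ℕ → Γ := H17.nth 1 [x, t, y, y⁻¹]
theorem r4 : ∀ i, MG.R (H16.nth oW.one S4 i) (h4 i) := R_nth (.cons rx (.cons rt (.cons ry (.cons ryi .nil))))
theorem h4_val (i : ℕ) : ι (h4 i) = h i := by
  by_cases hi : i < 4
  · interval_cases i <;> rfl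
  · rw [h_triv i (by omega), show h4 i = 1 from nth_of_ge _ (show 4 ≤ i by omega), map_one]
theorem inv4 : Inv 2 h4 := fun i => Subtype.ext (by
  have := h_inv i
  rwa [← h4_val, ← h4_val] at this)
theorem surj4 (a : Γ) : ∃ u, ev h4 u = a := by
  obtain ⟨u, hu⟩ := exists_word_of_mem_closure h_inv (S := {X, T, Y}) (fun s hs => by
    rcases hs with rfl | rfl | rfl
    exacts [⟨[0], mul_one _⟩, ⟨[1], mul_one _⟩, ⟨[2], mul_one _⟩]) a.2
  exact ⟨u, Subtype.ext ((map_ev' ι h4_val u).trans hu)⟩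

theorem h4_cases {P : Γ → Prop} (h1 : P 1) (hx : P x) (ht : P t) (hy : P y) (hi : P y⁻¹) (i : ℕ) : P (h4 i) :=
  nth_prop h1 (fun a ha => by
    simp only [List.mem_cons, List.not_mem_nil, or_false] at ha
    rcases ha with rfl | rfl | rfl | rfl
    exacts [hx, ht, hy, hi]) i

/-! ### the subgroup `N` -/

noncomputable def h3 : ℕ → Γ := J4F.lt2 x y
theorem h3_eq (i : ℕ) : h3 i = H17.nth 1 [x, y, y⁻¹] i := by
  by_cases hi : i < 3
  · interval_cases i <;> rfl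
  · rw [h3, J4F.lt2_triv _ _ _ (by omega), nth_of_ge _ (show 3 ≤ i by omega)]
theorem r3 (i : ℕ) : MG.R (H16.nth oW.one S3 i) (h3 i) :=
  h3_eq i ▸ R_nth (.cons rx (.cons ry (.cons ryi .nil))) i
theorem exists_θ : ∃ θ : J4F.F →* Γ, ∀ i, θ (J4F.g i) = h3 i :=
  J4F.pres.lift Γ h3 (J4F.lt2_inv y x_inv) (J4F.lt2_triv x y) fun u hu =>
    MG.isOne_spec (R_ev r3 u) (allL_true baseB u hu)
noncomputable def θ : J4F.F →* Γ := exists_θ.choose
theorem θ_let (i : ℕ) : θ (J4F.g i) = h3 i := exists_θ.choose_spec i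
theorem θ_ev (u : List ℕ) : θ (ev J4F.g u) = ev h3 u := map_ev' θ θ_let u
theorem finF : Finite J4F.F := Nat.finite_of_card_ne_zero (by rw [J4F.cardF]; norm_num)
theorem cardN : CardLe θ.range 244823040 := by
  have := finF
  exact ⟨Finite.of_surjective _ θ.rangeRestrict_surjective,
    J4F.cardF ▸ Nat.card_le_card_of_surjective _ θ.rangeRestrict_surjective⟩

/-! ### the subgroup `E` -/

noncomputable def e0 : Γ := ev h4 we
noncomputable def hE : ℕ → Γ := H17.sub EW (H17.nth 1 [x, y, y⁻¹, e0])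
theorem rE : ∀ i, MG.R (H16.nth oW.one CE i) (hE i) :=
  R_sub (S := S5) (R_nth (.cons rx (.cons ry (.cons ryi (.cons (R_beq (R_ev r4 we) e0B) .nil))))) rfl rfl eB
theorem hE_triv (i : ℕ) (hi : 11 ≤ i) : hE i = 1 := sub_triv _ hi
attribute [irreducible] hE
noncomputable def lE : List Γ := (List.range 11).map hE
theorem mem_lE {a : Γ} : a ∈ lE ↔ ∃ i < 11, hE i = a := by simp [lE]
noncomputable def E : Subgroup Γ := Subgroup.closure {a | a ∈ lE}
theorem hE_mem (i : ℕ) : hE i ∈ E := by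
  by_cases hi : i < 11
  · exact Subgroup.subset_closure (mem_lE.mpr ⟨i, hi, rfl⟩)
  · rw [hE_triv i (by omega)]; exact E.one_mem
theorem lE_comm : ∀ a ∈ lE, ∀ b ∈ lE, a * b = b * a := fun a ha b hb => by
  obtain ⟨i, hi, rfl⟩ := mem_lE.mp ha
  obtain ⟨j, hj, rfl⟩ := mem_lE.mp hb
  have key : ∀ j < 11, ∀ i < j, hE i * hE j = hE j * hE i := fun j hj i hi => by
    have h1 := allB_spec (allB_spec commB j hj) i hi
    exact mul_inv_eq_iff_eq_mul.mp (cjM_spec (rE i) (rE j) (rE j) h1)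
  rcases lt_trichotomy i j with h | rfl | h
  exacts [key j hj i h, rfl, (key i hi j h).symm]
theorem cardE : CardLe E 2048 := by
  have := elab_le lE lE_comm fun a ha => by
    obtain ⟨i, hi, rfl⟩ := mem_lE.mp ha
    exact isOne_spec (MG.R_mul (rE i) (rE i)) (allB_spec sqB i hi)
  rwa [lE, List.length_map, List.length_range] at this
theorem E_comm : ∀ a ∈ E, ∀ b ∈ E, a * b = b * a := fun a ha b hb =>
  (Subgroup.closure_le (Subgroup.centralizer (E : Set Γ))).mpr (fun c hc d hd =>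
    ((Subgroup.closure_le (Subgroup.centralizer {c})).mpr (fun f hf =>
      Subgroup.mem_centralizer_singleton_iff.mpr (lE_comm f hf c hc)) hd _ rfl).symm) hb a ha
theorem conj_clo {G : Type} [Group G] {S : Set G} {K : Subgroup G} {u : G} (h : ∀ a ∈ S, u * a * u⁻¹ ∈ K) {n : G}
    (hn : n ∈ Subgroup.closure S) : u * n * u⁻¹ ∈ K :=
  (Subgroup.closure_le (K.comap (MulAut.conj u).toMonoidHom)).mpr h hn
theorem N_norm : θ.range ≤ Subgroup.normalizer E := by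
  have := cardE.1
  have key : ∀ s < 2, h3 s ∈ Subgroup.normalizer E := fun s hs =>
    Subgroup.mem_normalizer_fintype fun n hn => conj_clo (fun a ha => by
        obtain ⟨i, hi, rfl⟩ := mem_lE.mp ha
        have h1 := allB_spec (allB_spec cjB s hs) i hi
        rw [H16.force_eq] at h1
        rw [cjM_spec (r3 s) (rE i) (R_ev rE _) h1]
        exact ev_mem fun j _ => hE_mem j) hn
  rintro _ ⟨a, rfl⟩
  obtain ⟨u, rfl⟩ := J4F.pres.surj a
  rw [θ_ev]
  refine ev_mem fun i _ => h3_eq i ▸ nth_prop (P := fun a => a ∈ Subgroup.normalizer (E : Set Γ)) (Subgroup.one_mem _)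
    (fun a ha => ?_) i
  simp only [List.mem_cons, List.not_mem_nil, or_false] at ha
  rcases ha with rfl | rfl | rfl
  exacts [key 0 (by norm_num), key 1 (by norm_num), Subgroup.inv_mem _ (key 1 (by norm_num))]

/-! ### the subgroup `H` -/

noncomputable def al (u v : List ℕ) : Γ := ev hE u * (1 * ev h3 v)
theorem al_mem (u v : List ℕ) : al u v ∈ E ⊔ θ.range := by
  rw [al, one_mul]
  exact Subgroup.mul_mem_sup (ev_mem fun j _ => hE_mem j) ⟨_, θ_ev v⟩
theorem r_al {u v : List ℕ} {a b : ℕ} (h : Nat.beq (m3 oW (evM oW CE u) oW.one (evM oW S3 v)) a = true ∧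
    wInvB a b = true) : MG.R a (al u v) ∧ MG.R b (al u v)⁻¹ :=
  let r := R_beq (R_m3 (R_ev rE u) MG.R_one (R_ev r3 v)) h.1; ⟨r, R_inv r h.2⟩
attribute [irreducible] al
noncomputable def hH : ℕ → Γ := H17.nth 1 [al ew0 nw0, (al ew0 nw0)⁻¹, al ew1 nw1, (al ew1 nw1)⁻¹,
  al ew2 nw2, (al ew2 nw2)⁻¹, al ew3 nw3, (al ew3 nw3)⁻¹]
theorem rH : ∀ i, MG.R (H16.nth oW.one SH i) (hH i) :=
  R_nth (.cons (r_al hB0).1 (.cons (r_al hB0).2 (.cons (r_al hB1).1 (.cons (r_al hB1).2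
    (.cons (r_al hB2).1 (.cons (r_al hB2).2 (.cons (r_al hB3).1 (.cons (r_al hB3).2 .nil))))))))
theorem hH_triv (i : ℕ) (hi : 8 ≤ i) : hH i = 1 := nth_of_ge _ hi
theorem inv8 {G : Type} [Group G] (a b c d : G) : Inv 0 (H17.nth 1 [a, a⁻¹, b, b⁻¹, c, c⁻¹, d, d⁻¹]) := fun i => by
  by_cases hi : i < 8
  · interval_cases i
    exacts [rfl, (inv_inv a).symm, rfl, (inv_inv b).symm, rfl, (inv_inv c).symm, rfl, (inv_inv d).symm]
  · have h1 : 8 ≤ i := by omega
    rw [nth_of_ge (l := [a, a⁻¹, b, b⁻¹, c, c⁻¹, d, d⁻¹]) _ h1,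
      nth_of_ge (l := [a, a⁻¹, b, b⁻¹, c, c⁻¹, d, d⁻¹]) _ (inv_ge (k := 0) (nc := 8) rfl (by omega) h1), inv_one]
theorem invH : Inv 0 hH := inv8 _ _ _ _
noncomputable def H : Subgroup Γ := Subgroup.closure (Set.range hH)
theorem hH_mem (i : ℕ) : hH i ∈ H := Subgroup.subset_closure ⟨i, rfl⟩
theorem H_le : H ≤ E ⊔ θ.range := (Subgroup.closure_le _).mpr (by
  rintro _ ⟨i, rfl⟩
  refine nth_prop (P := fun a => a ∈ E ⊔ θ.range) (Subgroup.one_mem _) (fun a ha => ?_) i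
  simp only [List.mem_cons, List.not_mem_nil, or_false] at ha
  rcases ha with rfl | rfl | rfl | rfl | rfl | rfl | rfl | rfl <;>
    first | exact al_mem _ _ | exact Subgroup.inv_mem _ (al_mem _ _))
theorem cardH_le : CardLe H 501397585920 := (cardLe_sup cardE cardN N_norm).mono H_le
instance : Finite H := cardH_le.1
theorem H_norm : H ≤ Subgroup.normalizer E := H_le.trans (sup_le Subgroup.le_normalizer N_norm)
theorem x_mem : x ∈ H :=
  (ev_eq rH wnB (i := 0) (by norm_num) (r3 0) ▸ ev_mem fun j _ => hH_mem j : h3 0 ∈ H)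
theorem y_mem : y ∈ H :=
  (ev_eq rH wnB (i := 1) (by norm_num) (r3 1) ▸ ev_mem fun j _ => hH_mem j : h3 1 ∈ H)
theorem E_le : E ≤ H := (Subgroup.closure_le _).mpr fun a ha => by
  obtain ⟨i, hi, rfl⟩ := mem_lE.mp ha
  exact ev_eq rH weB hi (rE i) ▸ ev_mem fun j _ => hH_mem j
theorem H_fix : H ≤ stabilizer Γ (wv 1) := (Subgroup.closure_le _).mpr (by
  rintro _ ⟨i, rfl⟩
  rcases nth_mem oW.one SH i with e | e
  · rw [R_fun (rH i) (e ▸ MG.R_one)]; exact Subgroup.one_mem _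
  · exact (MG_smul (rH i) (by norm_num)).2.trans (congrArg wv (Nat.eq_of_beq_eq_true (allL_iff.mp fixB _ e))))

noncomputable def gH (i : ℕ) : H := ⟨hH i, hH_mem i⟩
theorem gH_ev (u : List ℕ) : (ev gH u : H) = ev hH u := map_ev' H.subtype (fun _ => rfl) u
theorem gensH : Gens 0 8 gH := ⟨fun i => Subtype.ext (invH i), fun i hi => Subtype.ext (hH_triv i hi), fun a => by
  obtain ⟨u, hu⟩ := exists_word_of_mem_closure invH (S := Set.range hH) (by
    rintro _ ⟨i, rfl⟩; exact ⟨[i], mul_one _⟩) a.2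
  exact ⟨u, Subtype.ext ((gH_ev u).trans hu)⟩⟩

theorem MG_mat {a : ℕ} {g : Γ} (h : MG.R a g) (v : V112) : g • v = Matrix.mulVec (gmat 112 a) v := MW_mat h v
theorem gH_smul (z : ℕ) (v : V112) : gH z • v = hH z • v := rfl
theorem rH0 : MG.R cH0 (hH 0) := (r_al hB0).1
theorem rH2 : MG.R cH2 (hH 2) := (r_al hB1).1
theorem rH4 : MG.R cH4 (hH 4) := (r_al hB2).1
theorem rH6 : MG.R cH6 (hH 6) := (r_al hB3).1

theorem rep_pl {D : TD} (hD : D.Good) (hk : D.k = 0) (hn : D.nc = 8) {P : List ℕ} {m : ℕ} (hm : m ≤ 112)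
    (hP : P.length ≤ m) (h0 : plB D 112 P m cH0 0 = true) (h2 : plB D 112 P m cH2 2 = true)
    (h4 : plB D 112 P m cH4 4 = true) (h6 : plB D 112 P m cH6 6 = true)
    (hu : Nat.beq (plU P D.n 0) (bit 0) = true) {W : List (List ℕ)} {r : ℕ}
    (ht : Nat.beq (D.orbIt W r (bit 0)) (ones D.n) = true) :
    ∃ φ, H17.Rep gH D φ ∧ (∀ a, ∀ i < D.n, a • plv 112 P i = plv 112 P (φ a i)) ∧
      ∀ i < D.n, ∀ j < D.n, plv 112 P i = plv 112 P j → i = j := by
  have hg : Gens D.k D.nc gH := hk ▸ hn ▸ gensH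
  refine rep_of_labels hD hg _ (fun z i _ => lab_all hD hk hg (fun z hz i => ?_) z i) (plU_spec (hP.trans hm) hu)
    (trans_of_orb hD ht)
  have key : ∀ {c z : ℕ}, MG.R c (hH z) → plB D 112 P m c z = true → gH z • plv 112 P i = plv 112 P (D.ρ z i) :=
    fun r e => (gH_smul _ _).trans ((MG_mat r _).trans (plB_spec hD.toShape (by norm_num) hm hP e i))
  obtain e | e | e | e : 2 * z = 0 ∨ 2 * z = 2 ∨ 2 * z = 4 ∨ 2 * z = 6 := by omega
  all_goals rw [e]
  exacts [key rH0 h0, key rH2 h2, key rH4 h4, key rH6 h6]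

theorem ex1 : ∃ φ, H17.Rep gH J4T1.D φ ∧ (∀ a, ∀ i < 15180, a • plv 112 J4T1.P i = plv 112 J4T1.P (φ a i)) ∧
    ∀ i < 15180, ∀ j < 15180, plv 112 J4T1.P i = plv 112 J4T1.P j → i = j :=
  rep_pl J4T1.good rfl rfl (m := 56) (by norm_num) le_rfl J4T1.pl0 J4T1.pl2 J4T1.pl4 J4T1.pl6 J4T1.plu J4T1.tr
theorem ex2 : ∃ φ, H17.Rep gH J4T2.D φ :=
  let ⟨φ, h, _⟩ := rep_pl J4T2.good rfl rfl (m := 12) (by norm_num) le_rfl J4T2.pl0 J4T2.pl2 J4T2.pl4 J4T2.pl6 J4T2.plu J4T2.tr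
  ⟨φ, h⟩

theorem lab0 : plv 112 J4T1.P 0 = t • wv 1 := (plv_eq J4T1.lab0).trans (MG_smul rt (by norm_num)).2.symm

theorem stb_ge {c m : ℕ} {a : Γ} (r : MG.R c a) {st : List (List ℕ × List ℕ)} (h1 : stB oW SH c st = true)
    {lv : List Lev} (h4 : lowB J4T2.D 6 lv [] = true) (h5 : H17.allL lv (fun L => subsetB L.W (fstL st)) = true)
    (hm : levProd lv = m) : m ≤ Nat.card (stb H a) := by
  obtain ⟨φ, hφ⟩ := ex2
  refine hm ▸ low_le hφ (fun L hL u hu => ?_) h4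
  change a⁻¹ * (ev gH u : H) * a ∈ H
  rw [gH_ev]
  exact stB_spec rH hH_mem r h1 (subsetB_sound (allL_true h5 L hL) u hu)

/-! ### the representatives -/

noncomputable def g2 : Γ := t * (ev hH [0, 3, 2, 2] * t)
noncomputable def g3 : Γ := t * (ev hH [4, 0, 1, 1] * t)
noncomputable def g4 : Γ := t * (ev hH [1, 2, 5, 4] * g2)
noncomputable def g5 : Γ := t * (ev hH [3, 6, 0, 3] * g3)
noncomputable def g6 : Γ := t * (ev hH [2, 0, 7, 1] * t)
theorem rg2 : MG.R cG2 g2 := R_beq (R_m3 rt (R_ev rH _) rt) gB2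
theorem rg3 : MG.R cG3 g3 := R_beq (R_m3 rt (R_ev rH _) rt) gB3
theorem rg4 : MG.R cG4 g4 := R_beq (R_m3 rt (R_ev rH _) rg2) gB4
theorem rg5 : MG.R cG5 g5 := R_beq (R_m3 rt (R_ev rH _) rg3) gB5
theorem rg6 : MG.R cG6 g6 := R_beq (R_m3 rt (R_ev rH _) rt) gB6
noncomputable def hG : ℕ → Γ := H17.nth 1 [1, t, g2, g3, g4, g5, g6]
theorem rG : ∀ i, MG.R (H16.nth oW.one CG i) (hG i) :=
  R_nth (.cons MG.R_one (.cons rt (.cons rg2 (.cons rg3 (.cons rg4 (.cons rg5 (.cons rg6 .nil)))))))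

end Cfsg.Agent.H16.J4G
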