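import Cfsg.Agent.H16.J4G
import Cfsg.Agent.H16.J4C1
import Cfsg.Agent.H16.J4C2
import Cfsg.Agent.H16.J4C3
import Cfsg.Agent.H16.J4C4
import Cfsg.Agent.H16.J4C5
import Cfsg.Agent.H16.J4C6
import Cfsg.Agent.H16.J4E

/-! Order and simplicity of the matrix group. -/

set_option autoImplicit false
set_option maxRecDepth 100000

namespace Cfsg.Agent.H16.J4G

open H17 J4M MulAction Mdl

theorem stb1 : 33030144 ≤ Nat.card (stb H t) := stb_ge rt J4C1.c1 J4C1.c4 J4C1.c5.2.1 J4C1.c5.2.2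

theorem stb_le : stb H t ≤ stabilizer H (t • wv 1) := fun p hp => by
  have h : (t⁻¹ * p * t) • wv 1 = wv 1 := H_fix hp
  rw [mul_smul, mul_smul, inv_smul_eq_iff] at h
  exact h

theorem stab_eq : Nat.card H = 501397585920 ∧ stabilizer H (t • wv 1) = stb H t := by
  obtain ⟨φ, hr, h1, h2⟩ := ex1
  have e1 : Nat.card H = Nat.card (orbit H (t • wv 1)) * Nat.card (stabilizer H (t • wv 1)) := by
    rw [← Nat.card_prod]
    exact (Nat.card_congr (orbitProdStabilizerEquivGroup H (t • wv 1))).symm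
  have e2 : 15180 ≤ Nat.card (orbit H (t • wv 1)) := by
    rw [Nat.card_coe_set_eq, ← Mdl.ncard_image_Iio (f := plv 112 J4T1.P) (m := 15180) fun i hi j hj => h2 i hi j hj]
    refine Set.ncard_le_ncard ?_ (Set.finite_range _)
    rintro _ ⟨i, hi, rfl⟩
    obtain ⟨u, rfl⟩ := trans_of_orb J4T1.good J4T1.tr i hi
    exact ⟨ev gH u, by rw [← hr.map_ev, ← h1 _ 0 (by norm_num), lab0]⟩
  have e3 := stb1.trans (Subgroup.card_le_of_le stb_le)
  have e4 := cardH_le.2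
  have e5 : Nat.card (stabilizer H (t • wv 1)) ≤ 33030144 := by
    have := (Nat.mul_le_mul_right (Nat.card (stabilizer H (t • wv 1))) e2).trans (e1 ▸ e4)
    omega
  refine ⟨le_antisymm e4 (e1 ▸ le_trans (by norm_num) (Nat.mul_le_mul e2 e3)), ?_⟩
  exact (Subgroup.eq_of_le_of_card_ge stb_le (e5.trans stb1)).symm

theorem cardH : Nat.card H = 501397585920 := stab_eq.1

theorem cov {c r : ℕ} {a : Γ} (ra : MG.R c a) {st : List (List ℕ × List ℕ)} (h1 : stB oW SH c st = true)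
    {en : List Ent} (h2 : dcB oW SH cT CG c en = true) {W : List (List ℕ)}
    (h3 : Nat.beq (J4T1.D.orbIt W r (startM J4T1.D en)) (ones J4T1.D.n) = true) (h5 : subsetB W (fstL st) = true)
    (h : H) : ∃ j : Fin 7, t * h * a ∈ dcs H (hG j) := by
  obtain ⟨φ, hr, e1, -⟩ := ex1
  refine cover_of hr (k := fun j : Fin 7 => hG j) (fun p hp => ?_) (fun u hu => ?_) (fun p hp => ?_) h3 h
  · have : p ∈ stabilizer H (t • wv 1) := by
      rw [mem_stabilizer_iff, ← lab0, e1 p 0 (by norm_num), hp]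
    rw [stab_eq.2] at this
    have h' : t⁻¹ * p * t ∈ H := this
    rwa [t_inv] at h' ⊢
  · rw [gH_ev]; exact stB_spec rH hH_mem ra h1 (subsetB_sound h5 u hu)
  · rw [gH_ev]; exact dcB_spec rH hH_mem rt rG ra h2 hp

theorem cov_all (j : Fin 7) (h : H) : ∃ k : Fin 7, t * h * hG j ∈ dcs H (hG k) := by
  obtain ⟨j, hj⟩ := j
  interval_cases j
  · exact ⟨1, 1, H.one_mem, h, h.2, (mul_one _).trans (congrArg (· * (h : Γ)) (one_mul t).symm)⟩
  · exact cov rt J4C1.c1 J4C1.c2 J4C1.c3 J4C1.c5.1 h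
  · exact cov rg2 J4C2.c1 J4C2.c2 J4C2.c3 J4C2.c5.1 h
  · exact cov rg3 J4C3.c1 J4C3.c2 J4C3.c3 J4C3.c5.1 h
  · exact cov rg4 J4C4.c1 J4C4.c2 J4C4.c3 J4C4.c5.1 h
  · exact cov rg5 J4C5.c1 J4C5.c2 J4C5.c3 J4C5.c5.1 h
  · exact cov rg6 J4C6.c1 J4C6.c2 J4C6.c3 J4C6.c5.1 h

theorem cover (a : Γ) : ∃ j : Fin 7, a ∈ dcs H (hG j) := by
  obtain ⟨u, rfl⟩ := surj4 a
  induction u with
  | nil => exact ⟨0, 1, H.one_mem, 1, H.one_mem, ((mul_one _).trans (mul_one _)).symm⟩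
  | cons i u ih =>
    obtain ⟨j, hj⟩ := ih
    have key : ∀ b ∈ H, ∃ k : Fin 7, b * ev h4 u ∈ dcs H (hG k) := fun b hb =>
      ⟨j, by simpa using dcs_mul hj hb H.one_mem⟩
    rw [ev_cons]
    refine h4_cases (P := fun b => ∃ k : Fin 7, b * ev h4 u ∈ dcs H (hG k)) (key _ H.one_mem) (key _ x_mem) ?_
      (key _ y_mem) (key _ (H.inv_mem y_mem)) i
    obtain ⟨h1, m1, h2, m2, e⟩ := hj
    obtain ⟨k, hk⟩ := cov_all j ⟨h1, m1⟩
    refine ⟨k, ?_⟩
    have := dcs_mul hk H.one_mem m2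
    rw [e]
    convert this using 1
    simp only [mul_assoc, one_mul]

def nn : Fin 7 → ℕ := ![1, 15180, 32643072, 3400320, 82575360, 54405120, 28336]

theorem dcs_le (j : Fin 7) : (dcs H (hG j)).Finite ∧ (dcs H (hG j)).ncard ≤ nn j * 501397585920 := by
  have key : ∀ {a : Γ} {n m : ℕ}, m ≤ Nat.card (stb H a) → 501397585920 ≤ n * m →
      (dcs H a).Finite ∧ (dcs H a).ncard ≤ n * 501397585920 := fun h1 h2 => cardH ▸ ncard_dcs h1 (cardH ▸ h2)
  obtain ⟨j, hj⟩ := j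
  interval_cases j
  · refine key (a := 1) (n := 1) (m := 501397585920) ?_ (by norm_num)
    rw [show stb H 1 = ⊤ from eq_top_iff.mpr fun p _ => show 1⁻¹ * (p : Γ) * 1 ∈ H by simp, Subgroup.card_top, cardH]
  · exact key (n := 15180) stb1 (by norm_num)
  · exact key (n := 32643072) (stb_ge rg2 J4C2.c1 J4C2.c4 J4C2.c5.2.1 J4C2.c5.2.2) (by norm_num)
  · exact key (n := 3400320) (stb_ge rg3 J4C3.c1 J4C3.c4 J4C3.c5.2.1 J4C3.c5.2.2) (by norm_num)
  · exact key (n := 82575360) (stb_ge rg4 J4C4.c1 J4C4.c4 J4C4.c5.2.1 J4C4.c5.2.2) (by norm_num)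
  · exact key (n := 54405120) (stb_ge rg5 J4C5.c1 J4C5.c4 J4C5.c5.2.1 J4C5.c5.2.2) (by norm_num)
  · exact key (n := 28336) (stb_ge rg6 J4C6.c1 J4C6.c4 J4C6.c5.2.1 J4C6.c5.2.2) (by norm_num)

theorem sum_nn : ∑ j, nn j = 173067389 := by decide +kernel
theorem sub_nn : ∀ s : Finset (Fin 7), 0 ∈ s → ∑ j ∈ s, nn j ∣ 173067389 →
    ∑ j ∈ s, nn j = 1 ∨ ∑ j ∈ s, nn j = 173067389 := by decide +kernel

theorem main : Finite Γ ∧ Nat.card Γ ≤ (∑ j, nn j) * 501397585920 ∧ (Nat.card Γ = (∑ j, nn j) * 501397585920 →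
    ∀ K, H ≤ K → ∃ s : Finset (Fin 7), (∀ j : Fin 7, hG j ∈ K → j ∈ s) ∧
      Nat.card K = (∑ j ∈ s, nn j) * 501397585920) :=
  dc_main (fun j : Fin 7 => hG j) nn dcs_le cover

instance : Finite Γ := main.1

theorem ord_spec {c p v : ℕ} {g : Γ} (r : MG.R c g) (h : J4E.ordB c p v = true) : g ^ p = 1 ∧ g ≠ 1 := by
  rw [J4E.ordB, H16.force_eq, andB_iff, andB_iff] at h
  exact ⟨isOne_spec (R_pow r p) h.1, MG_ne r (Nat.blt_eq.mp h.2.1) h.2.2⟩

theorem prime_dvd {p v : ℕ} (hp : p.Prime) {u : List ℕ} (h : J4E.ordB (evM oW S4 u) p v = true) : p ∣ Nat.card Γ := by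
  have := Fact.mk hp
  have h1 := ord_spec (R_ev r4 u) h
  exact orderOf_eq_prime h1.1 h1.2 ▸ orderOf_dvd_natCard _

theorem heis : 11 ^ 3 ∣ Nat.card Γ := by
  have : Fact (Nat.Prime 11) := ⟨by norm_num⟩
  obtain ⟨a, ra⟩ : ∃ a, MG.R J4E.cA a := ⟨_, R_beq (R_m3 (R_ev rH _) (rG _) (R_ev rH _)) J4E.dA⟩
  obtain ⟨b, rb⟩ : ∃ b, MG.R J4E.cB b := ⟨_, R_beq (R_m3 (R_ev rH _) (rG _) (R_ev rH _)) J4E.dB⟩
  have rc := R_beq (R_m3 (MG.R_mul ra rb) (R_pow ra 10) (R_pow rb 10)) J4E.dC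
  obtain ⟨h1, h2, h3, h4, h5⟩ := J4E.hs
  have ha := isOne_spec (R_pow ra 11) h1
  have hb := isOne_spec (R_pow rb 11) h2
  have hc := ord_spec rc h3
  refine heis_dvd ha hb hc.1 hc.2 (mul_inv_eq_iff_eq_mul.mp (cjM_spec ra rc rc h4))
    (mul_inv_eq_iff_eq_mul.mp (cjM_spec rb rc rc h5)) ?_
  rw [mul_assoc (a * b), mul_assoc (a ^ 10), ← mul_assoc (b ^ 10), ← pow_succ, hb, one_mul, ← pow_succ, ha, mul_one]

theorem cardΓ : Nat.card Γ = 86775571046077562880 := by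
  have h0 := main.2.1
  rw [sum_nn] at h0
  have h1 : 45581598720 ∣ Nat.card Γ := Dvd.dvd.trans (by norm_num) (cardH ▸ Subgroup.card_subgroup_dvd_card H)
  have h2 := Nat.Coprime.mul_dvd_of_dvd_of_dvd (by norm_num) h1 heis
  have h3 := Nat.Coprime.mul_dvd_of_dvd_of_dvd (by norm_num) h2 (prime_dvd (by norm_num) J4E.o29)
  have h4 := Nat.Coprime.mul_dvd_of_dvd_of_dvd (by norm_num) h3 (prime_dvd (by norm_num) J4E.o31)
  have h5 := Nat.Coprime.mul_dvd_of_dvd_of_dvd (by norm_num) h4 (prime_dvd (by norm_num) J4E.o37)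
  have h6 := Nat.Coprime.mul_dvd_of_dvd_of_dvd (by norm_num) h5 (prime_dvd (by norm_num) J4E.o43)
  exact le_antisymm (h0.trans (by norm_num)) (le_trans (by norm_num) (Nat.le_of_dvd Nat.card_pos h6))

theorem H_max (K : Subgroup Γ) (hK : H ≤ K) : K = H ∨ K = ⊤ := by
  obtain ⟨s, h1, h2⟩ := main.2.2 (by rw [cardΓ, sum_nn]) K hK
  have h3 := Subgroup.card_subgroup_dvd_card K
  rw [h2, cardΓ, show 86775571046077562880 = 173067389 * 501397585920 by norm_num] at h3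
  rcases sub_nn s (h1 0 K.one_mem) (Nat.dvd_of_mul_dvd_mul_right (by norm_num) h3) with e | e
  · exact Or.inl (Subgroup.eq_of_le_of_card_ge hK (by rw [h2, e, cardH])).symm
  · exact Or.inr (Subgroup.eq_top_of_card_eq _ (by rw [h2, e, cardΓ]))

theorem span (k : ℕ) (hk : k < 112) : ∃ γ : Γ, oW.ap J4E.cS (2 ^ k) < 2 ^ 112 ∧ γ • wv 1 = wv (oW.ap J4E.cS (2 ^ k)) := by
  induction k using Nat.strong_induction_on with
  | _ k ih =>
    have h := allB_spec J4E.span k hk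
    rw [ifB_eq] at h
    split_ifs at h with h0
    · rw [Nat.eq_of_beq_eq_true h]; exact ⟨1, by norm_num, one_smul _ _⟩
    · rw [andB_iff] at h
      have h1 := Nat.blt_eq.mp h.1
      obtain ⟨γ, l, e⟩ := ih _ h1 (h1.trans hk)
      have := MG_smul (r4 (get 8 J4E.sx k)) l
      rw [Nat.eq_of_beq_eq_true h.2]
      exact ⟨_ * γ, this.1, by rw [mul_smul, e, this.2]⟩

theorem ι_smul (g : Γ) (v : V112) : ι g • v = g • v := rfl
theorem ι_inj : Function.Injective ι := Subtype.val_injective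

theorem G112_ext {g h : G112} (e : ∀ k < 112, g • wv (2 ^ k) = h • wv (2 ^ k)) : g = h :=
  Units.ext (Matrix.ext_of_mulVec_single fun k => by rw [← gv_pow]; exact e k k.2)

theorem core (M : Subgroup Γ) (hM : M.Normal) (h : M ≤ H) : M = ⊥ := by
  obtain ⟨β, rβ, -⟩ := exists_MW J4E.sInv
  refine eq_bot_iff.mpr fun m hm => Subgroup.mem_bot.mpr (ι_inj ?_)
  rw [map_one]
  refine mul_right_cancel (b := β) (G112_ext fun k hk => ?_)
  have p := MW_P.mp (MW.P_ap rβ (MW_P.mpr ⟨Nat.pow_lt_pow_right (by norm_num) hk, rfl⟩ : MW.P (2 ^ k) (wv (2 ^ k))))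
  obtain ⟨γ, -, e⟩ := span k hk
  have h1 : (γ⁻¹ * m * γ⁻¹⁻¹) • wv 1 = wv 1 := H_fix (h (hM.conj_mem m hm γ⁻¹))
  rw [inv_inv, mul_smul, mul_smul, inv_smul_eq_iff] at h1
  rw [one_mul, mul_smul, ← p.2, ← e, ι_smul, h1]

theorem mem_of_cube {G : Type} [Group G] {L : Subgroup G} (hL : L.Normal) {y t u : G} (hy : y ∈ L) (ht : t⁻¹ = t)
    (h1 : (y * (u⁻¹ * (t * u))) ^ 3 = 1) : t ∈ L := by
  have h2 := L.inv_mem (L.mul_mem (L.mul_mem hy (hL.conj_mem y hy (u⁻¹ * t * u))) hy)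
  have h3 : (y * (u⁻¹ * t * u * y * (u⁻¹ * t * u)⁻¹) * y)⁻¹ = u⁻¹ * t * u := by
    refine inv_eq_of_mul_eq_one_right ?_
    rw [← h1, mul_inv_rev, mul_inv_rev, inv_inv, ht, pow_succ, sq]
    simp only [mul_assoc]
  rw [h3] at h2
  have := hL.conj_mem _ h2 u
  convert this using 1; group

theorem top_of {L : Subgroup Γ} (hL : L.Normal) (hx : x ∈ L) (hy : y ∈ L) : L = ⊤ := by
  have h := isOne_spec (R_pow (R_ev r4 _) 3) J4E.rl
  rw [ev_cons, ev_mulInvL inv4, ev_cons] at h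
  have ht : t ∈ L := mem_of_cube hL hy t_inv h
  refine eq_top_iff.mpr fun a _ => ?_
  obtain ⟨v, rfl⟩ := surj4 a
  exact ev_mem fun i _ => h4_cases (P := fun b => b ∈ L) L.one_mem hx ht hy (L.inv_mem hy) i

theorem top_of_comap {L : Subgroup Γ} (hL : L.Normal) (h : L.comap θ = ⊤) : L = ⊤ :=
  top_of hL (θ_let 0 ▸ h.ge (Subgroup.mem_top _) : h3 0 ∈ L) (θ_let 1 ▸ h.ge (Subgroup.mem_top _) : h3 1 ∈ L)

theorem E_gen (L : Subgroup Γ) (hL : L.Normal) (h : E ≤ L) : L = ⊤ := by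
  have := J4F.simpleF
  have h1 := J4E.tet
  rw [H16.force_eq, andB_iff] at h1
  have e := MG.eq_of (R_m3 rt (R_ev rE _) rt) (R_m3 (R_ev rE _) MG.R_one (R_ev r3 _)) h1.1
  have n1 := MG_ne (R_ev r3 _) (by norm_num) h1.2
  refine top_of_comap hL (((hL.comap θ).eq_bot_or_eq_top).resolve_left fun e1 => n1 ?_)
  have hm : ev J4F.g J4E.wn ∈ L.comap θ := by
    rw [Subgroup.mem_comap, θ_ev, ← one_mul (ev h3 _), eq_inv_mul_iff_mul_eq.mpr e.symm]
    refine L.mul_mem (L.inv_mem (h (ev_mem fun j _ => hE_mem j))) ?_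
    have := hL.conj_mem _ (h (ev_mem (v := [9]) fun j _ => hE_mem j)) t
    rwa [t_inv, mul_assoc] at this
  rw [e1, Subgroup.mem_bot] at hm
  rw [← θ_ev, hm, map_one]

theorem simpleΓ : IsSimpleGroup Γ := by
  have : Nontrivial Γ := Finite.one_lt_card_iff_nontrivial.mp (by rw [cardΓ]; norm_num)
  refine simple_iw H_max H_norm E_comm core E_gen fun M hM h => top_of_comap hM (eq_top_iff.mpr ?_)
  rw [← J4F.perfect, ← Subgroup.map_le_iff_le_comap, commutator_def, Subgroup.map_commutator]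
  exact (Subgroup.commutator_mono le_top le_top).trans h

end Cfsg.Agent.H16.J4G
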