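import Cfsg.Agent.H21.Leech12
import Cfsg.Agent.H16.MF2
import Cfsg.Agent.H16.NEng4

/-! The Leech lattice modulo `2` and the bit matrix model of the Conway groups. -/

set_option autoImplicit false
set_option maxRecDepth 100000

namespace Cfsg.Agent.H16.Lc

open Cfsg Cfsg.Agent.LL MulAction

noncomputable def mulLM : ℕ := (nat_lit 0x10000000100000001000000010000000100000001000000010000000100000001000000010000000100000001000000010000000100000001000000010000000100000001000000010000000100000001000000010000000100000001)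
noncomputable def mulLSp : ℕ := (nat_lit 0x20000000400000008000000100000002000000040000000800000010000000200000004000000080000001000000020000000400000008000000100000002000000040000000800000010000000200000004000000080000001)
noncomputable def mulLOne : ℕ := (nat_lit 0x8000000040000000200000001000000008000000040000000200000001000000008000000040000000200000001000000008000000040000000200000001000000008000000040000000200000001000000008000000040000000200000001)
noncomputable def mulL (a b : ℕ) : ℕ :=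
  (Nat.xor (Nat.xor (Nat.xor (Nat.xor (Nat.xor (Nat.xor (Nat.xor (Nat.xor (Nat.xor (Nat.xor (Nat.xor (Nat.xor (Nat.xor (Nat.xor (Nat.xor (Nat.xor (Nat.xor (Nat.xor (Nat.xor (Nat.xor (Nat.xor (Nat.xor (Nat.xor (Nat.xor (nat_lit 0) (Nat.mul (Nat.land (Nat.shiftRight a (nat_lit 0)) (nat_lit 4294967295)) (Nat.land (Nat.shiftRight b (nat_lit 0)) mulLM))) (Nat.mul (Nat.land (Nat.shiftRight a (nat_lit 32)) (nat_lit 4294967295)) (Nat.land (Nat.shiftRight b (nat_lit 1)) mulLM))) (Nat.mul (Nat.land (Nat.shiftRight a (nat_lit 64)) (nat_lit 4294967295)) (Nat.land (Nat.shiftRight b (nat_lit 2)) mulLM))) (Nat.mul (Nat.land (Nat.shiftRight a (nat_lit 96)) (nat_lit 4294967295)) (Nat.land (Nat.shiftRight b (nat_lit 3)) mulLM))) (Nat.mul (Nat.land (Nat.shiftRight a (nat_lit 128)) (nat_lit 4294967295)) (Nat.land (Nat.shiftRight b (nat_lit 4)) mulLM))) (Nat.mul (Nat.land (Nat.shiftRight a (nat_lit 160)) (nat_lit 4294967295)) (Nat.land (Nat.shiftRight b (nat_lit 5))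 mulLM))) (Nat.mul (Nat.land (Nat.shiftRight a (nat_lit 192)) (nat_lit 4294967295)) (Nat.land (Nat.shiftRight b (nat_lit 6)) mulLM))) (Nat.mul (Nat.land (Nat.shiftRight a (nat_lit 224)) (nat_lit 4294967295)) (Nat.land (Nat.shiftRight b (nat_lit 7)) mulLM))) (Nat.mul (Nat.land (Nat.shiftRight a (nat_lit 256)) (nat_lit 4294967295)) (Nat.land (Nat.shiftRight b (nat_lit 8)) mulLM))) (Nat.mul (Nat.land (Nat.shiftRight a (nat_lit 288)) (nat_lit 4294967295)) (Nat.land (Nat.shiftRight b (nat_lit 9)) mulLM))) (Nat.mul (Nat.land (Nat.shiftRight a (nat_lit 320)) (nat_lit 4294967295)) (Nat.land (Nat.shiftRight b (nat_lit 10)) mulLM))) (Nat.mul (Nat.land (Nat.shiftRight a (nat_lit 352)) (nat_lit 4294967295)) (Nat.land (Nat.shiftRight b (nat_lit 11)) mulLM))) (Nat.mul (Nat.land (Nat.shiftRight a (nat_lit 384)) (nat_lit 4294967295)) (Nat.land (Nat.shiftRight b (nat_lit 12)) mulLM))) (Nat.mul (Nat.land (Nat.shiftRight a (nat_lit 416)) (nat_lit 4294967295)) (Nat.land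 (Nat.shiftRight b (nat_lit 13)) mulLM))) (Nat.mul (Nat.land (Nat.shiftRight a (nat_lit 448)) (nat_lit 4294967295)) (Nat.land (Nat.shiftRight b (nat_lit 14)) mulLM))) (Nat.mul (Nat.land (Nat.shiftRight a (nat_lit 480)) (nat_lit 4294967295)) (Nat.land (Nat.shiftRight b (nat_lit 15)) mulLM))) (Nat.mul (Nat.land (Nat.shiftRight a (nat_lit 512)) (nat_lit 4294967295)) (Nat.land (Nat.shiftRight b (nat_lit 16)) mulLM))) (Nat.mul (Nat.land (Nat.shiftRight a (nat_lit 544)) (nat_lit 4294967295)) (Nat.land (Nat.shiftRight b (nat_lit 17)) mulLM))) (Nat.mul (Nat.land (Nat.shiftRight a (nat_lit 576)) (nat_lit 4294967295)) (Nat.land (Nat.shiftRight b (nat_lit 18)) mulLM))) (Nat.mul (Nat.land (Nat.shiftRight a (nat_lit 608)) (nat_lit 4294967295)) (Nat.land (Nat.shiftRight b (nat_lit 19)) mulLM))) (Nat.mul (Nat.land (Nat.shiftRight a (nat_lit 640)) (nat_lit 4294967295)) (Nat.land (Nat.shiftRight b (nat_lit 20)) mulLM))) (Nat.mul (Nat.land (Nat.shiftRight a (nat_lit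 672)) (nat_lit 4294967295)) (Nat.land (Nat.shiftRight b (nat_lit 21)) mulLM))) (Nat.mul (Nat.land (Nat.shiftRight a (nat_lit 704)) (nat_lit 4294967295)) (Nat.land (Nat.shiftRight b (nat_lit 22)) mulLM))) (Nat.mul (Nat.land (Nat.shiftRight a (nat_lit 736)) (nat_lit 4294967295)) (Nat.land (Nat.shiftRight b (nat_lit 23)) mulLM)))
noncomputable def mulLAp (a x : ℕ) : ℕ := apB mulLM mulLSp a x
theorem mulL_eq (a b : ℕ) : mulL a b = mulB 24 (dig 32 24 fun _ => 1) a b := by
  rw [show (dig 32 24 fun _ => 1) = mulLM by decide +kernel]; delta mulL mulB xs; rfl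
theorem mulLAp_eq (a x : ℕ) : mulLAp a x = apB (dig 32 24 fun _ => 1) (dig 31 24 fun _ => 1) a x := by
  rw [show (dig 32 24 fun _ => 1) = mulLM by decide +kernel, show (dig 31 24 fun _ => 1) = mulLSp by decide +kernel]; rfl

theorem b24 : B2 24 mulL mulLAp mulLOne := ⟨by decide, mulL_eq, mulLAp_eq, by decide +kernel⟩
noncomputable def o : Ops := f2Ops mulL mulLAp mulLOne 24

def T2 : AddSubgroup L := (nsmulAddMonoidHom 2 : L →+ L).range
abbrev Q : Type := L ⧸ T2

theorem card_Q : Nat.card Q = 2 ^ 24 := by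
  have := AddSubgroup.index_range_nsmul L 2
  rwa [finrank_leech] at this

theorem mk_eq {x y : L} : (x : Q) = y ↔ ∃ z : L, x - y = 2 • z :=
  QuotientAddGroup.eq_iff_sub_mem.trans ⟨fun ⟨z, e⟩ => ⟨z, e.symm⟩, fun ⟨z, e⟩ => ⟨z, e.symm⟩⟩

theorem add_self (q : Q) : q + q = 0 := by
  obtain ⟨x, rfl⟩ := QuotientAddGroup.mk_surjective q
  exact mk_eq.mpr ⟨x, by rw [sub_zero, two_nsmul]⟩

theorem mk_neg (x : L) : ((-x : L) : Q) = x := neg_eq_of_add_eq_zero_left (add_self (x : Q))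

noncomputable def act (g : Co0) : Q →+ Q :=
  QuotientAddGroup.map T2 T2 (DistribSMul.toAddMonoidHom L g) (by
    rintro _ ⟨x, rfl⟩
    exact ⟨g • x, ((DistribSMul.toAddMonoidHom L g).map_nsmul 2 x).symm⟩)

/-- the action on the lattice modulo `2` -/
noncomputable def ρ : Co0 →* Equiv.Perm Q := MonoidHom.toHomPerm
  { toFun g := (act g : Q → Q)
    map_one' := funext fun q => by
      obtain ⟨x, rfl⟩ := QuotientAddGroup.mk_surjective q
      exact congrArg (fun y : L => (y : Q)) (one_smul Co0 x)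
    map_mul' g h := funext fun q => by
      obtain ⟨x, rfl⟩ := QuotientAddGroup.mk_surjective q
      exact congrArg (fun y : L => (y : Q)) (mul_smul g h x) }

theorem ρ_mk (g : Co0) (x : L) : ρ g • (x : Q) = (g • x : L) := rfl

theorem ρ_neg1 : ρ neg1 = 1 := Equiv.ext fun q => by
  obtain ⟨x, rfl⟩ := QuotientAddGroup.mk_surjective q
  exact (ρ_mk _ _).trans (by rw [neg1_smul, mk_neg]; rfl)

theorem eq_or_neg {x y : L} (hx : sqNorm (x : V) < 64) (hy : sqNorm (y : V) ≤ 64) (e : (x : Q) = y) : x = y ∨ x = -y := by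
  by_contra h
  obtain ⟨z, e⟩ := mk_eq.mp e
  exact hx.ne (leech_cong x.2 y.2 (fun e => h (Or.inl (Subtype.ext e))) (fun e => h (Or.inr (Subtype.ext e))) hx.le hy
    ⟨z, z.2, congrArg Subtype.val e⟩).1

theorem ker_ρ : ρ.ker = Subgroup.center Co0 := by
  refine le_antisymm ((normal_Co0 _).resolve_right fun e => ?_) fun g hg => ?_
  · obtain ⟨g, hg⟩ := from_U (x := U') (by decide +kernel)
    have h : ρ g = 1 := (e.ge trivial : g ∈ ρ.ker)
    have := eq_or_neg (x := U') (y := U) (by decide +kernel) (by decide +kernel) (by rw [← hg, ← ρ_mk, h, one_smul])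
    revert this; decide +kernel
  · rcases mem_center_iff.mp hg with rfl | rfl
    exacts [ρ.map_one, ρ_neg1]

/-- the image of a subgroup not containing `-1` -/
noncomputable def equivMap (K : Subgroup Co0) (h : neg1 ∉ K) : K ≃* K.map ρ :=
  MulEquiv.ofBijective (ρ.subgroupMap K) ⟨(injective_iff_map_eq_one _).mpr fun g e => by
    rcases mem_center_iff.mp (ker_ρ.le (congrArg Subtype.val e : ρ g = 1)) with e | e
    exacts [Subtype.ext e, absurd (e ▸ g.2) h], ρ.subgroupMap_surjective K⟩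

noncomputable def equivCo1 : Spor.Co1 ≃* (⊤ : Subgroup Co0).map ρ :=
  ((QuotientGroup.quotientMulEquivOfEq ker_ρ.symm).trans (QuotientGroup.quotientKerEquivRange ρ)).trans
    (MulEquiv.subgroupCongr ρ.range_eq_map)

theorem neg1_K2 : neg1 ∉ K2 := fun h => absurd ((neg1_smul U).symm.trans h) (by decide +kernel)
theorem neg1_K3 : neg1 ∉ K3 := fun h => absurd ((neg1_smul Vv).symm.trans h) (by decide +kernel)

theorem stab_U : (⊤ : Subgroup Co0).map ρ ⊓ stabilizer (Equiv.Perm Q) (U : Q) = K2.map ρ := by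
  refine le_antisymm ?_ (le_inf (Subgroup.map_mono le_top) ?_)
  · rintro _ ⟨⟨g, -, rfl⟩, h⟩
    rcases eq_or_neg (x := g • U) (y := U) (by rw [sqNorm_co, norm_U]; norm_num) (by rw [norm_U]; norm_num) h with e | e
    · exact ⟨g, e, rfl⟩
    · exact ⟨neg1 * g, show (neg1 * g) • U = U by rw [mul_smul, e, neg1_smul, neg_neg], by rw [map_mul, ρ_neg1, one_mul]⟩
  · rintro _ ⟨g, h, rfl⟩
    exact (ρ_mk g U).trans (congrArg _ h)

/-! ### coordinates -/

noncomputable def φ (w : L) : Q →+ ZMod 2 :=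
  QuotientAddGroup.lift T2 (AddMonoidHom.mk' (fun v : L => ((dotInt (w : V) v / 8 : ℤ) : ZMod 2)) fun x y => by
    rw [AddSubgroup.coe_add, dot_add_right, Int.add_ediv_of_dvd_left (eight_dvd_dot w.2 x.2), Int.cast_add]) (by
    rintro _ ⟨x, rfl⟩
    rw [AddMonoidHom.mem_ker, nsmulAddMonoidHom_apply, two_nsmul, map_add, CharTwo.add_self_eq_zero])

noncomputable def dotN (a b : ℕ) : ℕ := sumN 24 fun i => Nat.mul (get 5 a i) (get 5 b i)
noncomputable def b3 (a b : ℕ) : ℕ := get 1 (dotN a b) 3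

theorem dot_vec (a b : ℕ) : dotInt (vec a) (vec b) = dotN a b - 16 * ((∑ i ∈ Finset.range 24, get 5 a i : ℕ) +
    (∑ i ∈ Finset.range 24, get 5 b i : ℕ) : ℤ) + 6144 := by
  rw [dotInt, sum_gpt, dotN, sumN_eq, Finset.sum_congr rfl (g := fun j => ((get 5 a j * get 5 b j : ℕ) : ℤ) -
    16 * ((get 5 a j : ℕ) + (get 5 b j : ℕ)) + 256) fun j hj => by
      rw [vec, vec, idx_gpt (Finset.mem_range.mp hj)]; push_cast; ring,
    Finset.sum_add_distrib, Finset.sum_sub_distrib, ← Finset.mul_sum, Finset.sum_add_distrib,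
    Finset.sum_const, Finset.card_range, ← Nat.cast_sum, ← Nat.cast_sum, ← Nat.cast_sum]
  rfl

theorem φ_mk {w v : L} {a b : ℕ} (hw : (w : V) = vec a) (hv : (v : V) = vec b) : φ w v = b3 a b := by
  have h := eight_dvd_dot w.2 v.2
  change ((dotInt (w : V) v / 8 : ℤ) : ZMod 2) = _
  rw [hw, hv, dot_vec] at h ⊢
  rw [← Int.cast_natCast (b3 a b), ZMod.intCast_eq_intCast_iff', b3, get_eq, Nat.shiftRight_eq_div_pow]
  omega

def Bm : ℕ := nat_lit 0x8c5ef7c5ef7c5ef7bdf17be319c5ef83a108421083a0e94210841d2842528c6319bdef8c62f8c5ef8c6318c5f18c62f8be2f7c5f17be337c5ef8c5f18421084290842108421084210852108c5ed8c6317bdef7c62f7bdf17be319be2f8be317bdf18c5f18bdef7c6318c5f18cdf18c62f8c6317c5f18c5ef841d27421083a4e8421083a1083a107c62f8c6338c6318be317be2f8c5f173a5084a10841d08420e942108421294210941d08421084a0e8420e83a507bdef7c62f7bdf18c5b18c5ef8be318bdf18c5ef8bdef7c5ef7be319bdef8bdf17c62f7c6318be318c5ed7c6317be318be319c5f18c5ef8c5f17bdef8c5f17c62f7bdef6be2f8c5f18be2f9421083a1074a0e841d0841d0841d084a10741d094a10942108421094212841d08421074a128421073a0e841d07bdf17bdef7bdef7c6318bdb17c5ef84210741d294250841d07421094210a4210842108421084210842108420ca42108421084210842108421084214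
def Wm : ℕ := nat_lit 0x84252a4a9084a10739ce94a128425094a1084210949d084a10831d0842929321083a1274a0e94a128425284212841d074a1083a5084250742106425484a109421084a10749ce84a4e84a5073210839d0749d28420e7425084a1284a1093a108421094210839ce94194841d0942128425293ad0a4210842107420e74a54849ce742108421074a127424e842529519093a1074a1084a127421084a4e93a10841d28421284a52849ce93a1474a4e83a508425084290941ce842108421083a14741d074292842127420e94a108420ca4a129421094210742507420e73a1084a10949d29420e8421083a4e8421095290841d2839d0941ce939d08421284a1093a90949d274210839d08425093a50a4212a49d083a10941d084210841d2842d0939d09418e74a0e741d084250842128421284a0e84a52841d0a42109421484a1084a0e7421293a0e74a50752907c5af7c6317beb18c5efac5ef7bdf18c6318be2f8c62d7bded7bdef7cdf1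
noncomputable def bq (k : ℕ) : Q := vL (get 120 Bm k)
noncomputable def π : ℕ → Q := cmb 24 bq
noncomputable def code (y : ℕ) : ℕ := sumN 24 fun j => Nat.mul (b3 (get 120 Wm j) y) (Nat.pow 2 j)

theorem basis : (∀ k < 24, isLv (get 120 Bm k) = true) ∧ (∀ k < 24, isLv (get 120 Wm k) = true) ∧
    ∀ j < 24, ∀ k < 24, b3 (get 120 Wm j) (get 120 Bm k) = if k = j then 1 else 0 := by decide +kernel

theorem dual {j : ℕ} (hj : j < 24) (k : ℕ) (hk : k < 24) : φ (vL (get 120 Wm j)) (bq k) = if k = j then 1 else 0 := by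
  rw [bq, φ_mk (coe_vL (basis.2.1 j hj)) (coe_vL (basis.1 k hk)), basis.2.2 j hj k hk]
  split_ifs <;> rfl

theorem crd : Crd 24 π := crd_of_dual add_self card_Q (fun j => φ (vL (get 120 Wm j))) fun _ => dual

theorem code_eq (y : ℕ) : code y = dig 1 24 fun j => b3 (get 120 Wm j) y := by
  rw [code, sumN_eq, dig]; simp only [one_mul]; rfl

theorem code_lt (y : ℕ) : code y < 2 ^ 24 := code_eq y ▸ dig_lt (w := 1) fun _ _ => get_lt _ _ _

theorem π_code {v : L} {y : ℕ} (hv : (v : V) = vec y) : π (code y) = v := by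
  obtain ⟨x, hx, e⟩ := crd.surj v
  rw [← e]
  congr 1
  refine eq_of_get1 (code_lt y) hx fun j hj => ?_
  rw [← map_cmb _ hj (dual hj) x, code_eq, get_dig (f := fun j => b3 (get 120 Wm j) y) fun _ _ => get_lt _ _ _, if_pos hj,
    ← φ_mk (coe_vL (basis.2.1 j hj)) hv, ← e]
  rfl

noncomputable abbrev M : Mdl o (Equiv.Perm Q) Q := b24.mdl crd
noncomputable def vB (x : ℕ) : Bool := Nat.blt x (2 ^ 24)
theorem hv : M.Val vB := b24.val crd

theorem P_code {v : L} {y x : ℕ} (hv : (v : V) = vec y) (e : code y = x) : M.P x v :=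
  e ▸ (b24.P_iff crd).mpr ⟨code_lt y, π_code hv⟩

theorem P_U : M.P 1 U := P_code coe_U (by decide +kernel)

/-- `a` is the reduction of `m`; the columns of `Y` are the images of the basis vectors -/
noncomputable def cvt (m Y a : ℕ) : Bool :=
  allB 24 fun k => force (get 120 Y k) fun y => andB (mv m (get 120 Bm k) y) (Nat.beq (get 32 a k) (code y))

theorem mv_spec {g : Co0} {m a b : ℕ} (hg : MIs g m) (h : mv m a b = true) {v : L} (hv : (v : V) = vec a) :
    ((g • v : L) : V) = vec b := by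
  unfold mv at h
  have := appChk_spec le_rfl one_simd (tabIs_vec a) (tabIs_vec b) le_rfl h Nat.one_pos
  change tm m (vec a) = (8 : ℤ) • vec b at this
  rw [← hv, hg.tm] at this
  exact smul_right_injective V (by norm_num) this

theorem R_cvt {g : Co0} {m Y a : ℕ} (hg : MIs g m) (h : cvt m Y a = true) : M.R a (ρ g) := by
  have h := fun k hk => andB_iff.mp ((force_eq _ _).symm.trans (allB_spec h k hk))
  simp only [Nat.beq_eq] at h
  refine b24.R_of crd (act g) (fun _ => rfl) (fun k hk => (h k hk).2 ▸ code_lt _) fun k hk => ?_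
  rw [(h k hk).2, π_code (mv_spec hg (h k hk).1 (coe_vL (basis.1 k hk))), π, cmb_pow _ hk]
  rfl

noncomputable def cvtL (ms : List ℕ) (l : List (ℕ × ℕ)) : Bool :=
  allP l fun Y a => anyL ms fun m => cvt m Y a

theorem inL_cvt {K : Subgroup Co0} {ms : List ℕ} (h : ∀ m ∈ ms, InM K m) {l : List (ℕ × ℕ)} (e : cvtL ms l = true) :
    M.InL (K.map ρ) (l.map Prod.snd) := fun a ha => by
  obtain ⟨p, hp, rfl⟩ := List.mem_map.mp ha
  obtain ⟨m, hm, e⟩ := anyL_iff.mp (allP_iff.mp e p hp)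
  obtain ⟨g, hg, r⟩ := h m hm
  exact ⟨_, ⟨g, hg, rfl⟩, R_cvt r e⟩

/-- the class has a representative of norm `0`, `48` or `64` -/
noncomputable def longB (y x : ℕ) : Bool :=
  andB (andB (isLv y) (Nat.beq (code y) x)) (force (Nat.add (dotN y y) 6144) fun s =>
    force (Nat.mul 32 (sumN 24 (get 5 y))) fun t => anyL [0, 48, 64] fun c => Nat.beq s (Nat.add t c))

theorem not_P_of_long {y x : ℕ} (h : longB y x = true) {g : Equiv.Perm Q} (hg : g ∈ (⊤ : Subgroup Co0).map ρ) :
    ¬ M.P x (g • (U : Q)) := fun hP => by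
  obtain ⟨g, -, rfl⟩ := hg
  simp only [longB, andB_iff, force_eq, anyL_iff, Nat.beq_eq, sumN_eq] at h
  obtain ⟨⟨h1, h2⟩, c, hc, h3⟩ := h
  have h4 : sqNorm (vL y : V) = c := by
    rw [sqNorm_eq_dot, coe_vL h1, dot_vec]
    change dotN y y + 6144 = 32 * _ + c at h3
    omega
  have h5 : sqNorm ((g • U : L) : V) = 32 := (sqNorm_co g U).trans norm_U
  simp only [List.mem_cons, List.not_mem_nil, or_false] at hc
  rcases eq_or_neg (x := g • U) (y := vL y) (by omega) (by omega) (M.P_fun hP (P_code (coe_vL h1) h2)) with e | e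
  · rw [e] at h5; omega
  · rw [e, AddSubgroup.coe_neg, sqNorm_neg] at h5; omega

noncomputable def iP (S : List (ℕ × ℕ)) : Bool := invP 24 mulL mulLOne S
theorem prT {S : List (ℕ × ℕ)} (e : iP S = true) : M.PrL ⊤ S := b24.prL crd e

/-! ### polynomials in an element -/

noncomputable def psum (I : List ℕ) (pa : ℕ) : ℕ :=
  List.rec (motive := fun _ => ℕ) 0 (fun i _ ih => Nat.xor (powM o pa i) ih) I
noncomputable def gsum (I : List ℕ) (a : Equiv.Perm Q) (ω : Q) : Q := (I.map fun i => a ^ i • ω).sum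

theorem ap_xor (a b : ℕ) {x : ℕ} (hx : x < 2 ^ 24) : mulLAp (a ^^^ b) x = mulLAp a x ^^^ mulLAp b x := by
  simp only [b24.apS_eq _ hx, apS, xc_eq_xs, xs_xor, get_xor]
  exact xs_congr fun k _ => by cases x.testBit k <;> simp

theorem ap_zero {x : ℕ} (hx : x < 2 ^ 24) : mulLAp 0 x = 0 := by
  simpa using ap_xor 0 0 hx

theorem P_psum {pa : ℕ} {a : Equiv.Perm Q} (ra : M.R pa a) {x : ℕ} {ω : Q} (h : M.P x ω) (I : List ℕ) :
    M.P (mulLAp (psum I pa) x) (gsum I a ω) := by
  induction I with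
  | nil => exact (b24.P_iff crd).mpr (by rw [show psum [] pa = 0 from rfl, ap_zero h.1]; exact ⟨by norm_num, crd.zero⟩)
  | cons i I ih =>
    have h1 := (b24.P_iff crd).mp (M.P_ap (Mdl.R_pow ra i) h)
    have h2 := (b24.P_iff crd).mp ih
    rw [show psum (i :: I) pa = powM o pa i ^^^ psum I pa from rfl, ap_xor _ _ h.1]
    exact (b24.P_iff crd).mpr ⟨Nat.xor_lt_two_pow h1.1 h2.1, by rw [crd.xor, h2.2]; exact congrArg (· + _) h1.2⟩

theorem smul_gsum {a k : Equiv.Perm Q} (hk : k ∈ (⊤ : Subgroup Co0).map ρ) (hka : k * a = a * k) (I : List ℕ) (ω : Q) :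
    k • gsum I a ω = gsum I a (k • ω) := by
  obtain ⟨g, -, rfl⟩ := hk
  induction I with
  | nil => exact (act g).map_zero
  | cons i I ih =>
    refine ((act g).map_add _ _).trans (congrArg₂ (· + ·) ?_ ih)
    change ρ g • a ^ i • ω = a ^ i • ρ g • ω
    rw [← mul_smul, ← mul_smul, ((show Commute (ρ g) a from hka).pow_right i).eq]

theorem exists_P (ω : Q) : ∃ x, M.P x ω := let ⟨x, hx, e⟩ := crd.surj ω; ⟨x, (b24.P_iff crd).mpr ⟨hx, e⟩⟩

noncomputable def subChk (I : List ℕ) (pa x0 W C d Y : ℕ) (T : List (ℕ × ℕ)) : Bool :=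
  force (psum I pa) fun p => andB (andB (andB (vB x0) (Nat.beq (mulLAp p x0) 1)) (andB (Nat.beq p (mulL W C))
    (andB (Nat.ble d 24) (allB 24 fun k => Nat.blt (get 32 C k) (Nat.pow 2 d)))))
    (allQ (Nat.pow 2 d) fun i => force (mulLAp W i) fun y =>
      orB (anyP T fun u _ => Nat.beq (mulLAp u 1) y) (longB (get 120 Y i) y))

theorem top_sub {pa : ℕ} {a k : Equiv.Perm Q} (ra : M.R pa a) (hk : k ∈ (⊤ : Subgroup Co0).map ρ) (hka : k * a = a * k)
    {I : List ℕ} {x0 W C d Y : ℕ} {T : List (ℕ × ℕ)} (h : subChk I pa x0 W C d Y T = true) :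
    ∃ t ∈ T, M.P (o.ap t.1 1) (k • (U : Q)) := by
  simp only [subChk, force_eq, andB_iff, allQ_iff, allB_iff, Nat.beq_eq, Nat.ble_eq, Nat.blt_eq, orB_iff, anyP_iff] at h
  obtain ⟨⟨⟨h1, h2⟩, h3, h4, h5⟩, h6⟩ := h
  obtain ⟨ω, hω⟩ := hv x0 h1
  obtain ⟨y, hy⟩ := exists_P (k • ω)
  have h7 := P_psum ra hy I
  rw [← smul_gsum hk hka, M.P_fun (P_psum ra hω I) (h2 ▸ P_U), h3,
    b24.ap_mul _ (fun k hk => (h5 k hk).trans_le (Nat.pow_le_pow_right (by norm_num) h4)) hy.1] at h7
  rcases h6 (mulLAp C y) (by rw [b24.apS_eq _ hy.1]; exact xc_lt h5 y) with ⟨t, ht, e⟩ | e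
  exacts [⟨t, ht, (e.symm ▸ h7 : M.P (mulLAp t.1 1) _)⟩, absurd h7 (not_P_of_long e hk)]

theorem card_cent_le {pa : ℕ} {a : Equiv.Perm Q} (ra : M.R pa a) {K : Subgroup (Equiv.Perm Q)}
    (hK : K ≤ (⊤ : Subgroup Co0).map ρ) {lv : List N.Lv} (hc : N.Chain M lv K) (I : List ℕ) {H : ℕ} (wit : List ℕ)
    (h : andB (ebB 24 (psum I pa)) (Nat.beq (mulL H (psum I pa)) 0) = true) :
    Nat.card (K ⊓ Subgroup.centralizer {a} : Subgroup _) ≤ force (psum I pa) fun p => N.cntX o (fun x => Nat.beq (mulLAp H x) 0)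
      (fun x => anyL wit fun y => andB (vB y) (Nat.beq (mulLAp p y) x)) lv := by
  rw [force_eq]
  refine hc.card_le_inv (X := Set.range (gsum I a)) ?_ (fun x ω hx e => ?_) inf_le_left ?_
  · rintro x _ hx ⟨ω, rfl⟩
    obtain ⟨y, hy⟩ := exists_P ω
    rw [M.P_inj hx (P_psum ra hy I), ← b24.ap_mul _ (eb_of (andB_iff.mp h).1) hy.1,
      Nat.eq_of_beq_eq_true (andB_iff.mp h).2, ap_zero hy.1]
    rfl
  · obtain ⟨y, -, e⟩ := anyL_iff.mp e
    obtain ⟨ω', hy⟩ := hv y (andB_iff.mp e).1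
    exact ⟨ω', M.P_fun (P_psum ra hy I) (Nat.eq_of_beq_eq_true (andB_iff.mp e).2 ▸ hx)⟩
  · rintro g hg _ ⟨ω, rfl⟩
    exact ⟨_, (smul_gsum (hK hg.1) (Subgroup.mem_centralizer_singleton_iff.mp hg.2) I ω).symm⟩

end Cfsg.Agent.H16.Lc
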