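import Cfsg.Agent.H16.M23x
import Cfsg.Agent.H16.M24f

/-! A non-split extension `2¹¹·M₂₃`, from the Parker loop cocycle on the Golay code. -/

set_option autoImplicit false
set_option maxRecDepth 100000
set_option Elab.async false

namespace Cfsg.Agent.H16.M23y

open Cfsg MulAction Mdl M23x Pointwise

section
variable (G : Type) {V : Type} [Group G] [AddCommGroup V] [DistribMulAction G V] (θ : V → V → ZMod 2)

/-- pairs `(q, s)` where the polar form of `q` is the change of `θ` under `s` -/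
@[ext] structure PE where
  q : V → ZMod 2
  s : G
  h : ∀ x y, q (x + y) + q x + q y = θ (s • x) (s • y) + θ x y

theorem two0 : (2 : ZMod 2) = 0 := rfl

instance : Mul (PE G θ) := ⟨fun a b => ⟨fun x => a.q (b.s • x) + b.q x, a.s * b.s, fun x y => by
  rw [smul_add, mul_smul, mul_smul]
  linear_combination a.h (b.s • x) (b.s • y) + b.h x y + θ (b.s • x) (b.s • y) * two0⟩⟩
instance : One (PE G θ) := ⟨⟨0, 1, fun x y => by simp [CharTwo.add_self_eq_zero]⟩⟩
instance : Inv (PE G θ) := ⟨fun a => ⟨fun x => a.q (a.s⁻¹ • x), a.s⁻¹, fun x y => by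
  rw [smul_add, a.h, smul_inv_smul, smul_inv_smul, add_comm]⟩⟩

instance : Group (PE G θ) := Group.ofLeftAxioms
  (fun a b c => PE.ext (funext fun x => by
    change a.q (b.s • c.s • x) + b.q (c.s • x) + c.q x = a.q ((b.s * c.s) • x) + (b.q (c.s • x) + c.q x)
    rw [mul_smul, add_assoc]) (mul_assoc _ _ _))
  (fun a => PE.ext (funext fun x => zero_add _) (one_mul _))
  (fun a => PE.ext (funext fun x => by
    change a.q (a.s⁻¹ • a.s • x) + a.q x = 0
    rw [inv_smul_smul, CharTwo.add_self_eq_zero]) (inv_mul_cancel _))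

variable {G θ}
theorem mul_q (a b : PE G θ) (x : V) : (a * b).q x = a.q (b.s • x) + b.q x := rfl
theorem mul_s (a b : PE G θ) : (a * b).s = a.s * b.s := rfl
theorem inv_q (a : PE G θ) (x : V) : a⁻¹.q x = a.q (a.s⁻¹ • x) := rfl
theorem inv_s (a : PE G θ) : a⁻¹.s = a.s⁻¹ := rfl

instance [Finite G] [Finite V] : Finite (PE G θ) :=
  Finite.of_injective (fun a => (a.q, a.s)) fun _ _ h => PE.ext (congrArg Prod.fst h) (congrArg Prod.snd h)

variable (G θ) in
def pi : PE G θ →* G := MonoidHom.mk' PE.s mul_s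
end

def C0 : Submodule (ZMod 2) (GolayPt → ZMod 2) := golayCode ⊓ LinearMap.ker (LinearMap.proj none)

theorem comp_mem (g : Spor.M23) {w : GolayPt → ZMod 2} (h : w ∈ C0) : w ∘ ⇑((g : Equiv.Perm GolayPt)⁻¹) ∈ C0 := by
  refine ⟨?_, ?_⟩
  · have e : support₂ (w ∘ ⇑((g : Equiv.Perm GolayPt)⁻¹)) = (g : Equiv.Perm GolayPt) • support₂ w := by
      ext p; rw [← Finset.inv_smul_mem_iff]; simp [support₂]
    obtain ⟨v, hv, e'⟩ : (g : Equiv.Perm GolayPt) • support₂ w ∈ gSets := smul_mem_gSets g.2.1 ⟨w, h.1, rfl⟩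
    rwa [support_injective (e.trans e'.symm)]
  · have : (g : Equiv.Perm GolayPt)⁻¹ none = none := (g⁻¹).2.2
    change w ((g : Equiv.Perm GolayPt)⁻¹ none) = 0
    rw [this]; exact h.2

instance : DistribMulAction Spor.M23 C0 where
  smul g w := ⟨w.1 ∘ ⇑((g : Equiv.Perm GolayPt)⁻¹), comp_mem g w.2⟩
  one_smul _ := rfl
  mul_smul _ _ _ := rfl
  smul_zero _ := rfl
  smul_add _ _ _ := rfl

theorem coe_smul (g : Spor.M23) (w : C0) : (g • w).1 = w.1 ∘ ⇑((g : Equiv.Perm GolayPt)⁻¹) := rfl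

noncomputable def num (w : GolayPt → ZMod 2) : ℕ := (exists_toWord w).choose
theorem num_lt (w : GolayPt → ZMod 2) : num w < 2 ^ 24 := (exists_toWord w).choose_spec.1
theorem toWord_num (w : GolayPt → ZMod 2) : toWord (num w) = w := (exists_toWord w).choose_spec.2
theorem num_toWord {m : ℕ} (h : m < 2 ^ 24) : num (toWord m) = m := toWord_inj (num_lt _) h (toWord_num _)
theorem num_add (v w : GolayPt → ZMod 2) : num (v + w) = num v ^^^ num w := by
  rw [← num_toWord (Nat.xor_lt_two_pow (num_lt v) (num_lt w)), toWord_xor, toWord_num, toWord_num]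

def sm (m : ℕ) : ZMod 2 := ∑ p, toWord m p
theorem sm_xor (a b : ℕ) : sm (a ^^^ b) = sm a + sm b := by simp [sm, toWord_xor, Finset.sum_add_distrib]
theorem sm_eq (m : ℕ) : sm m = (pc24 m : ZMod 2) := by
  rw [← card_toSet, toSet, Finset.card_filter]; simp [sm, toWord]
theorem dot_toWord (a b : ℕ) : toWord a ⬝ᵥ toWord b = sm (a &&& b) :=
  Finset.sum_congr rfl fun p _ => by simp only [toWord, Nat.testBit_and]; cases a.testBit (idx p) <;> cases b.testBit (idx p) <;> rfl
noncomputable def ev (m : ℕ) : Bool := Nat.beq (Nat.land (pc24 m) 1) 0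
theorem ev_iff {m : ℕ} : ev m = true ↔ sm m = 0 := by
  rw [sm_eq, ZMod.natCast_eq_zero_iff_even, Nat.even_iff, ev, Nat.beq_eq, Nat.land_eq, Nat.and_one_is_mod]

noncomputable def T : ℕ := (nat_lit 0xdc95d3a02548496b93cd770883c2ea3e444e22427464c0bf47b683d10cd230bb5d58e0dfcdbef9cf0372102ccedcbaef202bf9af8d6c6be035f44ec6585113a26aaf5be70cddc23a2d040c5e093947cb4d026d4120b04aaf4c1f00683f4125ca2edce5ae0fd1fa3f4e42eff2e446a5cb2ba963273f9870d5600b92730a450c9c253fffa15df61d29bbf2af097095e445199350468267d95212903d3314cca31c24490cd8296995138478482801bd4d3f3360a41571cea33e48cc35ebf7256d6c826c6e9a5542070f38a2c37562d761ab5d93d130ebf81d691f202048000de9dee43f01b81e24202265374d040c611d320280bd73574d120c5143150700d35200efd41bf57eaa33c2e0e216d14a43ff19e51fbf0e7357714c0c50253a0778217335b10207611b31077883abfd20226c0abf7d0dddd02f2f145e626798f31fb7c441315fa5526751d2b8a798af2e5052ae6888054338c088b92a8fbaacd9b7f64a4cffffc3c9bd0a41e4e59a14d868b914a9ce105650e888ce68b50329ce487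195709ca076fef819ce81503260cf24a4ca8417a3a6de200a6dfc6c5ba47cc802922aaf820411980a0bf6bd6914a86c9550380c445981b60c6f5f254606921c53e6f92012310411a4540bf7db4614d06eea6ea7a277c804912f574c82b0344244a8a1bd09f7df5e69015e66c006830d9f4b806148650ecbcec2868a678063842a85caf6c94692bf17e2fc37c905a61bdfe5251a4a6ede3381181e60e871bc4d2605678d50aff5fec96ed5b90085c141010140d1815bc0fdf5099123863487e535e3030b3abd6cec7129bc6d402520990023c6b0e28088109935ebf651c99100905982993a8cd38df13275c892a7a416e839136778176855376441841daf73de6c42b2a7805ff78bf1797f42abfc06662c5f37de7fbbd4979924f8fe699b2103fc4cc8015fc5d6aa4a63a88d440c9b00983fe73be159b3901a8a4a8333e07230e0a0cd001bd4f43b5677dc99631f36ce866c2733324ca841f80fab66c630819c35a6006670f705780820413685405e395c9e31e0f1b122647476f0d62754833b014cea81e227ce084763b748e91f5f86a7cd800424b9601483c84fe8845567031cf2a51062abd891dfe41c19db38a0f08f198b30aff794f2b150ae2760178b0acc5543bff25edf71b711230881331b0568c1befd705d682bef780a2d96919a50af74982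12d01ecc4175900f730f665dd1ccbaac46a4164a53f3265946074732f21faf9926ef68526b78ed252428c6c8906ba4125701e03faf4054d06b96518d9098f31ec8ab6d3207e3c91130452cf881fbe8eef8c8293b8534d481f924a17e4830002164a8e2e6cf6e46b2494ccd61945310cdf798395117453468801924f8f839093080acf4961928ef727689f81a9b440c99f0c63da99830c0280cab2fa837ac8d7595f7aa0a8779aac5bbb3ca6ec9ade57f04696bce53bf58ec4daf1adb5abffdfda61bdd9963e58cb1d9b81dd32df879298053820d832ced26f879068031424382080083cffb00ac6740b19dd7114b1548480bd11840079891838f7ff89151c0694b97485474e0a47f4ecf9eb51c500ffcb558ac472691dde6294310b0641db124080b663078b4e0187eaecfc73c6889834afff486b30068ce2c082bfccdc4ac25da81ddf69953307c4c5398831064d975962bfbcacfd8832224e92bb12e7b55d9b8833429025fe7279e9f0c71b22043e0ed2300a0036115394a86c88116052445855a3898ffb5f69434024e41a06bc49e59023223e444ec665b30c1d8183b817809ab6c1443ab5f81f03b2bb5b07cfe6ca51c11aef192cd9afb62893b5f10f659a33dc862b98017cbe46b0f91479149a0bab183e4538ba53773c67973c4c11421449cff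4f4325ce564d8c8ad2cac3e445cd2105c9163366544efb4483324c2ee3f55db7c4e694b1064e52f45b69117f346c22022371990e4090b9603521100c59bfb428d3afded91766235c962998414beecc9de53f534ffe63de1700d39212c492fef0c12ebf794f29b7fb4def381b9df7def971466be7335b14d8e911b3103800d60d5014d8c611d1d07604b849a009ff949712802e477356c020621b30864eee1b1613501140c906531c760b264d7714c05610331c60038790743780c86f6f7fde305d010cfb314090d2264f8397b16275c46859589f2ae49908998bdb84a145508513972064174ce02146d8c654ae29d75e9fa1f79525424b631949ce694946109dc71520891704d0316c9701228e29211a864495949b8881f1a83b1324d8d8d391c7f291cafe730bf9ca9d4b948ab8b789f13adfc159b1c7d6dc11d402079c9f5ee2a588dbb446b394365611ab70ebf7191a20857088a6ee1075a5650d8eb1d63374168371cd0cc98eb2f2a18adad2c9be885337066c2c95db9cdafd8afa5aa8fd08ddc117b9d8c80a2867c4c0e1444b044f0e3bd6db37a8e0d7f14140a1a2a5ece3a407831a470767935b5010cc0610a0020e2ae2d9a12ec4c28aff5fed284bb40fbfe08a90743cceacd10dbb216d95913a2f86c5150db805ff6b5d6b97f8b68353b2a4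8441bafb73e41bdfc0a3e25af6ff9bedb3be4d71304893b9b64e8e971810820d0bcdbee52cd0926ae6f0022a0682007c6c820823902d0b14ccda2f14ad8939998f97598bd06067c68091940d03fd73dce9c4b4cc803af9bd45a14476c15b01b0a4694bad10c1ce44003738e71e9f2c3e0d30206739101a820848be0eb8632c382811421064be0c742caff2987fcce54c7786cd49cc2809070054c4883b94d87489d40423145af767f76648b60bd31893051918f49034d34e4329b1d72fcda60827185123002c58885968c8737615d31d0b0a0e9a38903448aa28230ce5f6e7fb3e44e2764b2c49fb39ad9a402b3d6783f6fab39e1bc2b1b0fcd68d540a1be787791480fc8eaa919287f18775030ff9a737210063c192ff801e028b7e6c65aa099932bd7165aea254c6481948a0bd7f9a297e6e213bf2b7135d0439943144e095abefb07b2101d9120320737997515d81c9093084546b961928a0f8086930452c6b939b54f97c042181d03a3f359c1c22240e46cefc470c858a22bc78090f1f4554d8939b68a77ac90f3381ac68801bd4a6f20ade712addf0df83af9bdb3713e27b1fd655f04fdd589fafcd7ddbf8bcbeee3b2d61483d42bc3b41439d835a0d6c81561a59e1840d430e760d7f16682c11d3205d01d931a00eafc28092805b4d6afff505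6e95aff5a0a956015bb90fcb37773d318933671d5b3024d445f9c72d6367d47a9734c02be78cd658eafdf3676ae4eafd639dbc2eac41d218bccd6a1940a04a46df4452c995a13c7d8c85160ddd251102204460cc095fa828fb85d5386b73240297e9a3ee110b3022484d6151bb8a033261ffd58c3e01f497aca3100921466c09b35aeea2e2f73044a6c61e176751962099111304000ad1930f0440236095355d0d75aeb030824d41c2979b16c8813900c46a80b874d175a82415266448e866e7314ccbe2470f896b82a910f534c02a06849cff5ca159ce5843e2534f45ab73a6753dc48cb281d63273e4270d2088e8581f407806bcec281dac2c09adf50a5e9b7b52c0bbaea1d43b53baa27ebe6b2bae68f59c43aecc60f5901ec82e17a3ac4dfea4033445a38a5ba909ef266c9214251fc5fe9ccf78f114b1064ab0f9218408966055110002c4192ffa7d23681d3ffe75a83d93eedb41c8daaf3e2c595b93efbb42cd38df662ff1e7bce97f6c24767e8056cc2a2fb8bd4aae059ec6de0ffb6d13ccd2f19de5fbf0c07ab1e933a21a025a1a0cc733605020760c13100104cd542f7c5d45bc052e9f50c11c9ee94b111a026644050ffd6e1634d1e79f19fdf5c72d4c9140c90811600080ff606fd6802fda6981262b5cdd20fc41818331220009acdb0cf8a13290d1920006cbfed0c002d0800000000)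
noncomputable def Th (m : ℕ) : ℕ := get 11 T (Nat.land m 2047)
noncomputable def th (x y : C0) : ZMod 2 := toWord (Th (num x.1)) ⬝ᵥ y.1

theorem cw0_lt (x : ℕ) : cw0 x < 2 ^ 24 := xc_lt (fun _ _ => get_lt _ _ _) x
noncomputable def c0 (x : ℕ) : C0 := ⟨toWord (cw0 x), cw0_code x⟩
theorem exists_c0 (w : C0) : ∃ x < 2 ^ 11, c0 x = w := let ⟨x, h, e⟩ := exists_cw0 w.2.1 w.2.2; ⟨x, h, Subtype.ext e⟩

noncomputable def liftB (p U I : ℕ) : Bool :=
  andB (allB 11 fun k => andB (Nat.beq (imgS p (get 24 RC k)) (get 24 I k)) (Nat.beq (xc (get 11 U) 11 (get 24 RC k)) (get 11 U k)))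
    (allQ 2048 fun x => force (cw0 x) fun a => force (Th a) fun t => force (Th (imgS p a)) fun t' => force (xc (get 11 U) 11 a) fun u =>
      allB 11 fun k => ev (Nat.xor (Nat.xor (Nat.land a (get 11 U k)) (Nat.land t' (get 24 I k))) (Nat.land (Nat.xor t u) (get 24 RC k))))

theorem lift {p U I : ℕ} (h : liftB p U I = true) {g : Spor.M23} (r : M.R p g) : ∃ e : PE Spor.M23 th, e.s = g := by
  obtain ⟨h1, h2⟩ := andB_iff.mp h
  let L : (GolayPt → ZMod 2) → GolayPt → ZMod 2 := fun w => toWord (xc (get 11 U) 11 (num w))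
  have hL : ∀ v w, L (v + w) = L v + L w := fun v w => by simp only [L, num_add, xc_xor, toWord_xor]
  refine ⟨⟨fun x => x.1 ⬝ᵥ L x.1, g, fun x y => ?_⟩, rfl⟩
  obtain ⟨i, hi, rfl⟩ := exists_c0 x
  obtain ⟨j, -, rfl⟩ := exists_c0 y
  have := xc_ind (P := fun m => toWord (cw0 i) ⬝ᵥ L (toWord m) + toWord (Th (imgS p (cw0 i))) ⬝ᵥ toWord (imgS p m) +
    (toWord (Th (cw0 i)) + L (toWord (cw0 i))) ⬝ᵥ toWord m = 0)
    (by simp only [L, ← toWord_zero, num_toWord (m := 0) (by norm_num), xc_of_zero, imgS_zero]; simp [toWord_zero])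
    (fun a b ha hb => by
      rw [imgS_xor, toWord_xor, toWord_xor, hL, dotProduct_add, dotProduct_add, dotProduct_add]
      linear_combination ha + hb) (rows := get 24 RC) (k := 11) (fun k hk => by
      obtain ⟨e1, e2⟩ := andB_iff.mp (allB_spec h1 k hk)
      have := allQ_iff.mp h2 i hi
      simp only [force_eq] at this
      have := ev_iff.mp (allB_spec this k hk)
      simp only [L, num_toWord (cw0_lt _), num_toWord (get_lt 24 _ _), Nat.eq_of_beq_eq_true e1, Nat.eq_of_beq_eq_true e2,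
        ← toWord_xor, dot_toWord, ← sm_xor]
      exact this) j
  simp only [th, coe_smul, c0, Submodule.coe_add, toWord_comp r, num_toWord (cw0_lt _),
    num_toWord (imgS_lt (fun i hi => (r.2 i hi).1) _), hL, dotProduct_add, add_dotProduct] at this ⊢
  rw [dotProduct_comm (L _)] at this
  change _ ⬝ᵥ L (toWord (cw0 j)) + _ ⬝ᵥ toWord (imgS p (cw0 j)) + (_ ⬝ᵥ toWord (cw0 j) + toWord (cw0 j) ⬝ᵥ _) = 0 at this
  linear_combination this + (toWord (cw0 i) ⬝ᵥ L (toWord (cw0 i)) + toWord (cw0 j) ⬝ᵥ L (toWord (cw0 j)) -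
    toWord (Th (imgS p (cw0 i))) ⬝ᵥ toWord (imgS p (cw0 j)) - toWord (Th (cw0 i)) ⬝ᵥ toWord (cw0 j)) * two0

theorem lift0 : liftB 957258866473246231615885694098384019 38780119676447138525848970 7534519876867717890778787433452386499238987198575195033100448321523280559816805 = true := by decide +kernel
theorem lift1 : liftB 980071962574190983389735160693166275 649512476348616684411594393273026 3189713916846531725749449779142156606178843088618673739089837199224890647153707 = true := by decide +kernel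

abbrev E : Type := PE Spor.M23 th
noncomputable abbrev π : E →* Spor.M23 := pi _ _

theorem surj : Function.Surjective π := fun g => by
  have := gen_k23G.2 ((π.range.map Spor.M23.subtype).comap M24.subtype ⊓ K23) inf_le_right (fun p hp => by
    obtain ⟨g, -, r⟩ := inL23 (S := k23G) (by decide +kernel) p hp
    have : ∃ e : E, e.s = g := by
      simp only [k23G, List.mem_cons, List.not_mem_nil, or_false] at hp
      rcases hp with rfl | rfl
      exacts [lift lift0 r, lift lift1 r]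
    obtain ⟨e, he⟩ := this
    exact ⟨⟨g, g.2.1⟩, ⟨⟨g, ⟨e, he⟩, rfl⟩, g.2.2⟩, r.2⟩) (x := ⟨g, g.2.1⟩) g.2.2
  obtain ⟨_, ⟨e, rfl⟩, he⟩ := this.1
  exact ⟨e, Subtype.ext he⟩

noncomputable def lin (w : GolayPt → ZMod 2) : E := ⟨fun x => w ⬝ᵥ x.1, 1, fun x y => by
  rw [one_smul, one_smul, CharTwo.add_self_eq_zero, Submodule.coe_add, dotProduct_add]
  linear_combination (w ⬝ᵥ x.1 + w ⬝ᵥ y.1) * two0⟩
theorem lin_q (w : GolayPt → ZMod 2) (x : C0) : (lin w).q x = w ⬝ᵥ x.1 := rfl
theorem lin_s (w : GolayPt → ZMod 2) : (lin w).s = 1 := rfl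
theorem lin_add (v w : GolayPt → ZMod 2) : lin (v + w) = lin v * lin w :=
  PE.ext (funext fun x => by rw [mul_q, lin_q, lin_q, lin_q, lin_s, one_smul, add_dotProduct]) (by rw [mul_s, lin_s, lin_s, lin_s, mul_one])

noncomputable def tm : (GolayPt → ZMod 2) →+ Additive π.ker :=
  AddMonoidHom.mk' (fun w => Additive.ofMul ⟨lin w, lin_s w⟩) fun v w => Subtype.ext (lin_add v w)

theorem tm_e (w : GolayPt → ZMod 2) : ((tm w).toMul : E) = lin w := rfl

theorem tm_surj : Function.Surjective tm := fun n => by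
  have h1 : (n.toMul : E).s = 1 := n.toMul.2
  let f : C0 →+ ZMod 2 := AddMonoidHom.mk' (n.toMul : E).q fun x y => by
    have := (n.toMul : E).h x y
    rw [h1, one_smul, one_smul, CharTwo.add_self_eq_zero] at this
    linear_combination this - ((n.toMul : E).q x + (n.toMul : E).q y) * two0
  obtain ⟨F, hF⟩ := LinearMap.exists_extend (f.toZModLinearMap 2)
  refine ⟨fun p => F (Pi.single p 1), Subtype.ext (PE.ext (funext fun x => ?_) h1.symm)⟩
  have : F x.1 = (n.toMul : E).q x := LinearMap.congr_fun hF x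
  change (lin _).q x = (n.toMul : E).q x
  rw [lin_q, ← this, LinearMap.pi_apply_eq_sum_univ, dotProduct]
  exact Finset.sum_congr rfl fun p _ => by rw [smul_eq_mul, mul_comm]; congr; ext; simp [Pi.single_apply, eq_comm]

theorem tm_zero {w : GolayPt → ZMod 2} : tm w = 0 ↔ ∀ k < 11, w ⬝ᵥ toWord (get 24 RC k) = 0 := by
  have e : tm w = 0 ↔ lin w = 1 := ⟨fun h => by rw [← tm_e, h]; rfl, fun h => Subtype.ext h⟩
  rw [e]
  refine ⟨fun h k hk => ?_, fun h => PE.ext (funext fun x => ?_) rfl⟩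
  · have := lin_q w (c0 (bit k))
    rw [h] at this
    rw [(show ∀ k < 11, get 24 RC k = cw0 (bit k) by decide +kernel) k hk]
    exact this.symm
  · obtain ⟨j, -, rfl⟩ := exists_c0 x
    rw [lin_q]
    exact xc_ind (P := fun m => w ⬝ᵥ toWord m = 0) (by simp [toWord_zero])
      (fun a b ha hb => by rw [toWord_xor, dotProduct_add, ha, hb, add_zero]) h j

theorem tm_num {m : ℕ} : tm (toWord m) = 0 ↔ allB 11 (fun k => ev (Nat.land m (get 24 RC k))) = true := by
  simp only [tm_zero, allB_iff, ev_iff, dot_toWord, Nat.land_eq]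

theorem tm_code {w : GolayPt → ZMod 2} (h : w ∈ golayCode) : tm w = 0 := by
  obtain ⟨i, hi, rfl⟩ := mem_golayCode_iff.mp h
  exact tm_num.mpr (codeAll_spec (P := fun m => allB 11 (fun k => ev (Nat.land m (get 24 RC k)))) (by decide +kernel) (isCode_cw hi))

theorem tm_ker (w : GolayPt → ZMod 2) : tm w = 0 ↔ (w ∈ golayCode ∨ w + Pi.single none 1 ∈ golayCode) := by
  refine ⟨fun h => ?_, fun h => h.elim tm_code fun h => ?_⟩
  · obtain ⟨m, hm, rfl⟩ := exists_toWord w
    have hc : toWord (cw (m % 4096)) ∈ golayCode := mem_golayCode_iff.mpr ⟨_, Nat.mod_lt _ (by norm_num), rfl⟩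
    have h1 := Nat.xor_lt_two_pow hm (cw_lt (m % 4096))
    have h2 : (m ^^^ cw (m % 4096)) % 2 ^ 12 = 0 := by
      rw [Nat.xor_mod_two_pow, show 2 ^ 12 = 4096 from rfl, cw_mod (Nat.mod_lt _ (by norm_num)), Nat.xor_self]
    have h3 : tm (toWord (m ^^^ cw (m % 4096))) = 0 := by rw [toWord_xor, map_add, h, tm_code hc, add_zero]
    have h4 : ∀ x < 4096, orB (Bool.not (allB 11 (fun k => ev (Nat.land (Nat.mul x 4096) (get 24 RC k))))) (inCE (Nat.mul x 4096)) = true :=
      allQ_iff.mp (by decide +kernel)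
    have := h4 ((m ^^^ cw (m % 4096)) / 4096) (by omega)
    rw [show Nat.mul ((m ^^^ cw (m % 4096)) / 4096) 4096 = m ^^^ cw (m % 4096) by rw [Nat.mul_eq]; omega, tm_num.mp h3] at this
    have := (inCE_iff h1).mpr ((orB_iff.mp this).resolve_left (by decide))
    rw [toWord_xor, add_right_comm] at this
    exact this.imp (fun h => (add_mem_cancel_right hc).mp h) fun h => (add_mem_cancel_right hc).mp h
  · have := tm_code h
    rwa [map_add, show (Pi.single none 1 : GolayPt → ZMod 2) = toWord 8388608 by decide +kernel,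
      (tm_num (m := 8388608)).mpr (by decide +kernel), add_zero] at this

theorem tm_conj (g : E) (w : GolayPt → ZMod 2) :
    ((tm (w ∘ ⇑((g.s : Equiv.Perm GolayPt)⁻¹))).toMul : E) = g * ((tm w).toMul : E) * g⁻¹ := by
  rw [tm_e, tm_e]
  refine PE.ext (funext fun x => ?_) (by simp [mul_s, inv_s, lin_s])
  rw [mul_q, mul_q, inv_q, lin_q, lin_q, lin_s, one_smul, inv_s, add_right_comm, CharTwo.add_self_eq_zero, zero_add, coe_smul]
  exact Fintype.sum_equiv (g.s : Equiv.Perm GolayPt)⁻¹ _ _ fun p => by simp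

theorem smul_c0 {p : ℕ} {g : Spor.M23} (r : M.R p g) {x y : ℕ} (h : imgS p (cw0 x) = cw0 y) : g • c0 x = c0 y :=
  Subtype.ext ((toWord_comp r _).trans (congrArg toWord h))
theorem c0_xor (x y : ℕ) : c0 x + c0 y = c0 (x ^^^ y) := Subtype.ext (by simp only [c0, cw0, xc_xor, toWord_xor]; rfl)
theorem th_c0 (x y : ℕ) : th (c0 x) (c0 y) = (pc24 (Th (cw0 x) &&& cw0 y) : ZMod 2) := by
  simp only [th, c0, num_toWord (cw0_lt _), dot_toWord, sm_eq]

theorem polar {p : ℕ} {e : E} (r : M.R p e.s) (x y : ℕ) {x' y' : ℕ} (hx : imgS p (cw0 x) = cw0 x') (hy : imgS p (cw0 y) = cw0 y')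
    {z : ℕ} (hz : x ^^^ y = z) {c : ZMod 2} (hc : (pc24 (Th (cw0 x') &&& cw0 y') : ZMod 2) + (pc24 (Th (cw0 x) &&& cw0 y) : ZMod 2) = c) :
    e.q (c0 z) + e.q (c0 x) + e.q (c0 y) = c := by
  rw [← hz, ← c0_xor, e.h, smul_c0 r hx, smul_c0 r hy, th_c0, th_c0, hc]

theorem nonsplit (H : Subgroup E) (h1 : H ⊓ π.ker = ⊥) : H ⊔ π.ker ≠ ⊤ := fun h2 => by
  have hl : ∀ g, ∃ e ∈ H, e.s = g := fun g => by
    obtain ⟨e, rfl⟩ := surj g
    obtain ⟨a, ha, b, hb, rfl⟩ := Subgroup.mem_sup_of_normal_right.mp (h2 ▸ Subgroup.mem_top e)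
    exact ⟨a, ha, by rw [map_mul, hb, mul_one]; rfl⟩
  have hi : ∀ {a b : E}, a ∈ H → b ∈ H → a.s = b.s → a = b := fun {a b} ha hb e =>
    mul_inv_eq_one.mp (Subgroup.mem_bot.mp (h1 ▸ ⟨H.mul_mem ha (H.inv_mem hb), (mul_inv_eq_one (a := a.s)).mpr e⟩))
  have hab : M.InL ⊤ [984474234649536612910561941405083776, 984067634256977177235326020571766176] := inL23 (by decide +kernel)
  obtain ⟨a, -, ra⟩ := hab _ (List.mem_cons_self)
  obtain ⟨b, -, rb⟩ := hab _ (List.mem_cons_of_mem _ List.mem_cons_self)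
  obtain ⟨A, hA, rfl⟩ := hl a
  obtain ⟨B, hB, rfl⟩ := hl b
  have e1 := congrArg (·.q (c0 147)) (hi (H.mul_mem hA hA) (H.mul_mem hB hB) (M.eq_of (M.R_mul ra ra) (M.R_mul rb rb) (by decide +kernel)))
  have e2 := congrArg (·.q (c0 3)) (hi (H.mul_mem hA (H.mul_mem hB hA)) hB (M.eq_of (M.R_mul ra (M.R_mul rb ra)) rb (by decide +kernel)))
  simp only [mul_q, mul_s, mul_smul] at e1 e2
  rw [smul_c0 ra (y := 913) (by decide +kernel), smul_c0 rb (y := 1) (by decide +kernel)] at e1
  rw [smul_c0 ra (y := 145) (by decide +kernel), smul_c0 rb (y := 769) (by decide +kernel)] at e2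
  have p0 := polar ra 913 147 (x' := 841) (y' := 913) (by decide +kernel) (by decide +kernel) (z := 770) (by decide) (c := 0) (by decide +kernel)
  have p1 := polar ra 769 3 (x' := 73) (y' := 145) (by decide +kernel) (by decide +kernel) (z := 770) (by decide) (c := 1) (by decide +kernel)
  have p2 := polar rb 1 147 (x' := 841) (y' := 1) (by decide +kernel) (by decide +kernel) (z := 146) (by decide) (c := 1) (by decide +kernel)
  have p3 := polar rb 145 3 (x' := 769) (y' := 73) (by decide +kernel) (by decide +kernel) (z := 146) (by decide) (c := 1) (by decide +kernel)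
  exact absurd (show (1 : ZMod 2) = 0 by linear_combination e1 + e2 - p0 - p1 - p2 - p3 + (A.q (c0 770) + B.q (c0 146) + B.q (c0 1) + B.q (c0 147) + B.q (c0 3) - 1) * two0) (by decide)

theorem exists_nonsplit : ∃ (E : Type) (_ : Group E) (_ : Finite E) (N : Subgroup E) (_ : N.Normal)
      (φ : E ⧸ N ≃* Spor.M23) (θ : (GolayPt → ZMod 2) →+ Additive N), Function.Surjective θ ∧
      (∀ w : GolayPt → ZMod 2, θ w = 0 ↔ (w ∈ golayCode ∨ w + Pi.single none 1 ∈ golayCode)) ∧
      (∀ (g : E) (w : GolayPt → ZMod 2),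
        ((θ (w ∘ ⇑(((φ (QuotientGroup.mk g) : Spor.M23) : Equiv.Perm GolayPt)⁻¹))).toMul : E) = g * ((θ w).toMul : E) * g⁻¹) ∧
      ∀ H : Subgroup E, H ⊓ N = ⊥ → H ⊔ N ≠ ⊤ :=
  ⟨E, inferInstance, inferInstance, π.ker, inferInstance, QuotientGroup.quotientKerEquivOfSurjective π surj, tm, tm_surj, tm_ker,
    tm_conj, nonsplit⟩

end Cfsg.Agent.H16.M23y
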