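import Cfsg.Agent.H16.MF2
import Cfsg.Agent.H16.NEng5
import Cfsg.Agent.H10.Comp
import Cfsg.Agent.H1.Cores

/-! Matrix groups over `𝔽₂` in the bit matrix model; extraspecial kernels. -/

set_option autoImplicit false
set_option maxRecDepth 100000

namespace Cfsg.Agent.H16

open Cfsg MulAction Matrix Mdl

section bit
variable {ι : Type} [Fintype ι] [DecidableEq ι] {n : ℕ} (e : ι ≃ Fin n)

noncomputable def bvec (x : ℕ) : ι → ZMod 2 := fun i => (get 1 x (e i) : ZMod 2)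
noncomputable def bmat (a : ℕ) : Matrix ι ι (ZMod 2) := Matrix.of fun i j => bvec e (get 32 a (e j)) i

omit [DecidableEq ι] in
theorem crd_bvec : Crd n (bvec e) := by
  have inj : ∀ x y, x < 2 ^ n → y < 2 ^ n → bvec e x = bvec e y → x = y := fun x y hx hy h =>
    eq_of_get1 hx hy fun j hj => by simpa [bvec] using congrFun h (e.symm ⟨j, hj⟩)
  refine ⟨funext fun i => by simp [bvec, get_eq], fun x y => funext fun i => ?_, inj, fun ω => ?_⟩
  · simp only [bvec, get_xor, Pi.add_apply]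
    have h1 := get_lt 1 x (e i)
    have h3 := get_lt 1 y (e i)
    generalize get 1 x (e i) = s at h1
    generalize get 1 y (e i) = t at h3
    interval_cases s <;> interval_cases t <;> rfl
  · obtain ⟨x, h⟩ := (Function.Injective.bijective_of_nat_card_le (f := fun x : Fin (2 ^ n) => bvec e x)
      (fun x y h => Fin.ext (inj _ _ x.2 y.2 h)) (by simp [Nat.card_fun, Fintype.card_congr e])).2 ω
    exact ⟨x, x.2, h⟩

variable {H : Type*} [Group H] (τ : H →* Matrix ι ι (ZMod 2))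

/-- the action on column vectors -/
def permOf : H →* Equiv.Perm (ι → ZMod 2) := MonoidHom.toHomPerm
  { toFun g := fun x => τ g *ᵥ x
    map_one' := funext fun x => by rw [map_one, one_mulVec]; rfl
    map_mul' g h := funext fun x => by rw [map_mul, ← mulVec_mulVec]; rfl }

theorem permOf_inj (h : Function.Injective τ) : Function.Injective (permOf τ) := fun g k q =>
  h (Matrix.ext_of_mulVec_single fun i => congrArg (fun z : Equiv.Perm _ => z (Pi.single i 1)) q)

variable {mul ap : ℕ → ℕ → ℕ} {one : ℕ} (b : B2 n mul ap one)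

theorem R_permOf {h : H} {a : ℕ} (ha : EB n a) (q : τ h = bmat e a) : (b.mdl (crd_bvec e)).R a (permOf τ h) :=
  b.R_of _ (τ h).mulVecLin.toAddMonoidHom (fun _ => rfl) ha fun k hk => by
    have : bvec e (2 ^ k) = Pi.single (e.symm ⟨k, hk⟩) 1 := funext fun i => by
      rw [bvec, get1_pow, Pi.single_apply]
      simp [Equiv.eq_symm_apply, Fin.ext_iff]
    rw [this, q]
    funext i
    simp [bmat]

theorem inL_permOf {L : Subgroup H} {S : List ℕ} (h : ∀ a ∈ S, ebB n a = true ∧ ∃ g ∈ L, τ g = bmat e a) :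
    (b.mdl (crd_bvec e)).InL (L.map (permOf τ)) S := fun a ha =>
  let ⟨h1, g, hg, q⟩ := h a ha; ⟨_, ⟨g, hg, rfl⟩, R_permOf e τ b (eb_of h1) q⟩

include b in
theorem bmat_mulVec {a x : ℕ} (ha : EB n a) (hx : x < 2 ^ n) : bmat e a *ᵥ bvec e x = bvec e (ap a x) := by
  rw [b.apS_eq a hx]
  refine map_vec (crd_bvec e).zero (crd_bvec e).xor (crd_bvec e).zero (crd_bvec e).xor (bmat e a).mulVecLin (fun k hk => ?_) hx
  have : bvec e (2 ^ k) = Pi.single (e.symm ⟨k, hk⟩) 1 := funext fun i => by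
    rw [bvec, get1_pow, Pi.single_apply]
    simp [Equiv.eq_symm_apply, Fin.ext_iff]
  rw [this]
  funext i
  simp [bmat]

/-- isometries of a function on the vector space -/
theorem inL_isometry (Q : (ι → ZMod 2) → ZMod 2) {S : List (ℕ × ℕ)}
    (h : ∀ p ∈ S, ebB n p.1 = true ∧ bmat e p.1 * bmat e p.2 = 1 ∧ bmat e p.2 * bmat e p.1 = 1 ∧
      ∀ x < 2 ^ n, Q (bvec e (ap p.1 x)) = Q (bvec e x)) :
    (b.mdl (crd_bvec e)).InL ((⊤ : Subgroup (isometryGroup (ZMod 2) Q)).map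
      (permOf ((Units.coeHom _).comp (isometryGroup (ZMod 2) Q).subtype))) (S.map Prod.fst) := by
  refine inL_permOf e _ b fun a ha => ?_
  obtain ⟨p, hp, rfl⟩ := List.mem_map.mp ha
  obtain ⟨h1, h2, h3, h4⟩ := h p hp
  refine ⟨h1, ⟨⟨_, _, h2, h3⟩, fun u _ => ?_⟩, trivial, rfl⟩
  obtain ⟨x, hx, rfl⟩ := (crd_bvec e).surj u
  exact (congrArg Q (bmat_mulVec e b (eb_of h1) hx)).trans (h4 x hx)

end bit

section abs
variable {G : Type*} [Group G]

theorem es_quot {C Q : Subgroup G} [Finite C] {t : G} (h : ESData Q t) (hQ : Q ≤ C) {k : ℕ} (hc : Nat.card Q = 2 ^ k)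
    {A : Type*} [Group A] [IsSimpleGroup A] (θ : C →* A) (hs : Function.Surjective θ) (hk : ∀ x : C, x.1 ∈ Q → θ x = 1)
    (hC : Nat.card C = 2 ^ k * Nat.card A) (h6 : 3 ∣ Nat.card A) (hd : ∃ d ∈ C, ∃ x ∈ Q, d * d * x ≠ x * (d * d))
    {D : Type*} [Group D] (f : D ≃* C) : (∀ x, x ∈ pCore 2 D ↔ (f x : G) ∈ Q) ∧ IsExtraspecial 2 (pCore 2 D) ∧
      Nat.card (pCore 2 D) = 2 ^ k ∧ Nonempty (D ⧸ pCore 2 D ≃* A) ∧ generalizedFittingSubgroup D = pCore 2 D := by
  have : Finite D := Finite.of_equiv _ f.symm.toEquiv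
  have : Finite A := Finite.of_surjective θ hs
  have : Fact (Nat.Prime 2) := ⟨Nat.prime_two⟩
  let η := θ.comp f.toMonoidHom
  have hη : Function.Surjective η := hs.comp f.surjective
  have h1 : Nat.card η.ker = 2 ^ k := card_ker_of_surj hη ((Nat.card_congr f.toEquiv).trans hC)
  let ψ := C.subtype.comp f.toMonoidHom
  have i1 : Function.Injective ψ := Subtype.val_injective.comp f.injective
  have i2 : ∀ y ∈ Q, ∃ x, ψ x = y := fun y hy => ⟨f.symm ⟨y, hQ hy⟩, by simp [ψ]⟩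
  have h2 : Nat.card (Q.comap ψ) = 2 ^ k := hc ▸ Nat.card_congr (Equiv.ofBijective (fun x => ⟨ψ x, x.2⟩)
    ⟨fun x y e => Subtype.ext (i1 (congrArg (fun z : Q => (z : G)) e)), fun y =>
      let ⟨x, e⟩ := i2 y y.2; ⟨⟨x, show ψ x ∈ Q from e ▸ y.2⟩, Subtype.ext e⟩⟩)
  have h3 : Q.comap ψ = η.ker := Subgroup.eq_of_le_of_card_ge (fun x hx => hk _ hx) (h1.trans h2.symm).le
  obtain ⟨d, hd, x, hx, hdx⟩ := hd
  obtain ⟨x, rfl⟩ := i2 x hx
  obtain ⟨d, rfl⟩ : ∃ d', ψ d' = d := ⟨f.symm ⟨d, hd⟩, by simp [ψ]⟩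
  have key : ∀ N : Subgroup D, N.Normal → N ≤ η.ker ∨ ∀ y, ∃ q ∈ η.ker, ∃ z ∈ N, y = q * z := fun N hN =>
    ((hN.map η hη).eq_bot_or_eq_top).imp (Subgroup.map_eq_bot_iff _).mp fun e y => by
      obtain ⟨z, hz, e⟩ := (e.ge (Subgroup.mem_top (η y)) : η y ∈ N.map η)
      exact ⟨y * z⁻¹, by rw [MonoidHom.mem_ker, map_mul, map_inv, e, mul_inv_cancel], z, hz, by group⟩
  have h5 : Subgroup.centralizer (η.ker : Set D) ≤ η.ker := (key _ inferInstance).resolve_right fun e => hdx (by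
    obtain ⟨q, hq, z, hz, rfl⟩ := e d
    have c1 : Commute (ψ q) (ψ z) := (show Commute q z from hz q hq).map ψ
    have c2 : Commute (ψ x) (ψ z) := (show Commute x z from hz x (h3.le hx)).map ψ
    have c3 : Commute (ψ q * ψ q) (ψ x) := by
      rcases h.sq _ (h3.ge hq) with e | e <;> rw [e]
      exacts [Commute.one_left _, h.comm _ hx]
    rw [map_mul, show ψ q * ψ z * (ψ q * ψ z) = ψ q * ψ q * (ψ z * ψ z) by
      rw [mul_assoc, ← mul_assoc (ψ z), ← c1.eq]; group]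
    exact (c3.mul_left (c2.symm.mul_left c2.symm)).eq)
  have h4 : pCore 2 D = η.ker := by
    refine le_antisymm ((key _ inferInstance).resolve_right fun e => ?_) (H1.le_pCore (IsPGroup.of_card h1))
    have hA : IsPGroup 2 A := ((H1.isPGroup_pCore 2 D).of_surjective (η.comp (pCore 2 D).subtype) fun y => by
      obtain ⟨y, rfl⟩ := hη y
      obtain ⟨q, hq, z, hz, rfl⟩ := e y
      exact ⟨⟨z, hz⟩, by simp [map_mul, show η q = 1 from hq]⟩)
    obtain ⟨j, hj⟩ := hA.exists_card_eq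
    exact absurd (Nat.prime_three.dvd_of_dvd_pow (hj ▸ h6)) (by norm_num)
  refine ⟨fun x => by rw [h4, ← h3]; rfl, ?_, h4 ▸ h1, ⟨(QuotientGroup.quotientMulEquivOfEq h4).trans
    (QuotientGroup.quotientKerEquivOfSurjective η hη)⟩, H10.fstar_eq_pCore_iff.mpr (h4 ▸ h5)⟩
  rw [h4, ← h3]
  exact h.of_hom (ψ.comp (Q.comap ψ).subtype) (i1.comp Subtype.val_injective) (fun x => x.2)
    fun y hy => let ⟨x, e⟩ := i2 y hy; ⟨⟨x, show ψ x ∈ Q from e ▸ hy⟩, e⟩

end abs

namespace N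
variable {o o' : Ops} {G Ω H Ω' : Type*} [Group G] [MulAction G Ω] [Group H] [MulAction H Ω'] {M : Mdl o G Ω}
  {M' : Mdl o' H Ω'} {K : Subgroup G} {L : Subgroup H}

theorem ker_of_sift {θ : K →* L} {f : ℕ → Bool}
    (h : ∀ c (g : K) h, M.R (lo2 o.W c) g → M'.R (Nat.shiftRight c o.W) h → f c = true → θ g = h) {S : List ℕ}
    (hS : M.InL K S) (e : allL S (fun s => force (pr2 o.W s o'.one) fun c =>
      andB (andB (Nat.beq (lo2 o.W c) s) (Nat.beq (Nat.shiftRight c o.W) o'.one)) (f c)) = true) :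
    ∀ x : K, x.1 ∈ M.clo S → θ x = 1 := fun x hx => by
  obtain ⟨y, hy, q⟩ := (show M.clo S ≤ θ.ker.map K.subtype from clo_le fun s hs => by
    obtain ⟨g, hg, r⟩ := hS s hs
    have := allL_iff.mp e s hs
    simp only [force_eq, andB_iff, Nat.beq_eq] at this
    exact ⟨g, ⟨⟨g, hg⟩, Subtype.ext (h _ _ 1 (this.1.1.symm ▸ r) (this.1.2.symm ▸ M'.R_one) this.2), rfl⟩, r⟩) hx
  rwa [← Subtype.ext q]

end N

noncomputable def mul3M : ℕ := (nat_lit 0x10000000100000001)
noncomputable def mul3Sp : ℕ := (nat_lit 0x4000000080000001)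
noncomputable def mul3One : ℕ := (nat_lit 0x40000000200000001)
noncomputable def mul3 (a b : ℕ) : ℕ :=
  (Nat.xor (Nat.xor (Nat.xor (nat_lit 0) (Nat.mul (Nat.land (Nat.shiftRight a (nat_lit 0)) (nat_lit 4294967295)) (Nat.land (Nat.shiftRight b (nat_lit 0)) mul3M))) (Nat.mul (Nat.land (Nat.shiftRight a (nat_lit 32)) (nat_lit 4294967295)) (Nat.land (Nat.shiftRight b (nat_lit 1)) mul3M))) (Nat.mul (Nat.land (Nat.shiftRight a (nat_lit 64)) (nat_lit 4294967295)) (Nat.land (Nat.shiftRight b (nat_lit 2)) mul3M)))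
noncomputable def mul3Ap (a x : ℕ) : ℕ := apB mul3M mul3Sp a x
theorem mul3_eq (a b : ℕ) : mul3 a b = mulB 3 (dig 32 3 fun _ => 1) a b := by
  rw [show (dig 32 3 fun _ => 1) = mul3M by decide +kernel]; delta mul3 mulB xs; rfl
theorem mul3Ap_eq (a x : ℕ) : mul3Ap a x = apB (dig 32 3 fun _ => 1) (dig 31 3 fun _ => 1) a x := by
  rw [show (dig 32 3 fun _ => 1) = mul3M by decide +kernel, show (dig 31 3 fun _ => 1) = mul3Sp by decide +kernel]; rfl
theorem bb3 : B2 3 mul3 mul3Ap mul3One := ⟨by decide, mul3_eq, mul3Ap_eq, by decide +kernel⟩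
noncomputable def oo3 : Ops := f2Ops mul3 mul3Ap mul3One 3

noncomputable def mul5M : ℕ := (nat_lit 0x100000001000000010000000100000001)
noncomputable def mul5Sp : ℕ := (nat_lit 0x10000000200000004000000080000001)
noncomputable def mul5One : ℕ := (nat_lit 0x1000000008000000040000000200000001)
noncomputable def mul5 (a b : ℕ) : ℕ :=
  (Nat.xor (Nat.xor (Nat.xor (Nat.xor (Nat.xor (nat_lit 0) (Nat.mul (Nat.land (Nat.shiftRight a (nat_lit 0)) (nat_lit 4294967295)) (Nat.land (Nat.shiftRight b (nat_lit 0)) mul5M))) (Nat.mul (Nat.land (Nat.shiftRight a (nat_lit 32)) (nat_lit 4294967295)) (Nat.land (Nat.shiftRight b (nat_lit 1)) mul5M))) (Nat.mul (Nat.land (Nat.shiftRight a (nat_lit 64)) (nat_lit 4294967295)) (Nat.land (Nat.shiftRight b (nat_lit 2)) mul5M))) (Nat.mul (Nat.land (Nat.shiftRight a (nat_lit 96)) (nat_lit 4294967295)) (Nat.land (Nat.shiftRight b (nat_lit 3)) mul5M))) (Nat.mul (Nat.land (Nat.shiftRight a (nat_lit 128)) (nat_lit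 4294967295)) (Nat.land (Nat.shiftRight b (nat_lit 4)) mul5M)))
noncomputable def mul5Ap (a x : ℕ) : ℕ := apB mul5M mul5Sp a x
theorem mul5_eq (a b : ℕ) : mul5 a b = mulB 5 (dig 32 5 fun _ => 1) a b := by
  rw [show (dig 32 5 fun _ => 1) = mul5M by decide +kernel]; delta mul5 mulB xs; rfl
theorem mul5Ap_eq (a x : ℕ) : mul5Ap a x = apB (dig 32 5 fun _ => 1) (dig 31 5 fun _ => 1) a x := by
  rw [show (dig 32 5 fun _ => 1) = mul5M by decide +kernel, show (dig 31 5 fun _ => 1) = mul5Sp by decide +kernel]; rfl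
theorem bb5 : B2 5 mul5 mul5Ap mul5One := ⟨by decide, mul5_eq, mul5Ap_eq, by decide +kernel⟩
noncomputable def oo5 : Ops := f2Ops mul5 mul5Ap mul5One 5

noncomputable def mul6M : ℕ := (nat_lit 0x10000000100000001000000010000000100000001)
noncomputable def mul6Sp : ℕ := (nat_lit 0x800000010000000200000004000000080000001)
noncomputable def mul6One : ℕ := (nat_lit 0x200000001000000008000000040000000200000001)
noncomputable def mul6 (a b : ℕ) : ℕ :=
  (Nat.xor (Nat.xor (Nat.xor (Nat.xor (Nat.xor (Nat.xor (nat_lit 0) (Nat.mul (Nat.land (Nat.shiftRight a (nat_lit 0)) (nat_lit 4294967295)) (Nat.land (Nat.shiftRight b (nat_lit 0)) mul6M))) (Nat.mul (Nat.land (Nat.shiftRight a (nat_lit 32)) (nat_lit 4294967295)) (Nat.land (Nat.shiftRight b (nat_lit 1)) mul6M))) (Nat.mul (Nat.land (Nat.shiftRight a (nat_lit 64)) (nat_lit 4294967295)) (Nat.land (Nat.shiftRight b (nat_lit 2)) mul6M))) (Nat.mul (Nat.land (Nat.shiftRight a (nat_lit 96)) (nat_lit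 4294967295)) (Nat.land (Nat.shiftRight b (nat_lit 3)) mul6M))) (Nat.mul (Nat.land (Nat.shiftRight a (nat_lit 128)) (nat_lit 4294967295)) (Nat.land (Nat.shiftRight b (nat_lit 4)) mul6M))) (Nat.mul (Nat.land (Nat.shiftRight a (nat_lit 160)) (nat_lit 4294967295)) (Nat.land (Nat.shiftRight b (nat_lit 5)) mul6M)))
noncomputable def mul6Ap (a x : ℕ) : ℕ := apB mul6M mul6Sp a x
theorem mul6_eq (a b : ℕ) : mul6 a b = mulB 6 (dig 32 6 fun _ => 1) a b := by
  rw [show (dig 32 6 fun _ => 1) = mul6M by decide +kernel]; delta mul6 mulB xs; rfl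
theorem mul6Ap_eq (a x : ℕ) : mul6Ap a x = apB (dig 32 6 fun _ => 1) (dig 31 6 fun _ => 1) a x := by
  rw [show (dig 32 6 fun _ => 1) = mul6M by decide +kernel, show (dig 31 6 fun _ => 1) = mul6Sp by decide +kernel]; rfl
theorem bb6 : B2 6 mul6 mul6Ap mul6One := ⟨by decide, mul6_eq, mul6Ap_eq, by decide +kernel⟩
noncomputable def oo6 : Ops := f2Ops mul6 mul6Ap mul6One 6

noncomputable def mul8M : ℕ := (nat_lit 0x100000001000000010000000100000001000000010000000100000001)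
noncomputable def mul8Sp : ℕ := (nat_lit 0x2000000040000000800000010000000200000004000000080000001)
noncomputable def mul8One : ℕ := (nat_lit 0x8000000040000000200000001000000008000000040000000200000001)
noncomputable def mul8 (a b : ℕ) : ℕ :=
  (Nat.xor (Nat.xor (Nat.xor (Nat.xor (Nat.xor (Nat.xor (Nat.xor (Nat.xor (nat_lit 0) (Nat.mul (Nat.land (Nat.shiftRight a (nat_lit 0)) (nat_lit 4294967295)) (Nat.land (Nat.shiftRight b (nat_lit 0)) mul8M))) (Nat.mul (Nat.land (Nat.shiftRight a (nat_lit 32)) (nat_lit 4294967295)) (Nat.land (Nat.shiftRight b (nat_lit 1)) mul8M))) (Nat.mul (Nat.land (Nat.shiftRight a (nat_lit 64)) (nat_lit 4294967295)) (Nat.land (Nat.shiftRight b (nat_lit 2)) mul8M))) (Nat.mul (Nat.land (Nat.shiftRight a (nat_lit 96)) (nat_lit 4294967295)) (Nat.land (Nat.shiftRight b (nat_lit 3)) mul8M))) (Nat.mul (Nat.land (Nat.shiftRight a (nat_lit 128)) (nat_lit 4294967295)) (Nat.land (Nat.shiftRight b (nat_lit 4)) mul8M)))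 (Nat.mul (Nat.land (Nat.shiftRight a (nat_lit 160)) (nat_lit 4294967295)) (Nat.land (Nat.shiftRight b (nat_lit 5)) mul8M))) (Nat.mul (Nat.land (Nat.shiftRight a (nat_lit 192)) (nat_lit 4294967295)) (Nat.land (Nat.shiftRight b (nat_lit 6)) mul8M))) (Nat.mul (Nat.land (Nat.shiftRight a (nat_lit 224)) (nat_lit 4294967295)) (Nat.land (Nat.shiftRight b (nat_lit 7)) mul8M)))
noncomputable def mul8Ap (a x : ℕ) : ℕ := apB mul8M mul8Sp a x
theorem mul8_eq (a b : ℕ) : mul8 a b = mulB 8 (dig 32 8 fun _ => 1) a b := by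
  rw [show (dig 32 8 fun _ => 1) = mul8M by decide +kernel]; delta mul8 mulB xs; rfl
theorem mul8Ap_eq (a x : ℕ) : mul8Ap a x = apB (dig 32 8 fun _ => 1) (dig 31 8 fun _ => 1) a x := by
  rw [show (dig 32 8 fun _ => 1) = mul8M by decide +kernel, show (dig 31 8 fun _ => 1) = mul8Sp by decide +kernel]; rfl
theorem bb8 : B2 8 mul8 mul8Ap mul8One := ⟨by decide, mul8_eq, mul8Ap_eq, by decide +kernel⟩
noncomputable def oo8 : Ops := f2Ops mul8 mul8Ap mul8One 8

end Cfsg.Agent.H16
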