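import Cfsg.Agent.H16.OutEng
import Cfsg.Agent.H16.M24d

/-! Outer automorphism groups of the Mathieu groups. -/

set_option autoImplicit false
set_option maxRecDepth 100000

namespace Cfsg.Agent.H16

open Cfsg MulAction

theorem out11_gen : Gen gpt 24 5 K11 [964690555261758787774140793337858560, 978085197702610304988427196282709184, 430237625612628830152200315759673376] :=
  Gen.of_slp five_le gpt_inj [1, 2, 3, 4] (by decide) _ (inK_of_fixAll (A := [sqD, bit 0]) (K := K11) (by decide +kernel) fun _ h => ⟨h _ (by simp), fix_bit h (by norm_num) (by simp)⟩) [[0, 0, 0, 1, 0], [3, 3, 2], [2, 3, 3, 4, 4], [5, 5, 4], [5, 6, 2, 3, 0, 4, 0, 6]]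
    (by rw [card_K11]; exact Nat.le_of_ble_eq_true (by decide +kernel))

theorem autBy11 : AutBy K11 K11 :=
  autBy_of mulOk24 gpt_inj (faith_M24 _) le_rfl (fun _ hk _ hx => Subgroup.mul_mem _ (Subgroup.mul_mem _ hk hx) (Subgroup.inv_mem _ hk)) (p := 11) (m := 720) (by norm_num) card_K11 (by norm_num)
    out11_gen (fun _ _ ra => (cent_gen1 mulOk24 gpt_inj (faith_M24 ⊤) (B := [1, 16, 9, 12]) (by decide) le_top
      (SK := [712951677269790460590282110239410688, 719363157884086302949923213229047840, 319555039706231678938341312928260128, 479787297846918708549446977384100896, 850694615915683668783062293649199136]) (inK_of_fixAll (A := [sqD, bit 0]) (K := K11) (by decide +kernel) fun _ h => ⟨h _ (by simp), fix_bit h (by norm_num) (by simp)⟩) card_K11.le trivial ra [] (S := [964690555261758787774140793337858560]) (by decide +kernel)).1.le)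
    (B := [1, 6, 3, 8]) (SC := [983360248180967470000909519900676352]) (by decide) (M := 5)
    (fun _ _ rb => (cent_gen1 mulOk24 gpt_inj (faith_M24 ⊤) (B := [1, 6, 3, 8]) (by decide) le_top
      (SK := [712951677269790460590282110239410688, 719363157884086302949923213229047840, 927412748617160840094224286828573728, 609265497736651748360248026642628640, 313626468097149398198142802389895200]) (inK_of_fixAll (A := [sqD, bit 0]) (K := K11) (by decide +kernel) fun _ h => ⟨h _ (by simp), fix_bit h (by norm_num) (by simp)⟩) card_K11.le trivial rb [] (by decide +kernel)).imp le_of_eq And.left)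
    (U := [984818244535754528103549039458486304, 978085197702610304988427196282709184, 982256005910031220022336928604405856, 983360248180967470000909519900676352, 975686882078524094448659470877929888]) (V := [984818244535754528103549039458486304]) (E := [1, 10]) ((inK_of_fixAll (A := [sqD, bit 0]) (K := K11) (by decide +kernel) fun _ h => ⟨h _ (by simp), fix_bit h (by norm_num) (by simp)⟩)) ((inK_of_fixAll (A := [sqD, bit 0]) (K := K11) (by decide +kernel) fun _ h => ⟨h _ (by simp), fix_bit h (by norm_num) (by simp)⟩)) (t := 4) (s := 2)
    (by decide +kernel) (W := [(11, [0, 2]), (11, [2, 0, 0])]) (by decide +kernel)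

theorem card_out11 : Nat.card (Out K11) = 1 :=
  card_out_of_autBy le_rfl (fun _ hk _ hx => Subgroup.mul_mem _ (Subgroup.mul_mem _ hk hx) (Subgroup.inv_mem _ hk)) autBy11 (cent_triv mulOk24 gpt_inj (faith_M24 _) le_rfl (B := [1, 16, 9, 12]) (by decide)
    (SL := [712951677269790460590282110239410688, 719363157884086302949923213229047840, 319555039706231678938341312928260128, 479787297846918708549446977384100896, 850694615915683668783062293649199136]) ((inK_of_fixAll (A := [sqD, bit 0]) (K := K11) (by decide +kernel) fun _ h => ⟨h _ (by simp), fix_bit h (by norm_num) (by simp)⟩)) card_K11.le out11_gen.1 (by decide +kernel)) (by rw [card_K11])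

theorem out12_gen : Gen gpt 24 5 K12 [236880362044014233043040246610315651, 859627757647776519602969297958347040, 886229083095936183878929427312555142] :=
  Gen.of_slp five_le gpt_inj [0, 1, 2, 3, 4] (by decide) _ (inK_of_fixAll (A := [sqD]) (K := K12) (by decide +kernel) fun _ h => h _ (by simp)) [[0, 2, 0, 0, 0], [1, 3, 3, 3, 1, 1], [4, 4, 3, 1, 3, 3], [4, 4, 3, 4, 1, 4], [5, 4, 4, 6, 3, 4, 2, 0, 2], [5, 5, 4, 4, 5, 6, 4, 6, 6, 6, 5]]
    (by rw [card_K12]; exact Nat.le_of_ble_eq_true (by decide +kernel))

theorem autBy12 : AutBy L12 K12 :=
  autBy_of mulOk24 gpt_inj (faith_M24 _) K12_le_L12 normBy_L12 (p := 11) (m := 8640) (by norm_num) card_K12 (by norm_num)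
    out12_gen (fun _ _ ra => (cent_gen1 mulOk24 gpt_inj (faith_M24 ⊤) (B := [0, 3, 9, 8, 4]) (by decide) le_top
      (SK := [237079003219106538542854497105129987, 649938813600991343815391930308837760, 435164862652805219953057134465356032, 226297792120466314830782935684202752, 228004015064615536840658319081320512, 466801838473431040550705701691962560]) (inK_of_fixAll (A := [sqD]) (K := K12) (by decide +kernel) fun _ h => h _ (by simp)) card_K12.le trivial ra [] (S := [236880362044014233043040246610315651]) (by decide +kernel)).1.le)
    (B := [1, 9, 13, 18, 12]) (SC := [886229083095936183878929427312555142, 610563438368619792137840409969167776]) (by decide) (M := 10)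
    (fun _ _ rb => (cent_gen1 mulOk24 gpt_inj (faith_M24 ⊤) (B := [1, 9, 13, 18, 12]) (by decide) le_top
      (SK := [237079003219106538542854497105129987, 850653333787558032319640478064672804, 481876238748206372468804120675139628, 629868135236563288237150413812926502, 721005735214176274051958551700832304, 940589994232107550057324408558062628]) (inK_of_fixAll (A := [sqD]) (K := K12) (by decide +kernel) fun _ h => h _ (by simp)) card_K12.le trivial rb [] (by decide +kernel)).imp le_of_eq And.left)
    (U := [984818244535754528103549039458486304, 859627757647776519602969297958347040, 610563438368619792137840409969167776, 734937481456498992438466128440791616, 818425073550399362854339753039643008, 382299393102459539339299783040999018, 547891643544122287159238924076297962, 755819462143141886942446169739662986, 506372647850722715425489264045178314, 49500989130692709835442685272774186]) (V := [984818244535754528103549039458486304]) (E := [1]) (inK_L12 (by decide +kernel)) (inK_L12 (by decide +kernel)) (t := 4) (s := 1)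
    (by decide +kernel) (W := [(6, [2, 0, 1]), (2, [2])]) (by decide +kernel)

theorem card_out12 : Nat.card (Out K12) = 2 :=
  card_out_of_autBy K12_le_L12 normBy_L12 autBy12 (cent_triv mulOk24 gpt_inj (faith_M24 _) K12_le_L12 (B := [0, 3, 9, 8, 4]) (by decide)
    (SL := [665349485815931330933303830317814511, 601930637354377878261354464644510752, 970539263601378629408230031572961856, 227598475809654469031950695073428512, 228004015064615536840658319081320512, 466801838473431040550705701691962560]) (inK_L12 (by decide +kernel)) card_L12.le out12_gen.1 (by decide +kernel)) (by rw [card_L12, card_K12])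

theorem out22_gen : Gen gpt 24 5 K22 [957066265438570870345079409109081152, 971147168829404602618930238154332224, 984408117591118677617295255290676608] :=
  Gen.of_slp five_le gpt_inj [1, 2, 3, 4, 5] (by decide) _ (inK_of_fixAll (A := [bit 23, bit 0]) (K := K22) (by decide +kernel) fun _ h => ⟨fix_bit h (by norm_num) (by simp), fix_bit h (by norm_num) (by simp)⟩) [[2, 2, 2, 2, 2, 0], [3, 3, 3, 3, 2, 1, 0, 1, 0], [3, 3, 4, 3, 0, 0, 1, 2, 3, 4, 0], [4, 5, 5, 4, 5], [5, 6, 6, 1, 3, 0, 1], [4, 3, 3, 3, 4, 3, 3, 4, 4], [7, 8, 4, 4, 8, 8, 4]]
    (by rw [card_K22]; exact Nat.le_of_ble_eq_true (by decide +kernel))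

theorem autBy22 : AutBy L22 K22 :=
  autBy_of mulOk24 gpt_inj (faith_M24 _) K22_le_L22 normBy_L22 (p := 11) (m := 40320) (by norm_num) card_K22 (by norm_num)
    out22_gen (fun _ _ ra => (cent_gen1 mulOk24 gpt_inj (faith_M24 ⊤) (B := [1, 2, 7, 12, 20]) (by decide) le_top
      (SK := [982036579614997150100699101189490976, 959745208369777543236338611130046496, 960723930279081571572176547144665120, 975639943687438487958887481638160416, 976944354185238578474546788649273376, 962660455969611261303912270539327520]) (inK_of_fixAll (A := [bit 23, bit 0]) (K := K22) (by decide +kernel) fun _ h => ⟨fix_bit h (by norm_num) (by simp), fix_bit h (by norm_num) (by simp)⟩) card_K22.le trivial ra [] (S := [957066265438570870345079409109081152]) (by decide +kernel)).1.le)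
    (B := [1, 2, 22, 12, 19]) (SC := [958410257541289225742889782695495264]) (by decide) (M := 5)
    (fun _ _ rb => (cent_gen1 mulOk24 gpt_inj (faith_M24 ⊤) (B := [1, 2, 22, 12, 19]) (by decide) le_top
      (SK := [982036579614997150100699101189490976, 959745208369777543236338611130046496, 975358993284422005081894965507426336, 984534996141977609297800625156032544, 984086718633631763621164114742052896, 984074832717749741165741345035651104]) (inK_of_fixAll (A := [bit 23, bit 0]) (K := K22) (by decide +kernel) fun _ h => ⟨fix_bit h (by norm_num) (by simp), fix_bit h (by norm_num) (by simp)⟩) card_K22.le trivial rb [] (by decide +kernel)).imp le_of_eq And.left)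
    (U := [984818244535754528103549039458486304, 971147168829404602618930238154332224, 980436566904277499990572953033454272, 957153151713659529070622137888558464, 958410257541289225742889782695495264, 28162722898819736640521771056023703, 5702474992103377628641383078366519, 12457534259977993607500573811686775, 14339132602606618862789090387147095, 13079739838182827580092184220050103]) (V := [984818244535754528103549039458486304]) (E := [1]) (inK_L22 (by decide +kernel)) (inK_L22 (by decide +kernel)) (t := 9) (s := 2)
    (by decide +kernel) (W := [(7, [0, 2]), (11, [2, 0, 2])]) (by decide +kernel)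

theorem card_out22 : Nat.card (Out K22) = 2 :=
  card_out_of_autBy K22_le_L22 normBy_L22 autBy22 (cent_triv mulOk24 gpt_inj (faith_M24 _) K22_le_L22 (B := [1, 2, 7, 12, 20, 16]) (by decide)
    (SL := [22209722065409132058472680668828087, 21563612534784945301731306929037367, 977882756760545762751104706800191520, 975726649136091593640438789241702432, 967327268362747623955654694630721568, 7287309987501919540748045868599351]) (inK_L22 (by decide +kernel)) card_L22.le out22_gen.1 (by decide +kernel)) (by rw [card_L22, card_K22])

theorem out23_gen : Gen gpt 24 5 K23 [963984157714120224967594896321347954, 978913209801076897726088978857861814, 978800724622023530833897092254120079] :=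
  Gen.of_slp five_le gpt_inj [0, 1, 2, 3, 4, 5] (by decide) _ (inK_of_fixAll (A := [bit 23]) (K := K23) (by decide +kernel) fun _ h => fix_bit h (by norm_num) (by simp)) [[1, 1, 2, 1, 0], [2, 2, 1], [4, 3, 3, 0, 3, 2], [3, 3, 4, 4, 4, 5, 5], [5, 5, 5, 6, 6, 5], [6, 7, 6, 5, 7], [8, 7, 8, 8, 6, 8, 7, 6, 8], [8, 9, 7, 8, 7, 7, 8], [10, 9, 8, 7, 3, 4, 9, 1, 5, 0, 1, 0]]
    (by rw [card_K23]; exact Nat.le_of_ble_eq_true (by decide +kernel))

theorem autBy23 : AutBy K23 K23 :=
  autBy_of mulOk24 gpt_inj (faith_M24 _) le_rfl (fun _ hk _ hx => Subgroup.mul_mem _ (Subgroup.mul_mem _ hk hx) (Subgroup.inv_mem _ hk)) (p := 23) (m := 443520) (by norm_num) card_K23 (by norm_num)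
    out23_gen (fun _ _ ra => (cent_gen1 mulOk24 gpt_inj (faith_M24 ⊤) (B := [0, 18, 9, 8, 15, 12]) (by decide) le_top
      (SK := [978347796782033585691153034795799987, 961407026458458965936753723089107328, 960699567638147845623521300362352256, 965267308857428240414536930937047296, 969706106087039609779851398163680448, 963969234455790075201514721765950816, 976948391829363915455185045629131168]) (inK_of_fixAll (A := [bit 23]) (K := K23) (by decide +kernel) fun _ h => fix_bit h (by norm_num) (by simp)) card_K23.le trivial ra [] (S := [963984157714120224967594896321347954]) (by decide +kernel)).1.le)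
    (B := [0, 22, 18, 17, 15, 16]) (SC := [955427413832040585705834209386844356]) (by decide) (M := 11)
    (fun _ _ rb => (cent_gen1 mulOk24 gpt_inj (faith_M24 ⊤) (B := [0, 22, 18, 17, 15, 16]) (by decide) le_top
      (SK := [978347796782033585691153034795799987, 961407026458458965936753723089107328, 984068536772418443592345270608019520, 984372586116778672715158917473278368, 984649647149968121315896139822762272, 983991419431302060320892116034627232, 984575449829497919087702945206734048]) (inK_of_fixAll (A := [bit 23]) (K := K23) (by decide +kernel) fun _ h => fix_bit h (by norm_num) (by simp)) card_K23.le trivial rb [] (by decide +kernel)).imp le_of_eq And.left)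
    (U := [984818244535754528103549039458486304, 978913209801076897726088978857861814, 977460598616720471311581649054017682, 975759055868173389642042835927845905, 976906426961537989406224984250330831, 965173170396925010786408121977387600, 963797407547459211045660932633368103, 957336890005074762842439663197038054, 982937627270096080793445694833865217, 960833837336378180832880331098197237, 955427413832040585705834209386844356]) (V := [984818244535754528103549039458486304]) (E := [1, 22]) ((inK_of_fixAll (A := [bit 23]) (K := K23) (by decide +kernel) fun _ h => fix_bit h (by norm_num) (by simp))) ((inK_of_fixAll (A := [bit 23]) (K := K23) (by decide +kernel) fun _ h => fix_bit h (by norm_num) (by simp))) (t := 16) (s := 9)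
    (by decide +kernel) (W := [(4, [0, 2])]) (by decide +kernel)

theorem card_out23 : Nat.card (Out K23) = 1 :=
  card_out_of_autBy le_rfl (fun _ hk _ hx => Subgroup.mul_mem _ (Subgroup.mul_mem _ hk hx) (Subgroup.inv_mem _ hk)) autBy23 (cent_triv mulOk24 gpt_inj (faith_M24 _) le_rfl (B := [0, 18, 9, 8, 15, 12]) (by decide)
    (SL := [978347796782033585691153034795799987, 961407026458458965936753723089107328, 960699567638147845623521300362352256, 965267308857428240414536930937047296, 969706106087039609779851398163680448, 963969234455790075201514721765950816, 976948391829363915455185045629131168]) ((inK_of_fixAll (A := [bit 23]) (K := K23) (by decide +kernel) fun _ h => fix_bit h (by norm_num) (by simp))) card_K23.le out23_gen.1 (by decide +kernel)) (by rw [card_K23])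

theorem out24_gen : Gen gpt 24 5 (⊤ : Subgroup M24) [192786286039542568186584632028083671, 13316754600397776103960819365597589, 190184496973634974653171086214344012] :=
  Gen.of_slp five_le gpt_inj [0, 1, 2, 3, 4, 5, 6] (by decide) _ (inK_of_fixAll (A := []) (K := (⊤ : Subgroup M24)) (by decide +kernel) fun _ _ => trivial) [[1, 0], [2, 2, 1], [4, 3, 4, 3, 0, 4, 2], [4, 3, 4, 3, 4, 5, 5], [6, 6, 6, 5], [5, 5, 7], [7, 8, 8, 7, 6, 7, 7, 6, 8], [9, 8, 9, 8, 8, 7, 7, 8], [7, 7, 8, 5, 9, 9, 4, 3, 1, 0, 1, 0], [9, 11, 9, 10, 8, 9, 9, 9, 10, 8], [12, 10, 12, 12, 9, 11, 11, 7, 7, 9, 11, 5, 7, 6, 4, 3, 4, 11, 3, 4]]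
    (by rw [card_top_M24]; exact Nat.le_of_ble_eq_true (by decide +kernel))

theorem autBy24 : AutBy (⊤ : Subgroup M24) (⊤ : Subgroup M24) :=
  autBy_of mulOk24 gpt_inj (faith_M24 _) le_rfl (fun _ hk _ hx => Subgroup.mul_mem _ (Subgroup.mul_mem _ hk hx) (Subgroup.inv_mem _ hk)) (p := 23) (m := 10644480) (by norm_num) card_top_M24 (by norm_num)
    out24_gen (fun _ _ ra => (cent_gen1 mulOk24 gpt_inj (faith_M24 ⊤) (B := [0, 23, 4, 3, 9, 11, 19]) (by decide) le_top
      (SK := [956302485175575353788796878166559809, 974380510768821363662145534143076928, 921841040779540204408771860564877408, 958679307344834587376075327169445248, 967270201796705417498053461833528928, 969999329664257111732989330142123520, 972364122272827033837244540413649248, 975202406163575003147595349001098880]) (inK_of_fixAll (A := []) (K := (⊤ : Subgroup M24)) (by decide +kernel) fun _ _ => trivial) card_top_M24.le trivial ra [] (S := [192786286039542568186584632028083671]) (by decide +kernel)).1.le)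
    (B := [0, 21, 8, 17, 22, 10, 19]) (SC := [732547040830877123215007266332115318]) (by decide) (M := 11)
    (fun _ _ rb => (cent_gen1 mulOk24 gpt_inj (faith_M24 ⊤) (B := [0, 21, 8, 17, 22, 10, 19]) (by decide) le_top
      (SK := [956302485175575353788796878166559809, 974380510768821363662145534143076928, 583690493180416989452452676390600800, 795286632646277393169568578569224672, 294224898861132377676477358608319808, 70977546607302994915561159914655360, 154044292547314676165511243265148064, 569412417191185079185822327843203232]) (inK_of_fixAll (A := []) (K := (⊤ : Subgroup M24)) (by decide +kernel) fun _ _ => trivial) card_top_M24.le trivial rb [] (by decide +kernel)).imp le_of_eq And.left)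
    (U := [984818244535754528103549039458486304, 13316754600397776103960819365597589, 897688834125726056176227254733743208, 335795945530867939944175694236835345, 732547040830877123215007266332115318, 926307808402578766229103527245075914, 445342981201564181730541883837882803, 790068642333490464352188912952231106, 110714757657076965555734614487751156, 842110047050657968403974825803033161, 395915585787746189379553171037637783]) (V := [984818244535754528103549039458486304]) (E := [1, 22]) ((inK_of_fixAll (A := []) (K := (⊤ : Subgroup M24)) (by decide +kernel) fun _ _ => trivial)) ((inK_of_fixAll (A := []) (K := (⊤ : Subgroup M24)) (by decide +kernel) fun _ _ => trivial)) (t := 8) (s := 2)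
    (by decide +kernel) (W := [(21, [0, 2]), (6, [2, 0, 2]), (15, [0, 2, 1])]) (by decide +kernel)

theorem card_out24 : Nat.card (Out (⊤ : Subgroup M24)) = 1 :=
  card_out_of_autBy le_rfl (fun _ hk _ hx => Subgroup.mul_mem _ (Subgroup.mul_mem _ hk hx) (Subgroup.inv_mem _ hk)) autBy24 (cent_triv mulOk24 gpt_inj (faith_M24 _) le_rfl (B := [0, 23, 4, 3, 9, 11, 19]) (by decide)
    (SL := [956302485175575353788796878166559809, 974380510768821363662145534143076928, 921841040779540204408771860564877408, 958679307344834587376075327169445248, 967270201796705417498053461833528928, 969999329664257111732989330142123520, 972364122272827033837244540413649248, 975202406163575003147595349001098880]) ((inK_of_fixAll (A := []) (K := (⊤ : Subgroup M24)) (by decide +kernel) fun _ _ => trivial)) card_top_M24.le out24_gen.1 (by decide +kernel)) (by rw [card_top_M24])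

end Cfsg.Agent.H16
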